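import Cfsg.Agent.Lib.GrossFpf.Lines
import Cfsg.Agent.Lib.Coprime.Action2
import Cfsg.Agent.Lib.Base.MinimalNormal

/-!
A `q'`-group of automorphisms of an elementary abelian `q`-group, normalised by an automorphism `γ`
of two-power order whose involution inverts only a section of order `q ^ 2`, is centralised by that
involution when `q ≠ q'` and both `q + 1` and `q' + 1` are powers of two.
-/

set_option autoImplicit false
set_option linter.style.haveILetI false
set_option linter.unusedSectionVars false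

namespace CfsgLib.GrossFpf

open scoped commutatorElement

variable {E : Type*} [CommGroup E] [Finite E]

theorem mul_self_zmod_three : ∀ s : ZMod 3, s ≠ 0 → s * s = 1 := by decide

theorem cases_zmod_three : ∀ s : ZMod 3, s = 0 ∨ s = 1 ∨ s = 2 := by decide

theorem pow_mem_normalizing {Γ : Type*} [Group Γ] {D : Subgroup Γ} {g : Γ}
    (hg : ∀ d ∈ D, g * d * g⁻¹ ∈ D) (i : ℕ) : ∀ d ∈ D, g ^ i * d * (g ^ i)⁻¹ ∈ D := by
  induction i with
  | zero => intro d hd; simpa using hd
  | succ i ih =>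
    intro d hd
    have := hg _ (ih d hd)
    rwa [show g * (g ^ i * d * (g ^ i)⁻¹) * g⁻¹ = g ^ (i + 1) * d * (g ^ (i + 1))⁻¹ by
      rw [pow_succ' g i]; group] at this

theorem plane_impossible {A : Type*} [CommGroup A] {q q' k l m : ℕ} [Fact q.Prime] [Fact q'.Prime]
    (hq : q + 1 = 2 ^ k) (hq' : q' + 1 = 2 ^ l) (hk : 2 ≤ k) (hl : 2 ≤ l) (hne : q ≠ q')
    (hkm : k ≤ m) (hexp : ∀ e : E, e ^ q = 1)
    (γ : MulAut E) (hγ : γ ^ 2 ^ m = 1) (D : Subgroup (MulAut E)) (hD : IsPGroup q' D)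
    (hγD : ∀ d ∈ D, γ * d * γ⁻¹ ∈ D)
    (hτD : ∃ d ∈ D, γ ^ 2 ^ (m - 1) * d ≠ d * γ ^ 2 ^ (m - 1))
    (W : Subgroup E) (hWdef : ∀ e, e ∈ W ↔ (γ ^ 2 ^ (m - 1)) e = e⁻¹) (hW : Nat.card W = q ^ 2)
    (ω : E →* E →* A) (hωD : ∀ d ∈ D, ∀ e f, ω (d e) (d f) = ω e f)
    (hωW : ∃ e ∈ W, ∃ f ∈ W, ω e f ≠ 1) : False := by
  classical
  haveI : Finite (MulAut E) := Finite.of_injective (fun a => (a : E → E)) fun a b h =>
    MulEquiv.ext fun e => congrFun h e
  have hqp : q.Prime := Fact.out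
  have hq'p : q'.Prime := Fact.out
  have hodd : Odd q' := by
    refine ⟨2 ^ (l - 1) - 1, ?_⟩
    have : 2 ^ l = 2 * 2 ^ (l - 1) := by rw [← pow_succ']; congr 1; omega
    have := Nat.one_le_two_pow (n := l - 1)
    omega
  set τ := γ ^ 2 ^ (m - 1) with hτ
  have hττ : τ * τ = 1 := by rw [hτ, ← pow_add, ← two_mul, ← pow_succ', Nat.sub_add_cancel (by omega), hγ]
  have hτinv : τ⁻¹ = τ := inv_eq_of_mul_eq_one_right hττ
  have hττe : ∀ e, τ (τ e) = e := fun e => by rw [← MulAut.mul_apply, hττ]; rfl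
  have hqodd : Odd q := by
    refine ⟨2 ^ (k - 1) - 1, ?_⟩
    have : 2 ^ k = 2 * 2 ^ (k - 1) := by rw [← pow_succ']; congr 1; omega
    have := Nat.one_le_two_pow (n := k - 1)
    omega
  -- a minimal subgroup moved by `τ`
  obtain ⟨Q, ⟨hQD, hQγ, hQτ⟩, hQmin⟩ := Set.exists_min_image
    {Q : Subgroup (MulAut E) | Q ≤ D ∧ (∀ d ∈ Q, γ * d * γ⁻¹ ∈ Q) ∧ ∃ d ∈ Q, τ * d ≠ d * τ}
    (fun Q => Nat.card Q) (Set.toFinite _) ⟨D, le_rfl, hγD, hτD⟩
  have hQτ' : ∀ d ∈ Q, τ * d * τ⁻¹ ∈ Q := pow_mem_normalizing hQγ _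
  have hproper : ∀ R : Subgroup (MulAut E), R ≤ Q → R ≠ Q → (∀ d ∈ R, γ * d * γ⁻¹ ∈ R) →
      ∀ d ∈ R, τ * d = d * τ := by
    intro R hR hRne hRγ
    by_contra hall
    push Not at hall
    exact hRne (Subgroup.eq_of_le_of_card_ge hR (hQmin R ⟨hR.trans hQD, hRγ, hall⟩))
  have hQp : IsPGroup q' Q := hD.to_le hQD
  set T := Subgroup.zpowers τ with hT
  have hTn : T ≤ Subgroup.normalizer (Q : Set (MulAut E)) := by
    rw [hT, Subgroup.zpowers_le, Subgroup.mem_normalizer_iff]
    intro d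
    refine ⟨fun hd => hQτ' d hd, fun hd => ?_⟩
    have := hQτ' _ hd
    rwa [hτinv, show τ * (τ * d * τ) * τ = (τ * τ) * d * (τ * τ) by group, hττ, one_mul, mul_one] at this
  have hτ1 : τ ≠ 1 := fun h => by
    obtain ⟨d, -, hd⟩ := hQτ
    exact hd (by rw [h, one_mul, mul_one])
  have hcopT : (Nat.card T).Coprime (Nat.card Q) := by
    obtain ⟨j, hj⟩ := IsPGroup.iff_card.1 hQp
    rw [hT, Nat.card_zpowers, orderOf_eq_prime (by rw [pow_two, hττ]) hτ1, hj]
    exact Nat.Coprime.pow_right _ hodd.coprime_two_left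
  haveI := hQp.isNilpotent
  have hQsol : Group.IsSolvable Q := inferInstance
  have hcommTeq : ⁅Q, T⁆ = Q := by
    have hle : ⁅Q, T⁆ ≤ Q := CfsgLib.Coprime.commutator_le_of_le_normalizer hTn
    by_contra hne'
    have hγT : ∀ d ∈ ⁅Q, T⁆, γ * d * γ⁻¹ ∈ ⁅Q, T⁆ := by
      intro d hd
      have h1 : (⁅Q, T⁆).map (MulAut.conj γ).toMonoidHom ≤ ⁅Q, T⁆ := by
        rw [Subgroup.map_commutator]
        refine Subgroup.commutator_mono ?_ ?_
        · rintro _ ⟨x, hx, rfl⟩; exact hQγ x hx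
        · rintro _ ⟨x, hx, rfl⟩
          obtain ⟨i, rfl⟩ := Subgroup.mem_zpowers_iff.1 hx
          show γ * τ ^ i * γ⁻¹ ∈ T
          rw [show γ * τ ^ i * γ⁻¹ = τ ^ i by
            rw [hτ, ← zpow_natCast, ← zpow_mul, mul_inv_eq_iff_eq_mul]
            exact ((Commute.refl γ).zpow_right _).eq]
          exact Subgroup.zpow_mem _ (Subgroup.mem_zpowers τ) i
      exact h1 ⟨d, hd, rfl⟩
    have hfix := hproper _ hle hne' hγT
    have hbot : ⁅⁅Q, T⁆, T⁆ = ⊥ := by
      rw [Subgroup.commutator_eq_bot_iff_le_centralizer]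
      intro d hd
      rw [hT, Subgroup.zpowers_eq_closure, Subgroup.centralizer_closure,
        Subgroup.mem_centralizer_singleton_iff]
      exact (hfix d hd).symm
    rw [CfsgLib.Coprime.commutator_commutator_eq hTn hcopT (Or.inr hQsol)] at hbot
    obtain ⟨d, hd, hd'⟩ := hQτ
    have := Subgroup.commutator_eq_bot_iff_le_centralizer.1 hbot hd
    exact hd' (Subgroup.mem_centralizer_iff.1 this τ (Subgroup.mem_zpowers τ))
  -- elements acting trivially on the part moved by `τ`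
  have hcop_pow : ∀ d ∈ Q, ∀ e : E, d (d e) = e → d e = e := by
    intro d hd e he
    obtain ⟨j, hj⟩ := hQp ⟨d, hd⟩
    have hdj : d ^ q' ^ j = 1 := congrArg Subtype.val hj
    have hev : ∀ i : ℕ, (d ^ (2 * i)) e = e := by
      intro i
      induction i with
      | zero => rfl
      | succ i ih => rw [Nat.mul_succ, pow_add, MulAut.mul_apply, pow_two, MulAut.mul_apply, he, ih]
    obtain ⟨i, hi⟩ := hodd.pow (n := j)
    rw [hi, pow_succ'] at hdj
    calc d e = d ((d ^ (2 * i)) e) := by rw [hev]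
      _ = e := by rw [← MulAut.mul_apply, hdj]; rfl
  let ψ : MulAut E → (E →* E) := fun d =>
    MonoidHom.mk' (fun e => d e * e⁻¹) fun a b => by
      rw [map_mul, mul_inv, mul_mul_mul_comm]
  have hψ : ∀ d e, ψ d e = d e * e⁻¹ := fun _ _ => rfl
  have hrange_fix : ∀ d ∈ Q, ∀ y ∈ (ψ d).range, d y = y → y = 1 := by
    rintro d hd _ ⟨e, rfl⟩ hy
    rw [hψ] at hy ⊢
    set y := d e * e⁻¹ with hy'
    have hde : d e = e * y := by rw [hy', mul_comm (d e), mul_inv_cancel_left]
    have hiter : ∀ i : ℕ, (d ^ i) e = e * y ^ i := by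
      intro i
      induction i with
      | zero => simp
      | succ i ih =>
        rw [pow_succ', MulAut.mul_apply, ih, map_mul, map_pow, hy, hde, mul_assoc, ← pow_succ']
    obtain ⟨j, hj⟩ := hQp ⟨d, hd⟩
    have hdj : d ^ q' ^ j = 1 := congrArg Subtype.val hj
    have h1 := hiter (q' ^ j)
    rw [hdj, MulAut.one_apply, left_eq_mul] at h1
    exact orderOf_eq_one_iff.1 (Nat.eq_one_of_dvd_coprimes
      (((Nat.coprime_primes hqp hq'p).2 hne).pow_right j)
      (orderOf_dvd_of_pow_eq_one (hexp y)) (orderOf_dvd_of_pow_eq_one h1))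
  have htrivial_of_fix : ∀ Y : Subgroup E, (∀ d ∈ Q, ∀ y ∈ Y, d y ∈ Y) → (∀ y ∈ Y, τ y = y) →
      ∀ d ∈ Q, ∀ y ∈ Y, d y = y := by
    intro Y hYQ hYτ
    let F : Subgroup (MulAut E) :=
      { carrier := {d | ∀ y ∈ Y, d y = y}
        one_mem' := fun _ _ => rfl
        mul_mem' := fun {a b} ha hb y hy => by rw [MulAut.mul_apply, hb y hy, ha y hy]
        inv_mem' := fun {a} ha y hy => by
          conv_lhs => rw [← ha y hy]
          rw [← MulAut.mul_apply, inv_mul_cancel]; rfl }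
    have hle : ⁅Q, T⁆ ≤ F := by
      rw [Subgroup.commutator_le]
      intro d hd t ht y hy
      have hty : ∀ t ∈ T, ∀ z ∈ Y, t z = z := by
        intro t ht z hz
        obtain ⟨i, rfl⟩ := Subgroup.mem_zpowers_iff.1 ht
        exact (zpow_mem (show τ ∈ ({ carrier := {g | g z = z}
                                     one_mem' := rfl
                                     mul_mem' := fun {a b} (ha : a z = z) (hb : b z = z) => by
                                       show (a * b) z = z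
                                       rw [MulAut.mul_apply, hb, ha]
                                     inv_mem' := fun {a} (ha : a z = z) => by
                                       show a⁻¹ z = z
                                       conv_lhs => rw [← ha]
                                       rw [← MulAut.mul_apply, inv_mul_cancel]; rfl } :
          Subgroup (MulAut E)) from hYτ z hz) i)
      rw [commutatorElement_def, MulAut.mul_apply, MulAut.mul_apply, MulAut.mul_apply,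
        hty _ (inv_mem ht) y hy, hty t ht _ (hYQ _ (inv_mem hd) y hy), ← MulAut.mul_apply,
        mul_inv_cancel]
      rfl
    rw [hcommTeq] at hle
    exact fun d hd => hle hd
  have hinvW : ∀ Y : Subgroup E, (∀ y ∈ Y, τ y ∈ Y) → (∀ w ∈ W, w ∈ Y → w = 1) → ∀ y ∈ Y, τ y = y := by
    intro Y hYτ hdis y hy
    have hw : τ y * y⁻¹ ∈ W := by
      rw [hWdef, map_mul, map_inv, hττe, mul_inv_rev, inv_inv]
    exact mul_inv_eq_one.1 (hdis _ hw (mul_mem (hYτ y hy) (inv_mem hy)))
  obtain ⟨j₀, hj₀⟩ := IsPGroup.iff_card.1 hQp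
  have hQne : Q ≠ ⊥ := fun h => by
    obtain ⟨d, hd, hd'⟩ := hQτ
    rw [h, Subgroup.mem_bot] at hd
    exact hd' (by rw [hd, one_mul, mul_one])
  -- the derived subgroup
  set Q1 := ⁅Q, Q⁆ with hQ1
  have hQ1Q : Q1 ≤ Q := Subgroup.commutator_le_self Q
  have hQ1γ : ∀ d ∈ Q1, γ * d * γ⁻¹ ∈ Q1 := by
    intro d hd
    have h1 : Q1.map (MulAut.conj γ).toMonoidHom ≤ Q1 := by
      rw [hQ1, Subgroup.map_commutator]
      refine Subgroup.commutator_mono ?_ ?_ <;>
      · rintro _ ⟨x, hx, rfl⟩; exact hQγ x hx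
    exact h1 ⟨d, hd, rfl⟩
  have hQ1lt : Q1 ≠ Q := (CfsgLib.Base.commutator_self_lt_of_isSolvable hQne hQsol).ne
  have hQ1τ := hproper Q1 hQ1Q hQ1lt hQ1γ
  have hQ1c : ∀ c ∈ Q1, ∀ d ∈ Q, c * d = d * c := by
    have h1 : ⁅⁅Q1, Q⁆, T⁆ = ⊥ := by
      rw [Subgroup.commutator_eq_bot_iff_le_centralizer, hT, Subgroup.zpowers_eq_closure,
        Subgroup.centralizer_closure]
      intro d hd
      rw [Subgroup.mem_centralizer_singleton_iff]
      exact (hQ1τ d ((Subgroup.commutator_mono hQ1Q le_rfl : ⁅Q1, Q⁆ ≤ ⁅Q, Q⁆) hd)).symm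
    have h2 : ⁅⁅T, Q1⁆, Q⁆ = ⊥ := by
      have : ⁅T, Q1⁆ = ⊥ := by
        rw [Subgroup.commutator_comm, Subgroup.commutator_eq_bot_iff_le_centralizer, hT,
          Subgroup.zpowers_eq_closure, Subgroup.centralizer_closure]
        intro d hd
        rw [Subgroup.mem_centralizer_singleton_iff]
        exact (hQ1τ d hd).symm
      rw [this, Subgroup.commutator_bot_left]
    have h3 : ⁅⁅Q, T⁆, Q1⁆ = ⊥ := Subgroup.commutator_commutator_eq_bot_of_rotate h2 h1
    rw [hcommTeq, Subgroup.commutator_eq_bot_iff_le_centralizer] at h3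
    exact fun c hc d hd => Subgroup.mem_centralizer_iff.1 (h3 hd) c hc
  haveI : Fintype E := Fintype.ofFinite E
  have hlines := card_lines W (fun e _ => hexp e) hW
  have hγτ : ∀ e, τ (γ e) = γ (τ e) := fun e => by
    rw [← MulAut.mul_apply, ← MulAut.mul_apply, hτ, ← pow_succ, ← pow_succ']
  have hγW : ∀ w ∈ W, γ w ∈ W := fun w hw => by
    rw [hWdef] at hw ⊢; rw [hγτ, hw, map_inv]
  -- `γ ^ 4` fixes a point of a `γ ^ 2`-invariant line
  have hline4 : ∀ L : Line q W, (∀ w ∈ L.1, γ (γ w) ∈ L.1) → 3 ≤ m → False := by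
    intro L hL hm
    obtain ⟨w, hw, hw1, hz⟩ := exists_generator L.2.2
    have h4 : γ (γ (γ (γ w))) = w := by
      have := apply_apply_of_mem_zpowers hq hk (γ * γ) (i := 2 ^ 0 * (m - 1)) (by
        rw [← pow_two, ← pow_mul, ← pow_succ', pow_zero, one_mul,
          Nat.sub_add_cancel (by omega), hγ]) (hexp w) (by rw [hz]; exact hL w hw)
      exact this
    have hτw : τ w = w := by
      have hi : ∀ i : ℕ, (γ ^ (4 * i)) w = w := by
        intro i
        induction i with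
        | zero => rfl
        | succ i ih =>
          rw [Nat.mul_succ, pow_add, MulAut.mul_apply, show (γ ^ 4) w = γ (γ (γ (γ w))) from rfl, h4,
            ih]
      rw [hτ, show 2 ^ (m - 1) = 4 * 2 ^ (m - 3) by
        rw [show (4 : ℕ) = 2 ^ 2 from rfl, ← pow_add]; congr 1; omega]
      exact hi _
    have hw2 := (hWdef w).1 (L.2.1 hw)
    rw [hτw, eq_inv_iff_mul_eq_one, ← pow_two] at hw2
    exact hw1 (orderOf_eq_one_iff.1 (Nat.eq_one_of_dvd_coprimes hqodd.coprime_two_left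
      (orderOf_dvd_of_pow_eq_one hw2) (orderOf_dvd_of_pow_eq_one (hexp w))))
  -- central commutators fix `W`
  have hQ1W : ∀ c ∈ Q1, ∀ w ∈ W, c w = w := by
    intro c hc
    by_contra hne'
    push Not at hne'
    obtain ⟨w₀, hw₀, hcw₀⟩ := hne'
    have hcW : ∀ c ∈ Q1, ∀ w ∈ W, c w ∈ W := fun c hc w hw => by
      rw [hWdef] at hw ⊢
      rw [← MulAut.mul_apply, hQ1τ c hc, MulAut.mul_apply, hw, map_inv]
    have hscal : ∀ c ∈ Q1, ∀ a : ℤ, (∀ w ∈ W, c w = w ^ a) → ∀ w ∈ W, c w = w := by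
      intro c hc a ha w hw
      obtain ⟨e, he, f, hf, hef⟩ := hωW
      have h1 := hωD c (hQD (hQ1Q hc)) e f
      rw [ha e he, ha f hf, map_zpow, map_zpow, MonoidHom.zpow_apply, ← zpow_mul] at h1
      have hωq : ω e f ^ q = 1 := by rw [← map_pow, hexp, map_one]
      have h2 := cast_eq_of_zpow hωq hef (h1.trans (zpow_one _).symm)
      have h3 : c (c w) = w := by
        rw [ha w hw, map_zpow, ha w hw, ← zpow_mul]
        conv_rhs => rw [← zpow_one w]
        exact zpow_eq_of_cast (hexp w) h2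
      exact hcop_pow c (hQ1Q hc) w h3
    let act : Line q W → Line q W := fun L =>
      ⟨L.1.map (c : MulAut E).toMonoidHom, by
        rintro _ ⟨x, hx, rfl⟩; exact hcW c hc x (L.2.1 hx),
       by rw [Subgroup.card_map_of_injective c.injective, L.2.2]⟩
    haveI : Finite (Line q W) := inferInstance
    haveI : Fintype (Line q W) := Fintype.ofFinite _
    obtain ⟨j, hj⟩ := hQp ⟨c, hQ1Q hc⟩
    have hcj : c ^ q' ^ j = 1 := congrArg Subtype.val hj
    have hactpow : ∀ (i : ℕ) (L : Line q W), ((act^[i]) L).1 = L.1.map (c ^ i).toMonoidHom := by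
      intro i
      induction i with
      | zero => intro L; exact (Subgroup.map_id _).symm
      | succ i ih =>
        intro L
        rw [Function.iterate_succ', Function.comp_apply]
        show (((act^[i]) L).1).map c.toMonoidHom = _
        rw [ih, Subgroup.map_map]
        congr 1
        rw [pow_succ']
        rfl
    let fE : Function.End (Line q W) := act
    have hpowE : ∀ (i : ℕ) (L : Line q W), (fE ^ i) L = (act^[i]) L := by
      intro i
      induction i with
      | zero => intro L; rfl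
      | succ i ih =>
        intro L
        rw [pow_succ', Function.iterate_succ', Function.comp_apply, ← ih]
        rfl
    have hfixed := Equiv.Perm.card_fixedPoints_modEq (f := fE) (p := q') (n := j)
      (funext fun L => by
        rw [hpowE]
        refine Subtype.ext ?_
        rw [hactpow, hcj]
        exact Subgroup.map_id _)
    rw [← Nat.card_eq_fintype_card, hlines] at hfixed
    have hmemfix : ∀ L : Function.fixedPoints act, ∀ x ∈ L.1.1, c x ∈ L.1.1 := fun L x hx => by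
      have h := congrArg Subtype.val L.2
      rw [← h]
      exact ⟨x, hx, rfl⟩
    have h2fix : ∃ L₁ L₂ : Function.fixedPoints act, L₁ ≠ L₂ := by
      by_contra hall
      push Not at hall
      haveI : Subsingleton (Function.fixedPoints act) := ⟨hall⟩
      rcases Nat.eq_zero_or_pos (Fintype.card (Function.fixedPoints act)) with h0 | h0
      · rw [h0] at hfixed
        have h1 : q' ∣ 2 ^ k := by rw [← hq]; exact Nat.modEq_zero_iff_dvd.1 hfixed
        have := (Nat.prime_dvd_prime_iff_eq hq'p Nat.prime_two).1 (hq'p.dvd_of_dvd_pow h1)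
        rw [this] at hodd
        exact absurd hodd (by decide)
      · have h1 : Fintype.card (Function.fixedPoints act) = 1 :=
          le_antisymm (Fintype.card_le_one_iff_subsingleton.2 inferInstance) h0
        rw [h1] at hfixed
        have h2 : q' ∣ q := by
          have := (Nat.modEq_iff_dvd' (by omega)).1 hfixed.symm
          simpa using this
        exact hne ((Nat.prime_dvd_prime_iff_eq hq'p hqp).1 h2).symm
    obtain ⟨L₁, L₂, h12⟩ := h2fix
    have honly : ∀ L : Line q W, (∀ x ∈ L.1, c x ∈ L.1) → L = L₁.1 ∨ L = L₂.1 := by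
      intro L hL
      by_contra hne''
      push Not at hne''
      obtain ⟨a, ha⟩ := scalar_of_three_lines W (fun e _ => hexp e) hW c.toMonoidHom L₁.1 L₂.1 L
        (fun h => h12 (Subtype.ext h)) hne''.1.symm hne''.2.symm (hmemfix L₁) (hmemfix L₂) hL
      exact hcw₀ (hscal c hc a ha w₀ hw₀)
    let γL : Line q W → Line q W := fun L =>
      ⟨L.1.map γ.toMonoidHom, by rintro _ ⟨x, hx, rfl⟩; exact hγW x (L.2.1 hx),
       by rw [Subgroup.card_map_of_injective γ.injective, L.2.2]⟩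
    have hγfix : ∀ L : Function.fixedPoints act, γL L.1 = L₁.1 ∨ γL L.1 = L₂.1 := by
      intro L
      -- `γ⁻¹ c γ` permutes the two lines of `c`
      set c' := γ ^ (2 ^ m - 1) * c * (γ ^ (2 ^ m - 1))⁻¹ with hc'
      have hc'Q : c' ∈ Q1 := pow_mem_normalizing hQ1γ _ c hc
      have hinvγ : γ ^ (2 ^ m - 1) = γ⁻¹ := eq_inv_of_mul_eq_one_left (by
        rw [← pow_succ, Nat.sub_add_cancel Nat.one_le_two_pow, hγ])
      have hperm : ∀ M : Function.fixedPoints act, ∃ M' : Line q W,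
          M'.1 = M.1.1.map c'.toMonoidHom ∧ (M' = L₁.1 ∨ M' = L₂.1) := by
        intro M
        refine ⟨⟨M.1.1.map c'.toMonoidHom, by rintro _ ⟨x, hx, rfl⟩; exact hcW c' hc'Q x (M.1.2.1 hx),
          by rw [Subgroup.card_map_of_injective c'.injective, M.1.2.2]⟩, rfl, honly _ ?_⟩
        rintro _ ⟨x, hx, rfl⟩
        refine ⟨c x, hmemfix M x hx, ?_⟩
        show c' (c x) = c (c' x)
        rw [← MulAut.mul_apply, ← MulAut.mul_apply, hQ1c c' hc'Q c (hQ1Q hc)]
      have hstay : ∀ x ∈ L.1.1, c' x ∈ L.1.1 := by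
        have hL := honly L.1 (hmemfix L)
        by_contra hmove
        all_goals
          push Not at hmove
          obtain ⟨x, hx, hx'⟩ := hmove
          obtain ⟨M', hM', hM'e⟩ := hperm L
          obtain ⟨j', hj'⟩ := hQp ⟨c', hQ1Q hc'Q⟩
          have hcj' : c' ^ q' ^ j' = 1 := congrArg Subtype.val hj'
          have hne3 : M' ≠ L.1 := fun h => hx' (by
            rw [← h, hM']
            exact ⟨x, hx, rfl⟩)
          obtain ⟨M2, hM2, hM2e⟩ := hperm ⟨M', by
            refine Subtype.ext (Subgroup.eq_of_le_of_card_ge ?_ ?_)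
            · rintro _ ⟨y, hy, rfl⟩
              rw [hM'] at hy ⊢
              obtain ⟨z, hz, rfl⟩ := hy
              refine ⟨c z, hmemfix L z hz, ?_⟩
              show c' (c z) = c (c' z)
              rw [← MulAut.mul_apply, ← MulAut.mul_apply, hQ1c c' hc'Q c (hQ1Q hc)]
            · rw [M'.2.2, (act M').2.2]⟩
          have hM2L : M2 = L.1 := by
            have hneq : M2 ≠ M' := fun h => hne3 (Subtype.ext (Subgroup.map_injective
              (f := c'.toMonoidHom) c'.injective (by rw [← hM2, h, hM'])))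
            rcases hL with hL | hL <;> rcases hM'e with h1 | h1 <;> rcases hM2e with h2 | h2 <;> first
              | exact h2.trans hL.symm
              | exact absurd (h1.trans hL.symm) hne3
              | exact absurd (h2.trans h1.symm) hneq
          have hsq : ∀ i : ℕ, L.1.1.map (c' ^ (2 * i)).toMonoidHom = L.1.1 := by
            intro i
            induction i with
            | zero => rw [Nat.mul_zero, pow_zero]; exact Subgroup.map_id _
            | succ i ih =>
              have h1 : L.1.1.map (c' * c').toMonoidHom = L.1.1 := by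
                conv_rhs => rw [← hM2L, hM2]
                show _ = Subgroup.map c'.toMonoidHom M'.1
                rw [hM', Subgroup.map_map]
                rfl
              rw [Nat.mul_succ, pow_add, pow_two]
              conv_rhs => rw [← ih, ← h1, Subgroup.map_map]
              rfl
          obtain ⟨i, hi⟩ := hodd.pow (n := j')
          apply hne3
          refine Subtype.ext ?_
          rw [hi, pow_succ', mul_eq_one_iff_eq_inv] at hcj'
          have h2 := hsq i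
          rw [hM', hcj']
          conv_lhs => rw [← h2, Subgroup.map_map]
          show L.1.1.map ((c' ^ (2 * i))⁻¹ * c' ^ (2 * i)).toMonoidHom = _
          rw [inv_mul_cancel]
          exact Subgroup.map_id _
      refine honly _ ?_
      rintro _ ⟨x, hx, rfl⟩
      refine ⟨c' x, hstay x hx, ?_⟩
      show γ (c' x) = c (γ x)
      rw [hc', hinvγ, inv_inv, MulAut.mul_apply, MulAut.mul_apply]
      exact γ.apply_symm_apply _
    have hinj : Function.Injective γL := fun L M h =>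
      Subtype.ext (Subgroup.map_injective (f := γ.toMonoidHom) γ.injective (congrArg Subtype.val h))
    have hγ2 : γL (γL L₁.1) = L₁.1 := by
      rcases hγfix L₁ with h | h
      · rw [h, h]
      · rcases hγfix L₂ with h' | h'
        · rw [h, h']
        · exact absurd (hinj (h.trans h'.symm)) (fun e => h12 (Subtype.ext e))
    by_cases hm3 : 3 ≤ m
    · refine hline4 L₁.1 (fun w hw => ?_) hm3
      rw [← hγ2]
      exact ⟨γ w, ⟨w, hw, rfl⟩, rfl⟩
    · have hk2 : k = 2 := by omega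
      subst hk2
      have hq3 : q = 3 := by omega
      subst hq3
      -- on a line of order three, an automorphism of odd order is trivial
      have hfixL : ∀ M : Function.fixedPoints act, ∀ w ∈ M.1.1, c w = w := by
        intro M w hw
        refine hcop_pow c (hQ1Q hc) w ?_
        by_cases hw1 : w = 1
        · simp [hw1]
        have hz := line_eq_zpowers M.1.2.2 hw hw1
        obtain ⟨t, ht⟩ := Subgroup.mem_zpowers_iff.1 (hz.symm ▸ hmemfix M w hw)
        rw [← ht, map_zpow, ← ht, ← zpow_mul]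
        conv_rhs => rw [← zpow_one w]
        refine zpow_eq_of_cast (hexp w) ?_
        push_cast
        have ht0 : (t : ZMod 3) ≠ 0 := fun h => hw1 (c.injective (by
          rw [← ht, zpow_eq_of_cast (hexp w) (i := t) (j := 0) (by simpa using h), zpow_zero, map_one]))
        exact mul_self_zmod_three _ ht0
      have hsup : L₁.1.1 ⊔ L₂.1.1 = W := by
        refine Subgroup.eq_of_le_of_card_ge (sup_le L₁.1.2.1 L₂.1.2.1) ?_
        have hinf : L₁.1.1 ⊓ L₂.1.1 = ⊥ := by
          by_contra h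
          obtain ⟨x, hx, hx1⟩ := (Subgroup.bot_or_exists_ne_one _).resolve_left h
          exact h12 (Subtype.ext (Subtype.ext ((line_eq_zpowers L₁.1.2.2 hx.1 hx1).symm.trans
            (line_eq_zpowers L₂.1.2.2 hx.2 hx1))))
        rw [CfsgLib.Coprime.card_sup_of_inf_eq_bot Subgroup.le_normalizer_of_normal hinf, L₁.1.2.2,
          L₂.1.2.2, hW, pow_two]
      rw [← hsup, Subgroup.mem_sup] at hw₀
      obtain ⟨y, hy, z, hz, rfl⟩ := hw₀
      exact hcw₀ (by rw [map_mul, hfixL L₁ y hy, hfixL L₂ z hz])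
  -- elements fixing `W` are trivial
  have hkernel : ∀ h ∈ Q, (∀ d ∈ Q, h * d = d * h) →
      (∀ y, τ (ψ h y) ∈ (ψ h).range) → (∀ w ∈ W, h w = w) → h = 1 := by
    intro h hh hcentral hτr hfix
    set Y := (ψ h).range with hY
    have hYQ : ∀ d ∈ Q, ∀ y ∈ Y, d y ∈ Y := by
      rintro d hd _ ⟨e, rfl⟩
      refine ⟨d e, ?_⟩
      rw [hψ, hψ, map_mul, map_inv, ← MulAut.mul_apply, hcentral d hd, MulAut.mul_apply]
    have hYfix := htrivial_of_fix Y hYQ (hinvW Y (by rintro _ ⟨e, rfl⟩; exact hτr e)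
      fun w hw hwY => hrange_fix h hh w hwY (hfix w hw))
    refine MulEquiv.ext fun e => ?_
    have h1 := hrange_fix h hh _ ⟨e, rfl⟩ (hYfix h hh _ ⟨e, rfl⟩)
    rw [hψ, mul_inv_eq_one] at h1
    rw [h1]; rfl
  have hQ1bot : Q1 = ⊥ := by
    rw [eq_bot_iff]
    intro c hc
    rw [Subgroup.mem_bot]
    refine hkernel c (hQ1Q hc) (hQ1c c hc) (fun y => ⟨τ y, ?_⟩) (hQ1W c hc)
    rw [hψ, hψ, map_mul, map_inv, ← MulAut.mul_apply, ← hQ1τ c hc, MulAut.mul_apply]
  have hab : ∀ a ∈ Q, ∀ b ∈ Q, a * b = b * a := by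
    rw [hQ1, Subgroup.commutator_eq_bot_iff_le_centralizer] at hQ1bot
    exact fun a ha b hb => Subgroup.mem_centralizer_iff.1 (hQ1bot hb) a ha
  -- `τ` inverts `Q`
  have hinv : ∀ d ∈ Q, τ * d * τ⁻¹ = d⁻¹ := by
    let I : Subgroup (MulAut E) :=
      { carrier := {d | d ∈ Q ∧ τ * d * τ⁻¹ = d⁻¹}
        one_mem' := ⟨Q.one_mem, by simp⟩
        mul_mem' := fun {a b} ha hb => ⟨Q.mul_mem ha.1 hb.1, by
          rw [show τ * (a * b) * τ⁻¹ = (τ * a * τ⁻¹) * (τ * b * τ⁻¹) by group, ha.2, hb.2,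
            ← mul_inv_rev, hab b hb.1 a ha.1]⟩
        inv_mem' := fun {a} ha => ⟨Q.inv_mem ha.1, by
          rw [show τ * a⁻¹ * τ⁻¹ = (τ * a * τ⁻¹)⁻¹ by group, ha.2]⟩ }
    have hle : ⁅Q, T⁆ ≤ I := by
      rw [Subgroup.commutator_le]
      intro d hd t ht
      obtain ⟨i, rfl⟩ := Subgroup.mem_zpowers_iff.1 ht
      rcases Int.even_or_odd i with ⟨r, hr⟩ | ⟨r, hr⟩
      · rw [hr, ← two_mul, zpow_mul, show τ ^ (2 : ℤ) = 1 by rw [zpow_two, hττ], one_zpow,
          commutatorElement_one_right]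
        exact one_mem _
      · rw [hr, zpow_add, zpow_mul, show τ ^ (2 : ℤ) = 1 by rw [zpow_two, hττ], one_zpow, one_mul,
          zpow_one]
        have h1 : τ * d⁻¹ * τ⁻¹ ∈ Q := hQτ' _ (inv_mem hd)
        refine ⟨?_, ?_⟩
        · rw [commutatorElement_def, show d * τ * d⁻¹ * τ⁻¹ = d * (τ * d⁻¹ * τ⁻¹) by group]
          exact mul_mem hd h1
        · rw [commutatorElement_def, hτinv]
          simp only [mul_inv_rev, inv_inv, hτinv]
          have hττ' : ∀ x : MulAut E, τ * (τ * x) = x := fun x => by rw [← mul_assoc, hττ, one_mul]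
          simp only [mul_assoc, hττ, mul_one]
    rw [hcommTeq] at hle
    exact fun d hd => (hle hd).2
  have hnofix : ∀ d ∈ Q, τ * d = d * τ → d = 1 := by
    intro d hd hc
    have h1 := hinv d hd
    rw [hc, mul_inv_cancel_right] at h1
    have h2 : d * d = 1 := by rw [← mul_inv_cancel d]; exact congrArg (d * ·) h1
    obtain ⟨i, hi⟩ := (hQp ⟨d, hd⟩)
    refine orderOf_eq_one_iff.1 (Nat.eq_one_of_dvd_coprimes (hodd.pow (n := i)).coprime_two_left
      (orderOf_dvd_of_pow_eq_one (by rw [pow_two, h2]))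
      (orderOf_dvd_of_pow_eq_one (congrArg Subtype.val hi)))
  -- `Q` is elementary
  have helem : ∀ d ∈ Q, d ^ q' = 1 := by
    let O : Subgroup (MulAut E) :=
      { carrier := {d | d ∈ Q ∧ d ^ q' = 1}
        one_mem' := ⟨Q.one_mem, one_pow _⟩
        mul_mem' := fun {a b} ha hb => ⟨Q.mul_mem ha.1 hb.1, by
          rw [(show Commute a b from hab a ha.1 b hb.1).mul_pow, ha.2, hb.2, one_mul]⟩
        inv_mem' := fun {a} ha => ⟨Q.inv_mem ha.1, by rw [inv_pow, ha.2, inv_one]⟩ }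
    have hO : O = Q := by
      by_contra hne'
      have h1 := hproper O (fun d hd => hd.1) hne' (fun d hd => ⟨hQγ d hd.1, by
        rw [conj_pow, hd.2, mul_one, mul_inv_cancel]⟩)
      obtain ⟨x, hx⟩ := exists_prime_orderOf_dvd_card' (G := Q) q' (by
        rw [hj₀]
        refine dvd_pow_self q' fun h => hQne ?_
        rw [h, pow_zero, Subgroup.card_eq_one] at hj₀
        exact hj₀)
      have hxq : (x : MulAut E) ^ q' = 1 := by
        rw [← hx, ← Subgroup.orderOf_coe]; exact pow_orderOf_eq_one _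
      have := hnofix _ x.2 (h1 _ ⟨x.2, hxq⟩)
      rw [← Subgroup.orderOf_coe, this, orderOf_one] at hx
      exact hq'p.one_lt.ne hx
    exact fun d hd => (hO.symm ▸ hd : d ∈ O).2
  -- `Q` is not cyclic
  letI : CommGroup Q := { (inferInstance : Group Q) with
    mul_comm := fun a b => Subtype.ext (hab a a.2 b b.2) }
  have hncyc : ¬ IsCyclic Q := by
    intro hcyc
    obtain ⟨g, hg⟩ := hcyc.exists_generator
    let δ : MulAut (MulAut E) := MulAut.conj γ
    have hg' : δ (g : MulAut E) ∈ Subgroup.zpowers (g : MulAut E) := by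
      obtain ⟨i, hi⟩ := Subgroup.mem_zpowers_iff.1 (hg ⟨_, hQγ g g.2⟩)
      exact Subgroup.mem_zpowers_iff.2 ⟨i, by rw [← Subgroup.coe_zpow, hi]; rfl⟩
    have h2 := apply_apply_of_mem_zpowers hq' hl δ (i := m) (by rw [← map_pow, hγ, map_one])
      (helem g g.2) hg'
    have hτg : τ * g = g * τ := by
      have hi : ∀ i : ℕ, (δ ^ (2 * i)) (g : MulAut E) = g := by
        intro i
        induction i with
        | zero => rfl
        | succ i ih => rw [Nat.mul_succ, pow_add, MulAut.mul_apply, pow_two, MulAut.mul_apply, h2, ih]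
      have := hi (2 ^ (m - 2))
      rw [show 2 * 2 ^ (m - 2) = 2 ^ (m - 1) by rw [← pow_succ']; congr 1; omega, ← map_pow,
        MulAut.conj_apply] at this
      exact mul_inv_eq_iff_eq_mul.1 this
    refine hQne (eq_bot_iff.2 fun d hd => Subgroup.mem_bot.2 ?_)
    obtain ⟨i, hi⟩ := Subgroup.mem_zpowers_iff.1 (hg ⟨d, hd⟩)
    have h1 : (g : MulAut E) = 1 := hnofix g g.2 hτg
    have h3 := congrArg Subtype.val hi
    rw [Subgroup.coe_zpow, h1, one_zpow] at h3
    exact h3.symm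
  have hkernel' : ∀ h ∈ Q, (∀ w ∈ W, h w = w) → h = 1 := by
    intro h hh hfix
    refine hkernel h hh (hab h hh) (fun y => ⟨(h⁻¹ (τ y))⁻¹, ?_⟩) hfix
    have h1 : τ (h y) = h⁻¹ (τ y) := by
      rw [← MulAut.mul_apply, ← MulAut.mul_apply, ← hinv h hh, inv_mul_cancel_right]
    rw [hψ, hψ, map_mul τ, map_inv τ, h1, map_inv, inv_inv, mul_comm]
    congr 1
    rw [← MulAut.mul_apply, mul_inv_cancel]; rfl
  -- a noncyclic elementary group acting on a `Q`- and `τ`-invariant subgroup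
  obtain ⟨r, x, y, hr, hx, hy, hy1, hxy⟩ := CfsgLib.Coprime.exists_pair_of_not_isCyclic hncyc
  have hrq : r = q' := by
    have h1 : orderOf y = r := by
      haveI := Fact.mk hr
      exact orderOf_eq_prime hy hy1
    have h2 : orderOf y ∣ q' := orderOf_dvd_of_pow_eq_one (Subtype.ext (helem y y.2))
    rw [h1] at h2
    exact (Nat.prime_dvd_prime_iff_eq hr hq'p).1 h2
  subst hrq
  have hpair : ∀ h₀ ∈ Q, h₀ ≠ 1 → ∃ h' ∈ Q, h' ≠ 1 ∧ ∃ w ∈ W, w ≠ 1 ∧ h₀ w ≠ w ∧ h' w = w := by
    intro h₀ hh₀ hne₀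
    set M := (ψ h₀).range with hM
    have hMQ : ∀ d ∈ Q, ∀ z ∈ M, d z ∈ M := by
      rintro d hd _ ⟨e, rfl⟩
      refine ⟨d e, ?_⟩
      rw [hψ, hψ, map_mul, map_inv, ← MulAut.mul_apply, hab h₀ hh₀ d hd, MulAut.mul_apply]
    have hMτ : ∀ z ∈ M, τ z ∈ M := by
      rintro _ ⟨e, rfl⟩
      refine ⟨(h₀⁻¹ (τ e))⁻¹, ?_⟩
      have h1 : τ (h₀ e) = h₀⁻¹ (τ e) := by
        rw [← MulAut.mul_apply, ← MulAut.mul_apply, ← hinv h₀ hh₀, inv_mul_cancel_right]
      rw [hψ, hψ, map_mul τ, map_inv τ, h1, map_inv, inv_inv, mul_comm]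
      congr 1
      rw [← MulAut.mul_apply, mul_inv_cancel]; rfl
    let res : Q → MulAut M := fun d =>
      { toFun := fun z => ⟨(d : MulAut E) z, hMQ d d.2 z z.2⟩
        invFun := fun z => ⟨(d : MulAut E)⁻¹ z, hMQ _ (inv_mem d.2) z z.2⟩
        left_inv := fun z => Subtype.ext (by simp)
        right_inv := fun z => Subtype.ext (by simp)
        map_mul' := fun a b => Subtype.ext (by simp) }
    let resH : Q →* MulAut M := MonoidHom.mk' res fun a b => MulEquiv.ext fun z => Subtype.ext rfl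
    obtain ⟨e₀, he₀⟩ : ∃ e, h₀ e ≠ e := by
      by_contra hall
      push Not at hall
      exact hne₀ (MulEquiv.ext hall)
    obtain ⟨d, hd1, z, hzM, hz1, hdz⟩ : ∃ d : Q, d ≠ 1 ∧ ∃ z : E, z ∈ M ∧ z ≠ 1 ∧ (d : MulAut E) z = z := by
      by_contra hall
      push Not at hall
      have hq0 : ∀ v : M, v ^ r = 1 → v = 1 := fun v hv =>
        Subtype.ext (orderOf_eq_one_iff.1 (Nat.eq_one_of_dvd_coprimes
          ((Nat.coprime_primes hqp hq'p).2 hne) (orderOf_dvd_of_pow_eq_one (hexp v.1))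
          (orderOf_dvd_of_pow_eq_one (congrArg Subtype.val hv))))
      have h := CfsgLib.Coprime.eq_one_of_fixedPointFree_pair hr hq0 (resH x) (resH y)
        ((Commute.all x y).map resH) (by rw [← map_pow, hx, map_one]) (by rw [← map_pow, hy, map_one])
        (fun w hw => by
          by_contra hw1
          exact hall y hy1 w.1 w.2 (fun e => hw1 (Subtype.ext e)) (congrArg Subtype.val hw))
        (fun i _ w hw => by
          by_contra hw1
          rw [← map_pow, ← map_mul] at hw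
          refine hall (x * y ^ i) (fun h => hxy ?_) w.1 w.2 (fun e => hw1 (Subtype.ext e))
            (congrArg Subtype.val hw)
          rw [eq_inv_of_mul_eq_one_left h]
          exact inv_mem (pow_mem (Subgroup.mem_zpowers y) i))
        ⟨_, ⟨e₀, rfl⟩⟩
      exact he₀ (mul_inv_eq_one.1 (congrArg Subtype.val h))
    let Y : Subgroup E :=
      { carrier := {z | z ∈ M ∧ (d : MulAut E) z = z}
        one_mem' := ⟨M.one_mem, map_one _⟩
        mul_mem' := fun {a b} ha hb => ⟨M.mul_mem ha.1 hb.1, by rw [map_mul, ha.2, hb.2]⟩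
        inv_mem' := fun {a} ha => ⟨M.inv_mem ha.1, by rw [map_inv, ha.2]⟩ }
    have hYQ : ∀ g ∈ Q, ∀ u ∈ Y, g u ∈ Y := fun g hg u hu => ⟨hMQ g hg u hu.1, by
      rw [← MulAut.mul_apply, hab _ d.2 g hg, MulAut.mul_apply, hu.2]⟩
    have hYτ : ∀ u ∈ Y, τ u ∈ Y := fun u hu => ⟨hMτ u hu.1, by
      have h1 : (d : MulAut E) * τ = τ * (d : MulAut E)⁻¹ := by
        rw [← hinv _ d.2, hτinv, ← mul_assoc, ← mul_assoc, hττ, one_mul]
      have h2 : (d : MulAut E)⁻¹ u = u := by
        conv_lhs => rw [← hu.2]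
        rw [← MulAut.mul_apply, inv_mul_cancel]; rfl
      rw [← MulAut.mul_apply, h1, MulAut.mul_apply, h2]⟩
    refine ⟨d, d.2, fun h => hd1 (Subtype.ext h), ?_⟩
    by_contra hall
    push Not at hall
    have hdis : ∀ w ∈ W, w ∈ Y → w = 1 := by
      intro w hw hwY
      by_contra hw1
      exact hall w hw hw1 (fun h0 => hw1 (hrange_fix h₀ hh₀ w hwY.1 h0)) hwY.2
    exact hz1 (hrange_fix h₀ hh₀ z hzM
      (htrivial_of_fix Y hYQ (hinvW Y hYτ hdis) h₀ hh₀ z ⟨hzM, hdz⟩))
  obtain ⟨h₀, hh₀, hne₀⟩ := (Q.bot_or_exists_ne_one).resolve_left hQne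
  obtain ⟨h₁, hh₁, hne₁, w₁, hw₁, hw₁1, hmv, hfx⟩ := hpair h₀ hh₀ hne₀
  -- the operators `e ↦ h e * h⁻¹ e`
  let g : MulAut E → (E →* E) := fun h => MonoidHom.mk' (fun e => h e * h⁻¹ e) fun a b => by
    rw [map_mul, map_mul, mul_mul_mul_comm]
  have hgdef : ∀ h e, g h e = h e * h⁻¹ e := fun _ _ => rfl
  have hgW : ∀ h ∈ Q, ∀ w ∈ W, g h w ∈ W := by
    intro h hh w hw
    have hd : ∀ d ∈ Q, τ (d w) = (d⁻¹ w)⁻¹ := fun d hd => by
      rw [← MulAut.mul_apply, show τ * d = d⁻¹ * τ by rw [← hinv d hd, inv_mul_cancel_right],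
        MulAut.mul_apply, (hWdef w).1 hw, map_inv]
    rw [hWdef, hgdef, map_mul, hd h hh, hd h⁻¹ (inv_mem hh), inv_inv, ← mul_inv, mul_comm]
  -- the line of `w₁`
  let S : Subgroup E :=
    { carrier := {w | w ∈ W ∧ h₁ w = w}
      one_mem' := ⟨W.one_mem, map_one _⟩
      mul_mem' := fun {a b} ha hb => ⟨W.mul_mem ha.1 hb.1, by rw [map_mul, ha.2, hb.2]⟩
      inv_mem' := fun {a} ha => ⟨W.inv_mem ha.1, by rw [map_inv, ha.2]⟩ }
  have hScard : Nat.card S = q := by
    have hle : S ≤ W := fun w hw => hw.1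
    obtain ⟨i, hi, hcard⟩ := (Nat.dvd_prime_pow hqp).1 (hW ▸ Subgroup.card_dvd_of_le hle)
    interval_cases i
    · exfalso
      rw [pow_zero, Subgroup.card_eq_one] at hcard
      have : w₁ ∈ S := ⟨hw₁, hfx⟩
      rw [hcard, Subgroup.mem_bot] at this
      exact hw₁1 this
    · rw [hcard, pow_one]
    · exfalso
      have heq : S = W := Subgroup.eq_of_le_of_card_ge hle (by rw [hcard, hW])
      exact hne₁ (hkernel' h₁ hh₁ fun w hw => (heq.symm ▸ hw : w ∈ S).2)
  let L₁ : Line q W := ⟨S, fun w hw => hw.1, hScard⟩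
  have hL₁inv : ∀ h ∈ Q, ∀ u ∈ L₁.1, g h u ∈ L₁.1 := fun h hh u hu => ⟨hgW h hh u hu.1, by
    have hc : ∀ d ∈ Q, h₁ (d u) = d u := fun d hd => by
      rw [← MulAut.mul_apply, hab h₁ hh₁ d hd, MulAut.mul_apply, hu.2]
    rw [hgdef, map_mul, hc h hh, hc h⁻¹ (inv_mem hh)]⟩
  have hnotscal : ¬ ∃ a : ℤ, ∀ w ∈ W, g h₁ w = w ^ a := by
    rintro ⟨a, ha⟩
    have h1 := ha w₁ hw₁
    have hh' : h₁⁻¹ w₁ = w₁ := by
      conv_lhs => rw [← hfx]
      rw [← MulAut.mul_apply, inv_mul_cancel]; rfl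
    rw [hgdef, hfx, hh', ← pow_two, ← zpow_natCast] at h1
    have h2 := cast_eq_of_zpow (hexp w₁) hw₁1 h1
    refine hne₁ (hkernel' h₁ hh₁ fun w hw => ?_)
    have h3 : h₁ w * h₁⁻¹ w = w ^ (2 : ℤ) := by
      rw [← hgdef, ha w hw]; exact (zpow_eq_of_cast (hexp w) h2).symm
    have h4 : h₁⁻¹ w = w ^ (2 : ℤ) * (h₁ w)⁻¹ := by rw [← h3, mul_comm (h₁ w), mul_inv_cancel_right]
    have h5 : h₁ (ψ h₁ w) = ψ h₁ w := by
      have h6 := congrArg h₁ h4
      rw [← MulAut.mul_apply, mul_inv_cancel, MulAut.one_apply, map_mul, map_zpow, map_inv] at h6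
      rw [hψ, map_mul, map_inv]
      rw [zpow_two] at h6
      have h7 : h₁ (h₁ w) = h₁ w * h₁ w * w⁻¹ := by rw [eq_mul_inv_iff_mul_eq] at h6; rw [← h6]; simp [mul_comm]
      rw [h7, mul_right_comm (h₁ w * h₁ w), mul_inv_cancel_right]
    exact mul_inv_eq_one.1 (hrange_fix h₁ hh₁ _ ⟨w, rfl⟩ h5)
  let γL : Line q W → Line q W := fun L =>
    ⟨L.1.map γ.toMonoidHom, by rintro _ ⟨x, hx, rfl⟩; exact hγW x (L.2.1 hx),
     by rw [Subgroup.card_map_of_injective γ.injective, L.2.2]⟩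
  have hstable : ∀ L : Line q W, (∀ h ∈ Q, ∀ u ∈ L.1, g h u ∈ L.1) →
      ∀ h ∈ Q, ∀ u ∈ (γL L).1, g h u ∈ (γL L).1 := by
    rintro L hL h hh _ ⟨u, hu, rfl⟩
    refine ⟨g (γ⁻¹ * h * γ) u, hL _ ?_ u hu, ?_⟩
    · have := pow_mem_normalizing hQγ (2 ^ m - 1) h hh
      rwa [show γ ^ (2 ^ m - 1) = γ⁻¹ from eq_inv_of_mul_eq_one_left (by
        rw [← pow_succ, Nat.sub_add_cancel Nat.one_le_two_pow, hγ]), inv_inv] at this
    · show γ (g _ u) = g h (γ u)
      rw [hgdef, hgdef, map_mul]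
      congr 1 <;> simp [MulAut.mul_apply]
  have hγ2 : γL (γL L₁) = L₁ := by
    have hinj : Function.Injective γL := fun L M h =>
      Subtype.ext (Subgroup.map_injective (f := γ.toMonoidHom) γ.injective (congrArg Subtype.val h))
    by_cases h : γL L₁ = L₁
    · rw [h, h]
    by_contra hne2
    exact hnotscal (scalar_of_three_lines W (fun e _ => hexp e) hW (g h₁) L₁ (γL L₁) (γL (γL L₁))
      (Ne.symm h) (Ne.symm hne2) (fun e => h (hinj e).symm) (hL₁inv h₁ hh₁)
      (hstable _ hL₁inv h₁ hh₁) (hstable _ (hstable _ hL₁inv) h₁ hh₁))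
  by_cases hm3 : 3 ≤ m
  · refine hline4 L₁ (fun w hw => ?_) hm3
    rw [← hγ2]
    exact ⟨γ w, ⟨w, hw, rfl⟩, rfl⟩
  have hk2 : k = 2 := by omega
  subst hk2
  have hq3 : q = 3 := by omega
  subst hq3
  -- `Q` fixes the line of `h₁`
  apply hmv
  obtain ⟨t, ht⟩ := Subgroup.mem_zpowers_iff.1
    (show g h₀ w₁ ∈ Subgroup.zpowers w₁ by
      rw [line_eq_zpowers L₁.2.2 (show w₁ ∈ L₁.1 from ⟨hw₁, hfx⟩) hw₁1]
      exact hL₁inv h₀ hh₀ w₁ ⟨hw₁, hfx⟩)
  rw [hgdef] at ht
  have hh : h₀⁻¹ w₁ = w₁ ^ t * (h₀ w₁)⁻¹ := by rw [ht, mul_comm (h₀ w₁), mul_inv_cancel_right]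
  have hrec : h₀ (h₀ w₁) = (h₀ w₁) ^ t * w₁⁻¹ := by
    have h6 := congrArg h₀ hh
    rw [← MulAut.mul_apply, mul_inv_cancel, MulAut.one_apply, map_mul, map_zpow, map_inv] at h6
    rw [eq_mul_inv_iff_mul_eq] at h6
    rw [← h6, mul_comm w₁, mul_inv_cancel_right]
  obtain ⟨i, hi⟩ := hQp ⟨h₀, hh₀⟩
  have hord : h₀ ^ r ^ i = 1 := congrArg Subtype.val hi
  have hodd' := hcop_pow h₀ hh₀
  have h3 : ∀ e : E, e * e * e = 1 := fun e => by rw [← pow_two, ← pow_succ]; exact hexp e
  have ht' : (t : ZMod 3) = 0 ∨ (t : ZMod 3) = 1 ∨ (t : ZMod 3) = 2 := by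
    exact cases_zmod_three _
  rcases ht' with h | h | h
  · rw [zpow_eq_of_cast (hexp _) (i := t) (j := 0) (by simpa using h), zpow_zero, one_mul] at hrec
    refine hodd' w₁ (hcop_pow (h₀ * h₀) (mul_mem hh₀ hh₀) w₁ ?_)
    simp only [MulAut.mul_apply, hrec, map_inv, inv_inv]
  · rw [zpow_eq_of_cast (hexp _) (i := t) (j := 1) (by simpa using h), zpow_one] at hrec
    -- `h₀ ^ 3` negates `w₁`
    have h6 : h₀ (h₀ (h₀ w₁)) = w₁⁻¹ := by
      rw [hrec, map_mul, hrec, map_inv, mul_comm (h₀ w₁) w₁⁻¹, mul_inv_cancel_right]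
    have h7 : (h₀ ^ 3) w₁ = w₁⁻¹ := h6
    have h8 : (h₀ ^ 3) w₁ = w₁ := hcop_pow (h₀ ^ 3) (pow_mem hh₀ 3) w₁ (by rw [h7, map_inv, h7, inv_inv])
    rw [h8, eq_inv_iff_mul_eq_one] at h7
    have := h3 w₁
    rw [h7, one_mul] at this
    exact absurd this hw₁1
  · rw [zpow_eq_of_cast (hexp _) (i := t) (j := 2) (by simpa using h), zpow_two] at hrec
    have h5 : h₀ (ψ h₀ w₁) = ψ h₀ w₁ := by
      rw [hψ, map_mul, map_inv, hrec, mul_right_comm (h₀ w₁ * h₀ w₁), mul_inv_cancel_right]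
    exact mul_inv_eq_one.1 (hrange_fix h₀ hh₀ _ ⟨w₁, rfl⟩ h5)

end CfsgLib.GrossFpf
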