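import Cfsg.Agent.Lib.GrossFpf.Layer
import Cfsg.Agent.Lib.GrossFpf.Plane
import Cfsg.Agent.Lib.PGroups.Basic
import Cfsg.Agent.Lib.FpfFour.Derived

/-!
A fixed-point-free automorphism `s` of order dividing `2 ^ n` of a module: the involution of `s`
cannot act non-trivially on two successive groups of operators of different prime power orders.
-/

set_option autoImplicit false
set_option linter.style.haveILetI false
set_option linter.unusedSectionVars false

namespace CfsgLib.GrossFpf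

open Module
open scoped commutatorElement TensorProduct

universe u

section BaseChange

/-- An action on an elementary abelian group, linearly, over an algebraically closed field. -/
theorem exists_linear_add {M : Type u} [AddCommGroup M] [Finite M] (r : ℕ) [Fact r.Prime]
    (hexp : ∀ v : M, r • v = 0) {G : Type*} [Group G] (act : G → M ≃+ M)
    (hone : ∀ v, act 1 v = v) (hmul : ∀ s t v, act (s * t) v = act s (act t v))
    (hinj : ∀ s t, (∀ v, act s v = act t v) → s = t) :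
    ∃ (Ω : Type) (_ : Field Ω) (_ : IsAlgClosed Ω) (_ : CharP Ω r) (U : Type u)
      (_ : AddCommGroup U) (_ : Module Ω U) (_ : FiniteDimensional Ω U)
      (F : G →* Module.End Ω U), Function.Injective F ∧
        ∀ s : G, (∀ v, act s v = v → v = 0) → ∀ u, F s u = u → u = 0 := by
  letI : Module (ZMod r) M := AddCommGroup.zmodModule (n := r) hexp
  haveI : Module.Finite (ZMod r) M := Module.Finite.of_finite
  let g : G → Module.End (ZMod r) M := fun s => (act s).toAddMonoidHom.toZModLinearMap r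
  have hg : ∀ s v, g s v = act s v := fun _ _ => rfl
  let f : G →* Module.End (ZMod r) M :=
    { toFun := g
      map_one' := LinearMap.ext fun v => by rw [hg, hone, Module.End.one_apply]
      map_mul' := fun s t => LinearMap.ext fun v => by
        rw [Module.End.mul_apply, hg, hg, hg, hmul] }
  have hf : ∀ s v, f s v = act s v := hg
  let Ω := AlgebraicClosure (ZMod r)
  haveI : CharP Ω r := charP_of_injective_algebraMap (algebraMap (ZMod r) Ω).injective r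
  let B := Module.End.baseChangeHom (ZMod r) Ω M
  let F : G →* Module.End Ω (Ω ⊗[ZMod r] M) := B.toRingHom.toMonoidHom.comp f
  refine ⟨Ω, inferInstance, inferInstance, inferInstance, Ω ⊗[ZMod r] M, inferInstance,
    inferInstance, inferInstance, F, ?_, ?_⟩
  · intro s t h
    have h1 : f s = f t := LinearMap.baseChangeHom_injective (ZMod r) M Ω h
    exact hinj s t fun v => by rw [← hf, ← hf, h1]
  · intro s hs u hu
    have hinj' : Function.Injective (f s - 1 : Module.End (ZMod r) M) := by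
      refine (injective_iff_map_eq_zero _).2 fun v hv => ?_
      rw [LinearMap.sub_apply, Module.End.one_apply, sub_eq_zero, hf] at hv
      exact hs v hv
    have hunit : IsUnit (B (f s - 1)) :=
      ((Module.End.isUnit_iff _).2 (Finite.injective_iff_bijective.1 hinj')).map B
    rw [map_sub, map_one] at hunit
    refine ((Module.End.isUnit_iff _).1 hunit).1 ?_
    rw [map_zero, LinearMap.sub_apply, Module.End.one_apply, sub_eq_zero]
    exact hu

/-- The automorphisms of an elementary abelian group act faithfully on a space over an algebraically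
closed field, and fixed-point-freeness is preserved. -/
theorem exists_linear {V : Type u} [CommGroup V] [Finite V] (r : ℕ) [Fact r.Prime]
    (hexp : ∀ v : V, v ^ r = 1) :
    ∃ (Ω : Type) (_ : Field Ω) (_ : IsAlgClosed Ω) (_ : CharP Ω r) (U : Type u)
      (_ : AddCommGroup U) (_ : Module Ω U) (_ : FiniteDimensional Ω U)
      (F : MulAut V →* Module.End Ω U), Function.Injective F ∧
        ∀ s : MulAut V, (∀ v, s v = v → v = 1) → ∀ u, F s u = u → u = 0 := by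
  obtain ⟨Ω, i1, i2, i3, U, i4, i5, i6, F, h1, h2⟩ :=
    exists_linear_add (M := Additive V) r (fun v => Additive.toMul.injective (hexp v.toMul))
      (fun s : MulAut V => MulEquiv.toAdditive s) (fun _ => rfl) (fun _ _ _ => rfl)
      (fun s t h => MulEquiv.ext fun v => congrArg Additive.toMul (h (Additive.ofMul v)))
  exact ⟨Ω, i1, i2, i3, U, i4, i5, i6, F, h1, fun s hs => h2 s fun v hv =>
    Additive.toMul.injective (hs v.toMul (congrArg Additive.toMul hv))⟩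

theorem natCast_ne_zero {Ω : Type*} [Field Ω] {r : ℕ} [Fact r.Prime] [CharP Ω r] {m : ℕ}
    (h : m.Coprime r) : (m : Ω) ≠ 0 := by
  rw [Ne, CharP.cast_eq_zero_iff Ω r]
  exact fun hd => (Fact.out : r.Prime).ne_one
    (Nat.eq_one_of_dvd_coprimes h.symm dvd_rfl hd)

end BaseChange

section General

variable {Γ : Type*} [Group Γ] [Finite Γ]

theorem mem_normalizer_of_conj_le {P : Subgroup Γ} {g : Γ} (h : ∀ x ∈ P, g * x * g⁻¹ ∈ P) :
    g ∈ Subgroup.normalizer (P : Set Γ) := by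
  have he : P.map (MulAut.conj g).toMonoidHom = P :=
    Subgroup.eq_of_le_of_card_ge (by rintro _ ⟨x, hx, rfl⟩; exact h x hx)
      (Subgroup.card_map_of_injective (MulAut.conj g).injective).ge
  rw [Subgroup.mem_normalizer_iff]
  refine fun x => ⟨h x, fun hx => ?_⟩
  obtain ⟨y, hy, hyx⟩ : g * x * g⁻¹ ∈ P.map (MulAut.conj g).toMonoidHom := he.symm ▸ hx
  rwa [← (MulAut.conj g).injective hyx]

theorem conj_mem_commutator {A B : Subgroup Γ} {g : Γ} (hA : ∀ x ∈ A, g * x * g⁻¹ ∈ A)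
    (hB : ∀ x ∈ B, g * x * g⁻¹ ∈ B) : ∀ x ∈ ⁅A, B⁆, g * x * g⁻¹ ∈ ⁅A, B⁆ := by
  intro x hx
  have h1 : (⁅A, B⁆).map (MulAut.conj g).toMonoidHom ≤ ⁅A, B⁆ := by
    rw [Subgroup.map_commutator]
    exact Subgroup.commutator_mono (by rintro _ ⟨y, hy, rfl⟩; exact hA y hy)
      (by rintro _ ⟨y, hy, rfl⟩; exact hB y hy)
  exact h1 ⟨x, hx, rfl⟩

theorem conj_mem_char_map {P : Subgroup Γ} {g : Γ} (hg : g ∈ Subgroup.normalizer (P : Set Γ))
    (K : Subgroup P) [K.Characteristic] :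
    ∀ x ∈ K.map P.subtype, g * x * g⁻¹ ∈ K.map P.subtype := by
  rintro _ ⟨y, hy, rfl⟩
  let e : P ≃* P :=
    { toFun := fun z => ⟨g * z * g⁻¹, (Subgroup.mem_normalizer_iff.1 hg z).1 z.2⟩
      invFun := fun z => ⟨g⁻¹ * z * g, by
        simpa using (Subgroup.mem_normalizer_iff.1 (inv_mem hg) z).1 z.2⟩
      left_inv := fun z => Subtype.ext (by simp [mul_assoc])
      right_inv := fun z => Subtype.ext (by simp [mul_assoc])
      map_mul' := fun a b => Subtype.ext (by simp [mul_assoc]) }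
  have h : y ∈ K.comap e.toMonoidHom := by
    rw [Subgroup.Characteristic.fixed inferInstance e]; exact hy
  exact ⟨e y, h, rfl⟩

/-- A nilpotent subgroup moved by `A`, all of whose relevant proper subgroups are centralised. -/
theorem minimal_moved {P A : Subgroup Γ} (hPn : Group.IsNilpotent P)
    (hAP : A ≤ Subgroup.normalizer (P : Set Γ)) (hcop : (Nat.card A).Coprime (Nat.card P))
    (hmov : ¬ P ≤ Subgroup.centralizer (A : Set Γ))
    (hcomm : ⁅P, A⁆ ≠ P → ⁅P, A⁆ ≤ Subgroup.centralizer (A : Set Γ)) :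
    ⁅P, A⁆ = P ∧ ∀ Z : Subgroup P, Z.Normal → Z.map P.subtype ≤ Subgroup.centralizer (A : Set Γ) →
      Z ≤ Subgroup.center P := by
  have hsol : Group.IsSolvable P := by haveI := hPn; infer_instance
  have heq : ⁅P, A⁆ = P := by
    by_contra hne
    have h1 : ⁅⁅P, A⁆, A⁆ = ⊥ := Subgroup.commutator_eq_bot_iff_le_centralizer.2 (hcomm hne)
    rw [CfsgLib.Coprime.commutator_commutator_eq hAP hcop (Or.inr hsol),
      Subgroup.commutator_eq_bot_iff_le_centralizer] at h1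
    exact hmov h1
  refine ⟨heq, fun Z hZn hZ z hz => ?_⟩
  set Y := Z.map P.subtype
  have hYP : ⁅Y, P⁆ ≤ Y := by
    rw [Subgroup.commutator_le]
    rintro _ ⟨y, hy, rfl⟩ x hx
    refine ⟨y * (⟨x, hx⟩ * y⁻¹ * ⟨x, hx⟩⁻¹), Z.mul_mem hy (hZn.conj_mem _ (Z.inv_mem hy) _), ?_⟩
    simp [commutatorElement_def, mul_assoc]
  have h1 : ⁅⁅Y, P⁆, A⁆ = ⊥ :=
    Subgroup.commutator_eq_bot_iff_le_centralizer.2 (hYP.trans hZ)
  have h2 : ⁅⁅A, Y⁆, P⁆ = ⊥ := by
    rw [Subgroup.commutator_comm A Y, Subgroup.commutator_eq_bot_iff_le_centralizer.2 hZ,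
      Subgroup.commutator_bot_left]
  have h3 := Subgroup.commutator_commutator_eq_bot_of_rotate h2 h1
  rw [heq, Subgroup.commutator_eq_bot_iff_le_centralizer] at h3
  rw [Subgroup.mem_center_iff]
  intro x
  exact Subtype.ext (Subgroup.mem_centralizer_iff.1 (h3 x.2) z ⟨z, hz, rfl⟩).symm

theorem coprime_zpowers_pGroup {q : ℕ} [hq : Fact q.Prime] (hq2 : q ≠ 2) {τ : Γ} (hτ : τ * τ = 1)
    {P : Subgroup Γ} (hP : IsPGroup q P) : (Nat.card (Subgroup.zpowers τ)).Coprime (Nat.card P) := by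
  obtain ⟨j, hj⟩ := IsPGroup.iff_card.1 hP
  rw [Nat.card_zpowers, hj]
  refine Nat.Coprime.pow_right _ (Nat.Coprime.coprime_dvd_left
    (orderOf_dvd_of_pow_eq_one (by rw [pow_two, hτ])) ?_)
  exact (Nat.coprime_primes Nat.prime_two hq.out).2 (Ne.symm hq2)

theorem le_centralizer_zpowers {P : Subgroup Γ} {τ : Γ} (h : ∀ x ∈ P, τ * x = x * τ) :
    P ≤ Subgroup.centralizer (Subgroup.zpowers τ : Set Γ) := by
  intro x hx
  rw [Subgroup.zpowers_eq_closure, Subgroup.centralizer_closure,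
    Subgroup.mem_centralizer_singleton_iff]
  exact (h x hx).symm

theorem commute_of_le_centralizer {P : Subgroup Γ} {τ : Γ}
    (h : P ≤ Subgroup.centralizer (Subgroup.zpowers τ : Set Γ)) : ∀ x ∈ P, τ * x = x * τ :=
  fun x hx => Subgroup.mem_centralizer_iff.1 (h hx) τ (Subgroup.mem_zpowers τ)

end General

section Module'

variable {V : Type u} [CommGroup V] [Finite V] {r n : ℕ} [Fact r.Prime]

theorem mulAut_finite (W : Type*) [Group W] [Finite W] : Finite (MulAut W) :=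
  Finite.of_injective (fun a => (a : W → W)) fun _ _ h => MulEquiv.ext fun e => congrFun h e

/-- Conjugation by `s` on a normalised subgroup. -/
noncomputable def conjRes (s : MulAut V) (P : Subgroup (MulAut V))
    (hsP : s ∈ Subgroup.normalizer (P : Set (MulAut V))) : MulAut P :=
  P.normalizerMonoidHom ⟨s, hsP⟩

theorem conjRes_pow (s : MulAut V) (P : Subgroup (MulAut V))
    (hsP : s ∈ Subgroup.normalizer (P : Set (MulAut V))) (i : ℕ) (x : P) :
    (((conjRes s P hsP) ^ i) x : MulAut V) = s ^ i * x * (s ^ i)⁻¹ := by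
  rw [conjRes, ← map_pow]
  rfl

theorem conjRes_pow_eq_one {s : MulAut V} (P : Subgroup (MulAut V))
    (hsP : s ∈ Subgroup.normalizer (P : Set (MulAut V))) {N : ℕ} (hs : s ^ N = 1) :
    (conjRes s P hsP) ^ N = 1 := MulEquiv.ext fun x => Subtype.ext (by
  rw [conjRes_pow, hs, one_mul, inv_one, mul_one]; rfl)

/-- An abelian group of operators is centralised by the involution. -/
theorem abelian_centralised (hexp : ∀ v : V, v ^ r = 1) (hn : 1 ≤ n) (s : MulAut V)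
    (hs : s ^ 2 ^ n = 1) (hsfix : ∀ v, s v = v → v = 1) (P : Subgroup (MulAut V))
    (hsP : s ∈ Subgroup.normalizer (P : Set (MulAut V))) (hPr : (Nat.card P).Coprime r)
    (hab : ∀ a ∈ P, ∀ b ∈ P, a * b = b * a) :
    ∀ x ∈ P, s ^ 2 ^ (n - 1) * x = x * s ^ 2 ^ (n - 1) := by
  haveI := mulAut_finite V
  obtain ⟨Ω, _, _, _, U, _, _, _, F, hF, hFfix⟩ := exists_linear r hexp
  intro x hx
  have h := comm_top_trivial hn (F.comp P.subtype) (fun a b => by
      simp only [MonoidHom.comp_apply, Subgroup.coe_subtype, ← map_mul, hab a a.2 b b.2])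
    (natCast_ne_zero hPr) (conjRes s P hsP) (conjRes_pow_eq_one P hsP hs) (F s)
    (by rw [← map_pow, hs, map_one]) (hFfix s hsfix) (fun y => by
      have := conjRes_pow s P hsP 1 y
      rw [pow_one, pow_one] at this
      simp only [MonoidHom.comp_apply, Subgroup.coe_subtype, this, ← map_mul, inv_mul_cancel_right])
    ⟨x, hx⟩
  have h1 := hF h
  rw [Subgroup.coe_subtype, conjRes_pow] at h1
  exact mul_inv_eq_iff_eq_mul.1 h1

theorem pGroup_coprime {q : ℕ} [Fact q.Prime] (hqr : q ≠ r) {Γ : Type*} [Group Γ] [Finite Γ]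
    {P : Subgroup Γ} (hP : IsPGroup q P) : (Nat.card P).Coprime r := by
  obtain ⟨j, hj⟩ := IsPGroup.iff_card.1 hP
  rw [hj]
  exact ((Nat.coprime_primes Fact.out Fact.out).2 hqr).pow_left j

theorem two_le_of_odd_prime {q k : ℕ} [Fact q.Prime] (hq2 : q ≠ 2) (hk : q + 1 = 2 ^ k) : 2 ≤ k := by
  have := (Fact.out : q.Prime).two_le
  by_contra hlt
  interval_cases k <;> omega

/-- Non-central elements are detected by some central character. -/
theorem mem_center_of_rad {Ω : Type*} [Field Ω] [IsAlgClosed Ω] {U : Type*} [AddCommGroup U]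
    [Module Ω U] [FiniteDimensional Ω U] {P : Type*} [Group P] [Finite P] (Z : Subgroup P)
    (hcZ : ∀ a b : P, ⁅a, b⁆ ∈ Z) (hZ : Z ≤ Subgroup.center P) (π : P →* Module.End Ω U)
    (hπ : Function.Injective π) (hcard : (Nat.card Z : Ω) ≠ 0) {x : P}
    (hx : ∀ (μ : Z →* Ω) (u₀ : U), u₀ ≠ 0 → (∀ z : Z, π z u₀ = μ z • u₀) → x ∈ rad Z μ hcZ hZ) :
    x ∈ Subgroup.center P := by
  rw [Subgroup.mem_center_iff]
  intro y
  by_contra hne
  have hc : (⁅x, y⁆ : P) ≠ 1 := fun h => hne (commutatorElement_eq_one_iff_mul_comm.1 h).symm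
  obtain ⟨u, hu0, μ, hu, hμ⟩ := exists_eigen_ne_one (π.comp Z.subtype)
    (fun a b => by
      simp only [MonoidHom.comp_apply, Subgroup.coe_subtype, ← map_mul,
        Subgroup.mem_center_iff.1 (hZ a.2) b])
    hcard (g := ⟨⁅x, y⁆, hcZ x y⟩) (fun h => hc (hπ (h.trans (map_one π).symm)))
  exact hμ (hx μ u hu0 hu y)

theorem mersenne_of_moved (hexp : ∀ v : V, v ^ r = 1) (hr2 : r ≠ 2) (hn : 1 ≤ n) (s : MulAut V)
    (hs : s ^ 2 ^ n = 1) (hsfix : ∀ v, s v = v → v = 1) {q : ℕ} [Fact q.Prime] (hq2 : q ≠ 2)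
    (hqr : q ≠ r) (P : Subgroup (MulAut V)) (hP : IsPGroup q P)
    (hsP : ∀ x ∈ P, s * x * s⁻¹ ∈ P)
    (hmov : ∃ x ∈ P, s ^ 2 ^ (n - 1) * x ≠ x * s ^ 2 ^ (n - 1)) :
    ∃ k, 2 ≤ k ∧ q + 1 = 2 ^ k := by
  classical
  haveI := mulAut_finite V
  set τ := s ^ 2 ^ (n - 1) with hτ
  have hττ : τ * τ = 1 := by
    rw [hτ, ← pow_add, ← two_mul, ← pow_succ', Nat.sub_add_cancel hn, hs]
  obtain ⟨P₀, ⟨hP₀P, hP₀s, hP₀τ⟩, hmin⟩ := Set.exists_min_image
    {Q : Subgroup (MulAut V) | Q ≤ P ∧ (∀ d ∈ Q, s * d * s⁻¹ ∈ Q) ∧ ∃ d ∈ Q, τ * d ≠ d * τ}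
    (fun Q => Nat.card Q) (Set.toFinite _) ⟨P, le_rfl, hsP, hmov⟩
  have hproper : ∀ R : Subgroup (MulAut V), R ≤ P₀ → R ≠ P₀ → (∀ d ∈ R, s * d * s⁻¹ ∈ R) →
      R ≤ Subgroup.centralizer (Subgroup.zpowers τ : Set (MulAut V)) := by
    intro R hR hRne hRs
    refine le_centralizer_zpowers ?_
    by_contra hall
    push Not at hall
    exact hRne (Subgroup.eq_of_le_of_card_ge hR (hmin R ⟨hR.trans hP₀P, hRs, hall⟩))
  have hP₀ : IsPGroup q P₀ := hP.to_le hP₀P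
  have hsN := mem_normalizer_of_conj_le hP₀s
  set T := Subgroup.zpowers τ with hT
  have hTs : ∀ x ∈ T, s * x * s⁻¹ ∈ T := by
    intro x hx
    obtain ⟨i, rfl⟩ := Subgroup.mem_zpowers_iff.1 hx
    rw [show s * τ ^ i * s⁻¹ = τ ^ i by
      rw [hτ, ← zpow_natCast, ← zpow_mul, mul_inv_eq_iff_eq_mul]
      exact ((Commute.refl s).zpow_right _).eq]
    exact Subgroup.zpow_mem _ (Subgroup.mem_zpowers τ) i
  have hTN : T ≤ Subgroup.normalizer (P₀ : Set (MulAut V)) :=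
    Subgroup.zpowers_le.2 (hτ ▸ pow_mem hsN _)
  obtain ⟨heq, hcentral⟩ := minimal_moved hP₀.isNilpotent hTN (coprime_zpowers_pGroup hq2 hττ hP₀)
    (fun h => by
      obtain ⟨d, hd, hd'⟩ := hP₀τ
      exact hd' (commute_of_le_centralizer h d hd))
    (fun hne => hproper _ (CfsgLib.Coprime.commutator_le_of_le_normalizer hTN) hne
      (conj_mem_commutator hP₀s hTs))
  haveI : Nontrivial P₀ := by
    rw [Subgroup.nontrivial_iff_ne_bot]
    intro h
    obtain ⟨d, hd, hd'⟩ := hP₀τ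
    rw [h, Subgroup.mem_bot] at hd
    exact hd' (by rw [hd, one_mul, mul_one])
  set Z := frattini P₀ with hZdef
  have hZmap : Z.map P₀.subtype ≠ P₀ := fun h => CfsgLib.PGroups.frattini_ne_top (G := P₀)
    (Subgroup.map_injective P₀.subtype_injective (by
      rw [← MonoidHom.range_eq_map, Subgroup.range_subtype]; exact h))
  have hZτ := hproper _ (Subgroup.map_subtype_le Z) hZmap (conj_mem_char_map hsN Z)
  have hZ : Z ≤ Subgroup.center P₀ := hcentral Z inferInstance hZτ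
  have hcZ : ∀ a b : P₀, ⁅a, b⁆ ∈ Z := fun a b =>
    CfsgLib.PGroups.commutator_le_frattini hP₀
      (Subgroup.commutator_mem_commutator (Subgroup.mem_top a) (Subgroup.mem_top b))
  obtain ⟨Ω, _, _, _, U, _, _, _, F, hF, hFfix⟩ := exists_linear r hexp
  set α := conjRes s P₀ hsN with hα
  have hβ : ∀ x : P₀, ((α ^ 2 ^ (n - 1)) x : MulAut V) = τ * x * τ⁻¹ := fun x => conjRes_pow _ _ _ _ x
  by_contra hcon
  have hcen : ∀ x : P₀, (α ^ 2 ^ (n - 1)) x * x⁻¹ ∈ Subgroup.center P₀ := by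
    intro x
    refine mem_center_of_rad Z hcZ hZ (F.comp P₀.subtype) (hF.comp P₀.subtype_injective)
      (natCast_ne_zero ((pGroup_coprime hqr hP₀).coprime_dvd_left Z.card_subgroup_dvd_card))
      fun μ u₀ hu0 hu => ?_
    rcases structure_of_char Z μ hcZ hZ hq2 hn hP₀ (CfsgLib.PGroups.pow_mem_frattini hP₀)
      (natCast_ne_zero (r := r) ((Nat.coprime_primes Nat.prime_two Fact.out).2 hr2.symm))
      (natCast_ne_zero (r := r) ((Nat.coprime_primes Fact.out Fact.out).2 hqr))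
      (F.comp P₀.subtype) α (conjRes_pow_eq_one P₀ hsN hs)
      (fun z hz => by
        have h : z ∈ Z.comap α.toMonoidHom := by
          rw [Subgroup.Characteristic.fixed inferInstance (α : P₀ ≃* P₀)]; exact hz
        exact h)
      (fun z hz => by
        have h1 := commute_of_le_centralizer hZτ (z : MulAut V) ⟨z, hz, rfl⟩
        simp only [MonoidHom.comp_apply, Subgroup.coe_subtype, hβ, h1, mul_inv_cancel_right])
      (F s) (by rw [← map_pow, hs, map_one]) (hFfix s hsfix)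
      (fun y => by
        have := conjRes_pow s P₀ hsN 1 y
        rw [pow_one, pow_one] at this
        simp only [MonoidHom.comp_apply, Subgroup.coe_subtype, hα, this, ← map_mul,
          inv_mul_cancel_right])
      hu0 hu with h | ⟨k, hk, -⟩
    · exact h x
    · exact absurd ⟨k, two_le_of_odd_prime hq2 hk, hk⟩ hcon
  have hle : ⁅P₀, T⁆ ≤ (Subgroup.center P₀).map P₀.subtype := by
    rw [Subgroup.commutator_le]
    intro x hx t ht
    obtain ⟨i, rfl⟩ := Subgroup.mem_zpowers_iff.1 ht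
    rcases Int.even_or_odd i with ⟨j, hj⟩ | ⟨j, hj⟩
    · rw [hj, ← two_mul, zpow_mul, show τ ^ (2 : ℤ) = 1 by rw [zpow_two, hττ], one_zpow,
        commutatorElement_one_right]
      exact one_mem _
    · rw [hj, zpow_add, zpow_mul, show τ ^ (2 : ℤ) = 1 by rw [zpow_two, hττ], one_zpow, one_mul,
        zpow_one, ← commutatorElement_inv]
      refine inv_mem ⟨_, hcen ⟨x, hx⟩, ?_⟩
      simp [hβ, commutatorElement_def]
  obtain ⟨d, hd, hd'⟩ := hP₀τ
  rw [heq] at hle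
  refine hd' (abelian_centralised hexp hn s hs hsfix P₀ hsN (pGroup_coprime hqr hP₀)
    (fun a ha b hb => ?_) d hd)
  obtain ⟨a', ha', rfl⟩ := hle ha
  exact (congrArg Subtype.val (Subgroup.mem_center_iff.1 ha' ⟨b, hb⟩)).symm

end Module'

section Plane'

variable {Γ : Type u} [Group Γ] [Finite Γ]

/-- A group `D = [D, τ]` acts trivially as soon as its action commutes with that of `τ`. -/
theorem ker_of_commute {M : Type*} [Group M] {St : Subgroup Γ} (φ : St →* M) {D : Subgroup Γ}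
    {τ : Γ} (hDD : ⁅D, Subgroup.zpowers τ⁆ = D) (hτ : τ ∈ St) (hDSt : D ≤ St)
    (h : ∀ d, ∀ hd : d ∈ D,
      φ ⟨d, hDSt hd⟩ * φ ⟨τ, hτ⟩ = φ ⟨τ, hτ⟩ * φ ⟨d, hDSt hd⟩) :
    ∀ d, ∀ hd : d ∈ D, φ ⟨d, hDSt hd⟩ = 1 := by
  have hle : ⁅D, Subgroup.zpowers τ⁆ ≤ φ.ker.map St.subtype := by
    rw [Subgroup.commutator_le]
    intro d hd t ht
    obtain ⟨i, rfl⟩ := Subgroup.mem_zpowers_iff.1 ht
    refine ⟨⁅(⟨d, hDSt hd⟩ : St), (⟨τ, hτ⟩ : St) ^ i⁆, ?_, by simp [commutatorElement_def]⟩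
    show φ _ = 1
    rw [map_commutatorElement, map_zpow, commutatorElement_eq_one_iff_mul_comm]
    exact (Commute.zpow_right (h d hd) i).eq
  intro d hd
  rw [hDD] at hle
  obtain ⟨g, hg, hgd⟩ := hle hd
  rw [show (⟨d, hDSt hd⟩ : St) = g from Subtype.ext hgd.symm]
  exact hg

theorem map_normalizer_eq {P₀ : Subgroup Γ} {R : Subgroup P₀} {St : Subgroup Γ}
    (hSt : St ≤ Subgroup.normalizer (P₀ : Set Γ))
    (hR : ∀ g ∈ St, ∀ x ∈ R.map P₀.subtype, g * x * g⁻¹ ∈ R.map P₀.subtype) (g : St) :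
    R.map (P₀.normalizerMonoidHom (Subgroup.inclusion hSt g)).toMonoidHom = R := by
  refine Subgroup.eq_of_le_of_card_ge ?_ (Subgroup.card_map_of_injective
    (P₀.normalizerMonoidHom (Subgroup.inclusion hSt g)).injective).ge
  rintro _ ⟨x, hx, rfl⟩
  obtain ⟨y, hy, hyx⟩ := hR g g.2 _ ⟨x, hx, rfl⟩
  rwa [show (P₀.normalizerMonoidHom (Subgroup.inclusion hSt g)).toMonoidHom x = y from
    Subtype.ext hyx.symm]

/-- The action of a normalising group on a section. -/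
noncomputable def quotAut {P₀ : Subgroup Γ} (R : Subgroup P₀) [R.Normal] {St : Subgroup Γ}
    (hSt : St ≤ Subgroup.normalizer (P₀ : Set Γ))
    (hR : ∀ g ∈ St, ∀ x ∈ R.map P₀.subtype, g * x * g⁻¹ ∈ R.map P₀.subtype) :
    St →* MulAut (P₀ ⧸ R) :=
  MonoidHom.mk'
    (fun g => QuotientGroup.congr R R (P₀.normalizerMonoidHom (Subgroup.inclusion hSt g))
      (map_normalizer_eq hSt hR g))
    fun g h => MulEquiv.ext fun e => by
      obtain ⟨x, rfl⟩ := QuotientGroup.mk_surjective e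
      show ((P₀.normalizerMonoidHom (Subgroup.inclusion hSt (g * h)) x : P₀) : P₀ ⧸ R) =
        ((P₀.normalizerMonoidHom (Subgroup.inclusion hSt g)
          (P₀.normalizerMonoidHom (Subgroup.inclusion hSt h) x) : P₀) : P₀ ⧸ R)
      rw [map_mul, map_mul, MulAut.mul_apply]

theorem quotAut_mk {P₀ : Subgroup Γ} (R : Subgroup P₀) [R.Normal] {St : Subgroup Γ}
    (hSt : St ≤ Subgroup.normalizer (P₀ : Set Γ))
    (hR : ∀ g ∈ St, ∀ x ∈ R.map P₀.subtype, g * x * g⁻¹ ∈ R.map P₀.subtype)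
    (g : St) (x y : P₀) (h : (y : Γ) = g * x * (g : Γ)⁻¹) :
    quotAut R hSt hR g (x : P₀ ⧸ R) = (y : P₀ ⧸ R) := by
  show ((P₀.normalizerMonoidHom (Subgroup.inclusion hSt g) x : P₀) : P₀ ⧸ R) = _
  exact congrArg _ (Subtype.ext h.symm)

/-- The quotient of `P₀` by a subgroup containing the commutators is commutative. -/
@[reducible] def commQuot {P : Type*} [Group P] (R : Subgroup P) [R.Normal]
    (h : ∀ a b : P, ⁅a, b⁆ ∈ R) : CommGroup (P ⧸ R) :=
  { (inferInstance : Group (P ⧸ R)) with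
    mul_comm := fun e f => by
      obtain ⟨e, rfl⟩ := QuotientGroup.mk_surjective e
      obtain ⟨f, rfl⟩ := QuotientGroup.mk_surjective f
      rw [← QuotientGroup.mk_mul, ← QuotientGroup.mk_mul, QuotientGroup.eq,
        show (e * f)⁻¹ * (f * e) = ⁅f⁻¹, e⁻¹⁆ by simp [commutatorElement_def, mul_assoc]]
      exact h _ _ }

/-- An alternating pairing trivial on `R` is one of `P ⧸ R`. -/
theorem exists_form_lift {P : Type*} [Group P] (R : Subgroup P) [R.Normal] {A : Type*}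
    [CommGroup A] (f : P → P → A) (hl : ∀ x x' y, f (x * x') y = f x y * f x' y)
    (hflip : ∀ x y, f y x = (f x y)⁻¹) (hR : ∀ x ∈ R, ∀ y, f x y = 1) :
    ∃ ω : P ⧸ R →* P ⧸ R →* A, ∀ x y : P, ω (x : P ⧸ R) (y : P ⧸ R) = f x y := by
  have hr : ∀ x y y', f x (y * y') = f x y * f x y' := fun x y y' => by
    rw [hflip (y * y') x, hl, mul_inv, ← hflip, ← hflip]
  let w0 : P →* (P →* A) := MonoidHom.mk' (fun x => MonoidHom.mk' (f x) (hr x))
    fun x x' => MonoidHom.ext fun y => hl x x' y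
  let w1 : P →* (P ⧸ R →* A) := MonoidHom.mk'
    (fun x => QuotientGroup.lift R (w0 x) fun y hy => by
      show f x y = 1
      rw [hflip y x, hR y hy, inv_one])
    fun x x' => MonoidHom.ext fun e => by
      obtain ⟨y, rfl⟩ := QuotientGroup.mk_surjective e
      exact hl x x' y
  exact ⟨QuotientGroup.lift R w1 fun x hx => MonoidHom.ext fun e => by
    obtain ⟨y, rfl⟩ := QuotientGroup.mk_surjective e
    exact hR x hx y, fun _ _ => rfl⟩

theorem form_conj {Ω : Type*} [Field Ω] {P₀ : Subgroup Γ} (Z : Subgroup P₀) (μ : Z →* Ω)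
    (hcZ : ∀ a b : P₀, ⁅a, b⁆ ∈ Z) (g : Γ)
    (hμ : ∀ z z' : Z, ((z' : P₀) : Γ) = g * (z : P₀) * g⁻¹ → μ z' = μ z)
    (x y x' y' : P₀) (hx : (x' : Γ) = g * x * g⁻¹) (hy : (y' : Γ) = g * y * g⁻¹) :
    form Z μ hcZ x' y' = form Z μ hcZ x y :=
  hμ ⟨_, hcZ x y⟩ ⟨_, hcZ x' y'⟩ (by simp [commutatorElement_def, hx, hy, mul_assoc])

theorem rad_conj {Ω : Type*} [Field Ω] {P₀ : Subgroup Γ} (Z : Subgroup P₀) (μ : Z →* Ω)
    (hcZ : ∀ a b : P₀, ⁅a, b⁆ ∈ Z) (hZ : Z ≤ Subgroup.center P₀) (g : Γ)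
    (hgN : g ∈ Subgroup.normalizer (P₀ : Set Γ))
    (hμ : ∀ z z' : Z, ((z' : P₀) : Γ) = g * (z : P₀) * g⁻¹ → μ z' = μ z) :
    ∀ x ∈ (rad Z μ hcZ hZ).map P₀.subtype, g * x * g⁻¹ ∈ (rad Z μ hcZ hZ).map P₀.subtype := by
  rintro _ ⟨x, hx, rfl⟩
  refine ⟨⟨_, (Subgroup.mem_normalizer_iff.1 hgN (x : Γ)).1 x.2⟩, fun y => ?_, rfl⟩
  have hy : g⁻¹ * (y : Γ) * g ∈ P₀ :=
    (Subgroup.mem_normalizer_iff.1 hgN _).2 (by simp [mul_assoc])
  rw [form_conj Z μ hcZ g hμ x ⟨_, hy⟩ _ y rfl (by simp [mul_assoc])]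
  exact hx _

theorem eq_one_of_mul_self {A : Type*} [Monoid A] {q : ℕ} (hq : Odd q) {z : A} (h1 : z * z = 1)
    (h2 : z ^ q = 1) : z = 1 := by
  obtain ⟨i, hi⟩ := hq
  rwa [hi, pow_succ, pow_mul, pow_two, h1, one_pow, one_mul] at h2

theorem exists_moving_char {Ω : Type*} [Field Ω] [IsAlgClosed Ω] {U : Type*} [AddCommGroup U]
    [Module Ω U] [FiniteDimensional Ω U] {P₀ : Subgroup Γ} (Z : Subgroup P₀)
    (hcZ : ∀ a b : P₀, ⁅a, b⁆ ∈ Z) (hZ : Z ≤ Subgroup.center P₀) (π : P₀ →* Module.End Ω U)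
    (hπ : Function.Injective π) (hcard : (Nat.card Z : Ω) ≠ 0) (D : Subgroup Γ)
    (hD : ∀ d ∈ D, ∀ x ∈ P₀, d * x * d⁻¹ ∈ P₀)
    (hne : ¬ ⁅P₀, D⁆ ≤ (Subgroup.center P₀).map P₀.subtype) :
    ∃ (μ : Z →* Ω) (u₀ : U), u₀ ≠ 0 ∧ (∀ z : Z, π z u₀ = μ z • u₀) ∧
      ∃ d ∈ D, ∃ x y : P₀, (y : Γ) = d * x * d⁻¹ ∧ x * y⁻¹ ∉ rad Z μ hcZ hZ := by
  by_contra hall
  push Not at hall
  refine hne ?_
  rw [Subgroup.commutator_le]
  intro x hx d hd
  let x' : P₀ := ⟨x, hx⟩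
  let y' : P₀ := ⟨d * x * d⁻¹, hD d hd x hx⟩
  have hmem : x' * y'⁻¹ ∈ Subgroup.center P₀ :=
    mem_center_of_rad Z hcZ hZ π hπ hcard fun μ u₀ hu0 hu => hall μ u₀ hu0 hu d hd x' y' rfl
  exact ⟨_, hmem, by simp [x', y', commutatorElement_def, mul_assoc]⟩

/-- `q' + 1` is a power of two, from the action on `P₀ ⧸ frattini P₀`. -/
theorem second_mersenne {n q q' : ℕ} [Fact q.Prime] [Fact q'.Prime] (hn : 1 ≤ n) (hq2 : q ≠ 2)
    (hq'2 : q' ≠ 2) (hne : q ≠ q') (s : Γ) (hs : s ^ 2 ^ n = 1) (P₀ : Subgroup Γ)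
    (hP₀ : IsPGroup q P₀) [Nontrivial P₀] (hsN : s ∈ Subgroup.normalizer (P₀ : Set Γ))
    (hfix : ∀ x ∈ P₀, s * x * s⁻¹ = x → x = 1) (D : Subgroup Γ) (hDp : IsPGroup q' D)
    (hDs : ∀ x ∈ D, s * x * s⁻¹ ∈ D) (hDN : D ≤ Subgroup.normalizer (P₀ : Set Γ))
    (hDD : ⁅D, Subgroup.zpowers (s ^ 2 ^ (n - 1))⁆ = D) (heq : ⁅P₀, D⁆ = P₀) :
    ∃ l, 2 ≤ l ∧ q' + 1 = 2 ^ l := by
  set Z := frattini P₀ with hZ
  have hcZ : ∀ a b : P₀, ⁅a, b⁆ ∈ Z := fun a b =>
    CfsgLib.PGroups.commutator_le_frattini hP₀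
      (Subgroup.commutator_mem_commutator (Subgroup.mem_top a) (Subgroup.mem_top b))
  letI : CommGroup (P₀ ⧸ Z) := commQuot Z hcZ
  let cM := quotAut Z (le_refl (Subgroup.normalizer (P₀ : Set Γ)))
    fun g hg => conj_mem_char_map hg Z
  have hMexp : ∀ e : P₀ ⧸ Z, e ^ q = 1 := fun e => by
    obtain ⟨x, rfl⟩ := QuotientGroup.mk_surjective e
    rw [← QuotientGroup.mk_pow, QuotientGroup.eq_one_iff]
    exact CfsgLib.PGroups.pow_mem_frattini hP₀ x
  have hMfix : ∀ e : P₀ ⧸ Z, cM ⟨s, hsN⟩ e = e → e = 1 :=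
    CfsgLib.FpfFour.quotient_fixedPointFree (σ := P₀.normalizerMonoidHom ⟨s, hsN⟩)
      (fun x hx => Subtype.ext (hfix x x.2 (congrArg Subtype.val hx))) Z
      ((Subgroup.characteristic_iff_map_eq.1 inferInstance) _)
  refine mersenne_of_moved (V := P₀ ⧸ Z) (r := q) (n := n) hMexp hq2 hn (cM ⟨s, hsN⟩) ?_
    hMfix hq'2 hne.symm ((D.subgroupOf _).map cM)
    ((hDp.comap_of_injective _ (Subgroup.subtype_injective _)).map cM) ?_ ?_
  · rw [← map_pow, show (⟨s, hsN⟩ : Subgroup.normalizer (P₀ : Set Γ)) ^ 2 ^ n = 1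
      from Subtype.ext hs, map_one]
  · rintro _ ⟨d, hd, rfl⟩
    exact ⟨⟨s, hsN⟩ * d * ⟨s, hsN⟩⁻¹, hDs d hd, by simp⟩
  · by_contra hall
    push Not at hall
    have hτN := pow_mem hsN (2 ^ (n - 1))
    have h1 := ker_of_commute cM hDD hτN hDN fun d hd => by
      have h := hall (cM ⟨d, hDN hd⟩) ⟨⟨d, hDN hd⟩, hd, rfl⟩
      rw [← map_pow] at h
      exact h.symm
    have h2 : ⁅P₀, D⁆ ≤ Z.map P₀.subtype := by
      rw [Subgroup.commutator_le]
      intro x hx d hd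
      have hdx : d * x * d⁻¹ ∈ P₀ := (Subgroup.mem_normalizer_iff.1 (hDN hd) x).1 hx
      have h := quotAut_mk Z (le_refl (Subgroup.normalizer (P₀ : Set Γ)))
        (fun g hg => conj_mem_char_map hg Z) ⟨d, hDN hd⟩ ⟨x, hx⟩ ⟨_, hdx⟩ rfl
      change cM ⟨d, hDN hd⟩ _ = _ at h
      rw [h1 d hd, MulAut.one_apply, QuotientGroup.eq_iff_div_mem] at h
      exact ⟨_, h, by simp [commutatorElement_def, div_eq_mul_inv, mul_assoc]⟩
    rw [heq] at h2
    exact CfsgLib.PGroups.frattini_ne_top (G := P₀) (Subgroup.map_injective P₀.subtype_injective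
      (le_antisymm ((Subgroup.map_subtype_le Z).trans (by
        rw [← MonoidHom.range_eq_map, Subgroup.range_subtype])) (by
        rw [← MonoidHom.range_eq_map, Subgroup.range_subtype]; exact h2)))

/-- The final configuration is impossible. -/
theorem plane_step {Ω : Type*} [Field Ω] {q q' n : ℕ} [Fact q.Prime] [Fact q'.Prime]
    (hq2 : q ≠ 2) (hne : q ≠ q') {l : ℕ} (hl : 2 ≤ l) (hlq : q' + 1 = 2 ^ l) (hn : 1 ≤ n)
    (s : Γ) (hs : s ^ 2 ^ n = 1) (P₀ : Subgroup Γ)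
    (hsN : s ∈ Subgroup.normalizer (P₀ : Set Γ)) (α : MulAut P₀)
    (hα : ∀ i x, ((α ^ i) x : Γ) = s ^ i * x * (s ^ i)⁻¹)
    (Z : Subgroup P₀) (μ : Z →* Ω) (hcZ : ∀ a b : P₀, ⁅a, b⁆ ∈ Z)
    (hZ : Z ≤ Subgroup.center P₀) (hexp : ∀ x : P₀, x ^ q ∈ Z)
    (hZτ : ∀ z : Z, s ^ 2 ^ (n - 1) * ((z : P₀) : Γ) = ((z : P₀) : Γ) * s ^ 2 ^ (n - 1))
    (D : Subgroup Γ) (hDp : IsPGroup q' D) (hDs : ∀ x ∈ D, s * x * s⁻¹ ∈ D)
    (hDN : D ≤ Subgroup.normalizer (P₀ : Set Γ))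
    (hDD : ⁅D, Subgroup.zpowers (s ^ 2 ^ (n - 1))⁆ = D)
    (hZD : ∀ z : Z, ∀ d ∈ D, d * ((z : P₀) : Γ) = ((z : P₀) : Γ) * d)
    (hmove : ∃ d ∈ D, ∃ x y : P₀, (y : Γ) = d * x * d⁻¹ ∧ x * y⁻¹ ∉ rad Z μ hcZ hZ)
    (hstr : (∀ x, (α ^ 2 ^ (n - 1)) x * x⁻¹ ∈ rad Z μ hcZ hZ) ∨
      ∃ k, q + 1 = 2 ^ k ∧
        Nat.card (inverted Z μ hcZ hZ (α ^ 2 ^ (n - 1)) ⧸
          (rad Z μ hcZ hZ).subgroupOf (inverted Z μ hcZ hZ (α ^ 2 ^ (n - 1)))) = q ^ 2 ∧
        ∃ a, a + k ≤ n ∧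
          ∀ z : Z, ∀ hz : (α ^ 2 ^ a) (z : P₀) ∈ Z, μ ⟨(α ^ 2 ^ a) (z : P₀), hz⟩ = μ z) :
    False := by
  classical
  set τ := s ^ 2 ^ (n - 1) with hτ
  have hττ : τ * τ = 1 := by
    rw [hτ, ← pow_add, ← two_mul, ← pow_succ', Nat.sub_add_cancel hn, hs]
  set R := rad Z μ hcZ hZ with hR
  haveI : R.Normal := rad_normal Z μ hcZ hZ
  have hRc : ∀ a b : P₀, ⁅a, b⁆ ∈ R := fun a b => le_rad Z μ hcZ hZ (hcZ a b)
  let St : Subgroup Γ := Subgroup.normalizer (P₀ : Set Γ) ⊓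
    Subgroup.normalizer ((R.map P₀.subtype : Subgroup Γ) : Set Γ)
  have hSt : St ≤ Subgroup.normalizer (P₀ : Set Γ) := inf_le_left
  have hStR : ∀ g ∈ St, ∀ x ∈ R.map P₀.subtype, g * x * g⁻¹ ∈ R.map P₀.subtype :=
    fun g hg x hx => (Subgroup.mem_normalizer_iff.1 hg.2 x).1 hx
  letI : CommGroup (P₀ ⧸ R) := commQuot R hRc
  let cE := quotAut R hSt hStR
  have hcE : ∀ (g : St) (x y : P₀), (y : Γ) = g * x * (g : Γ)⁻¹ →
      cE g (x : P₀ ⧸ R) = (y : P₀ ⧸ R) := fun g x y h => quotAut_mk R hSt hStR g x y h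
  have hμD : ∀ d ∈ D, ∀ z z' : Z, ((z' : P₀) : Γ) = d * (z : P₀) * d⁻¹ → μ z' = μ z :=
    fun d hd z z' h => congrArg μ (Subtype.ext (Subtype.ext (by
      rw [h, hZD z d hd, mul_inv_cancel_right])))
  have hμτ : ∀ z z' : Z, ((z' : P₀) : Γ) = τ * (z : P₀) * τ⁻¹ → μ z' = μ z :=
    fun z z' h => congrArg μ (Subtype.ext (Subtype.ext (by
      rw [h, hZτ z, mul_inv_cancel_right])))
  have hDSt : D ≤ St := fun d hd => ⟨hDN hd,
    mem_normalizer_of_conj_le (rad_conj Z μ hcZ hZ d (hDN hd) (hμD d hd))⟩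
  have hτN : τ ∈ Subgroup.normalizer (P₀ : Set Γ) := hτ ▸ pow_mem hsN _
  have hτSt : τ ∈ St := ⟨hτN, mem_normalizer_of_conj_le (rad_conj Z μ hcZ hZ τ hτN hμτ)⟩
  -- the action of `D` does not commute with that of `τ`
  have hnc : ∃ d, ∃ hd : d ∈ D, cE ⟨d, hDSt hd⟩ * cE ⟨τ, hτSt⟩ ≠
      cE ⟨τ, hτSt⟩ * cE ⟨d, hDSt hd⟩ := by
    by_contra hall
    push Not at hall
    obtain ⟨d, hd, x, y, hy, hxy⟩ := hmove
    have h1 := ker_of_commute cE hDD hτSt hDSt hall d hd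
    have h2 := hcE ⟨d, hDSt hd⟩ x y hy
    rw [h1, MulAut.one_apply, QuotientGroup.eq_iff_div_mem, div_eq_mul_inv] at h2
    exact hxy h2
  have hβ : ∀ x : P₀, ((α ^ 2 ^ (n - 1)) x : Γ) = τ * x * τ⁻¹ := fun x => hα _ x
  rcases hstr with hleft | ⟨k, hk, hWcard, a, hak, hμa⟩
  · obtain ⟨d, hd, hd'⟩ := hnc
    have h1 : cE ⟨τ, hτSt⟩ = 1 := MulEquiv.ext fun e => by
      obtain ⟨x, rfl⟩ := QuotientGroup.mk_surjective e
      rw [hcE _ x _ (hβ x), MulAut.one_apply, QuotientGroup.eq_iff_div_mem, div_eq_mul_inv]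
      exact hleft x
    exact hd' (by rw [h1, one_mul, mul_one])
  have hk2 := two_le_of_odd_prime hq2 hk
  have hsa : s ^ 2 ^ a ∈ St := by
    refine ⟨pow_mem hsN _, mem_normalizer_of_conj_le
      (rad_conj Z μ hcZ hZ _ (pow_mem hsN _) fun z z' h => ?_)⟩
    have hz : (α ^ 2 ^ a) (z : P₀) = z' := Subtype.ext (by rw [hα, h])
    rw [← hμa z (hz ▸ z'.2)]
    exact congrArg μ (Subtype.ext hz.symm)
  set γ := cE ⟨_, hsa⟩ with hγ
  have hγτ : γ ^ 2 ^ (n - a - 1) = cE ⟨τ, hτSt⟩ := by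
    rw [hγ, ← map_pow]
    refine congrArg cE (Subtype.ext ?_)
    show (s ^ 2 ^ a) ^ 2 ^ (n - a - 1) = s ^ 2 ^ (n - 1)
    rw [← pow_mul, ← pow_add, show a + (n - a - 1) = n - 1 by omega]
  have hγm : γ ^ 2 ^ (n - a) = 1 := by
    rw [hγ, ← map_pow, show (⟨_, hsa⟩ : St) ^ 2 ^ (n - a) = 1 from Subtype.ext (by
      rw [SubmonoidClass.coe_pow, ← pow_mul, ← pow_add, Nat.add_sub_cancel' (by omega), hs,
        OneMemClass.coe_one]), map_one]
  have hEexp : ∀ e : P₀ ⧸ R, e ^ q = 1 := fun e => by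
    obtain ⟨x, rfl⟩ := QuotientGroup.mk_surjective e
    rw [← QuotientGroup.mk_pow, QuotientGroup.eq_one_iff]
    exact le_rad Z μ hcZ hZ (hexp x)
  obtain ⟨ω, hω⟩ := exists_form_lift R (fun x y => μ.toHomUnits ⟨⁅x, y⁆, hcZ x y⟩)
    (fun x x' y => Units.ext (form_mul Z μ hcZ hZ x x' y))
    (fun x y => by
      rw [← map_inv]
      exact congrArg _ (Subtype.ext (commutatorElement_inv x y).symm))
    fun x hx y => Units.ext (hx y)
  have hωval : ∀ x y : P₀, (ω (x : P₀ ⧸ R) (y : P₀ ⧸ R) : Ω) = form Z μ hcZ x y := fun x y => by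
    rw [hω]; rfl
  set τE := cE ⟨τ, hτSt⟩ with hτE
  let W : Subgroup (P₀ ⧸ R) :=
    { carrier := {e | τE e = e⁻¹}
      one_mem' := by simp
      mul_mem' := fun {e f} (he : τE e = e⁻¹) (hf : τE f = f⁻¹) => by
        show τE (e * f) = (e * f)⁻¹
        rw [map_mul, he, hf, mul_inv]
      inv_mem' := fun {e} (he : τE e = e⁻¹) => by
        show τE e⁻¹ = e⁻¹⁻¹
        rw [map_inv, he] }
  set WP := inverted Z μ hcZ hZ (α ^ 2 ^ (n - 1)) with hWP
  have hWiff : ∀ x : P₀, (x : P₀ ⧸ R) ∈ W ↔ x ∈ WP := by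
    intro x
    show τE (x : P₀ ⧸ R) = (x : P₀ ⧸ R)⁻¹ ↔ _
    rw [hτE, hcE _ x _ (hβ x), ← QuotientGroup.mk_inv, QuotientGroup.eq_iff_div_mem,
      div_eq_mul_inv, inv_inv, hWP, mem_inverted]
  have hW : Nat.card W = q ^ 2 := by
    rw [← hWcard]
    let f : WP →* W := MonoidHom.mk' (fun x => ⟨((x : P₀) : P₀ ⧸ R), (hWiff _).2 x.2⟩)
      fun x y => Subtype.ext rfl
    have hsurj : Function.Surjective f := by
      rintro ⟨e, he⟩
      obtain ⟨x, rfl⟩ := QuotientGroup.mk_surjective e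
      exact ⟨⟨x, (hWiff x).1 he⟩, rfl⟩
    have hkerf : f.ker = R.subgroupOf WP := by
      ext x
      rw [MonoidHom.mem_ker, Subgroup.mem_subgroupOf, ← QuotientGroup.eq_one_iff]
      exact Subtype.ext_iff
    rw [← Nat.card_congr (QuotientGroup.quotientKerEquivOfSurjective f hsurj).toEquiv, hkerf]
  have hodd : Odd q := (Fact.out : q.Prime).odd_of_ne_two hq2
  have hpres : ∀ u v : P₀, ω (τE u) (τE v) = ω (u : P₀ ⧸ R) (v : P₀ ⧸ R) := by
    intro u v
    rw [hτE, hcE _ u _ (hβ u), hcE _ v _ (hβ v)]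
    exact Units.ext (by
      rw [hωval, hωval]; exact form_conj Z μ hcZ τ hμτ u v _ _ (hβ u) (hβ v))
  have hωW : ∃ e ∈ W, ∃ f ∈ W, ω e f ≠ 1 := by
    by_contra hall
    push Not at hall
    have hW1 : W = ⊥ := by
      rw [eq_bot_iff]
      intro e he
      rw [Subgroup.mem_bot]
      obtain ⟨x, rfl⟩ := QuotientGroup.mk_surjective e
      rw [QuotientGroup.eq_one_iff]
      intro y
      have hyW : (y : P₀ ⧸ R)⁻¹ * τE y ∈ W := by
        show τE _ = _
        rw [map_mul, map_inv, mul_inv_rev, inv_inv, ← MulAut.mul_apply, hτE, ← map_mul,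
          show (⟨τ, hτSt⟩ : St) * ⟨τ, hτSt⟩ = 1 from Subtype.ext hττ, map_one, MulAut.one_apply,
          mul_comm]
      have h1 := hall _ he _ hyW
      rw [map_mul, map_inv, inv_mul_eq_one] at h1
      have h2 := hpres x y
      have he' : τE (x : P₀ ⧸ R) = (x : P₀ ⧸ R)⁻¹ := he
      rw [he', map_inv, MonoidHom.inv_apply, ← h1, inv_eq_iff_mul_eq_one] at h2
      have h3 := eq_one_of_mul_self hodd h2 (by rw [← map_pow, hEexp, map_one])
      rw [← hωval, h3, Units.val_one]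
    rw [hW1, Subgroup.card_bot] at hW
    exact absurd hW (Nat.one_lt_pow two_ne_zero (Fact.out : q.Prime).one_lt).ne
  refine plane_impossible (q := q) (q' := q') (k := k) (l := l) (m := n - a)
    hk hlq hk2 hl hne (by omega) hEexp γ hγm ((D.subgroupOf St).map cE)
    ((hDp.comap_of_injective _ St.subtype_injective).map cE) ?_ ?_ W ?_ hW ω ?_ hωW
  · rintro _ ⟨d, hd, rfl⟩
    exact ⟨⟨_, hsa⟩ * d * ⟨_, hsa⟩⁻¹, pow_mem_normalizing hDs (2 ^ a) d hd, by simp [hγ]⟩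
  · obtain ⟨d, hd, hd'⟩ := hnc
    exact ⟨_, ⟨⟨d, hDSt hd⟩, hd, rfl⟩, by rw [hγτ]; exact fun h => hd' h.symm⟩
  · intro e; rw [hγτ]; rfl
  · rintro _ ⟨d, hd, rfl⟩ e f
    obtain ⟨x, rfl⟩ := QuotientGroup.mk_surjective e
    obtain ⟨y, rfl⟩ := QuotientGroup.mk_surjective f
    have hd1 := hDN hd
    rw [hcE d x ⟨_, (Subgroup.mem_normalizer_iff.1 hd1 (x : Γ)).1 x.2⟩ rfl,
      hcE d y ⟨_, (Subgroup.mem_normalizer_iff.1 hd1 (y : Γ)).1 y.2⟩ rfl]
    exact Units.ext (by rw [hωval, hωval]; exact form_conj Z μ hcZ _ (hμD _ hd) x y _ _ rfl rfl)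

end Plane'

section Double

variable {V : Type u} [CommGroup V] [Finite V] {r n : ℕ} [Fact r.Prime]

/-- The involution of `s` cannot move two successive operator groups. -/
theorem no_double_move (hexp : ∀ v : V, v ^ r = 1) (hr2 : r ≠ 2) (hn : 1 ≤ n) (s : MulAut V)
    (hs : s ^ 2 ^ n = 1) (hsfix : ∀ v, s v = v → v = 1) {q q' : ℕ} [Fact q.Prime] [Fact q'.Prime]
    (hq2 : q ≠ 2) (hq'2 : q' ≠ 2) (hqr : q ≠ r) (hne : q ≠ q') (P Q : Subgroup (MulAut V))
    (hP : IsPGroup q P) (hQ : IsPGroup q' Q) (hsP : ∀ x ∈ P, s * x * s⁻¹ ∈ P)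
    (hsQ : ∀ x ∈ Q, s * x * s⁻¹ ∈ Q) (hQP : ∀ d ∈ Q, ∀ x ∈ P, d * x * d⁻¹ ∈ P)
    (hPfix : ∀ x ∈ P, s * x * s⁻¹ = x → x = 1) :
    ∀ d ∈ ⁅Q, Subgroup.zpowers (s ^ 2 ^ (n - 1))⁆, ∀ x ∈ P, d * x = x * d := by
  classical
  haveI := mulAut_finite V
  set τ := s ^ 2 ^ (n - 1) with hτ
  have hττ : τ * τ = 1 := by
    rw [hτ, ← pow_add, ← two_mul, ← pow_succ', Nat.sub_add_cancel hn, hs]
  set T := Subgroup.zpowers τ with hT
  have hTs : ∀ x ∈ T, s * x * s⁻¹ ∈ T := by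
    intro x hx
    obtain ⟨i, rfl⟩ := Subgroup.mem_zpowers_iff.1 hx
    rw [show s * τ ^ i * s⁻¹ = τ ^ i by
      rw [hτ, ← zpow_natCast, ← zpow_mul, mul_inv_eq_iff_eq_mul]
      exact ((Commute.refl s).zpow_right _).eq]
    exact Subgroup.zpow_mem _ (Subgroup.mem_zpowers τ) i
  have hTQ : T ≤ Subgroup.normalizer (Q : Set (MulAut V)) :=
    Subgroup.zpowers_le.2 (hτ ▸ pow_mem (mem_normalizer_of_conj_le hsQ) _)
  set D := ⁅Q, T⁆ with hD
  have hDQ : D ≤ Q := CfsgLib.Coprime.commutator_le_of_le_normalizer hTQ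
  have hQsol : Group.IsSolvable Q := by haveI := hQ.isNilpotent; infer_instance
  have hDD : ⁅D, T⁆ = D :=
    CfsgLib.Coprime.commutator_commutator_eq hTQ (coprime_zpowers_pGroup hq'2 hττ hQ) (Or.inr hQsol)
  have hDs : ∀ x ∈ D, s * x * s⁻¹ ∈ D := conj_mem_commutator hsQ hTs
  by_contra hmov
  push Not at hmov
  obtain ⟨P₀, ⟨hP₀P, hP₀s, hP₀D, hP₀mov⟩, hmin⟩ := Set.exists_min_image
    {R : Subgroup (MulAut V) | R ≤ P ∧ (∀ x ∈ R, s * x * s⁻¹ ∈ R) ∧
      (∀ d ∈ D, ∀ x ∈ R, d * x * d⁻¹ ∈ R) ∧ ∃ d ∈ D, ∃ x ∈ R, d * x ≠ x * d}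
    (fun R => Nat.card R) (Set.toFinite _)
    ⟨P, le_rfl, hsP, fun d hd => hQP d (hDQ hd), hmov⟩
  have hproper : ∀ R : Subgroup (MulAut V), R ≤ P₀ → R ≠ P₀ → (∀ x ∈ R, s * x * s⁻¹ ∈ R) →
      (∀ d ∈ D, ∀ x ∈ R, d * x * d⁻¹ ∈ R) → R ≤ Subgroup.centralizer (D : Set (MulAut V)) := by
    intro R hR hRne hRs hRD x hx
    rw [Subgroup.mem_centralizer_iff]
    by_contra hall
    push Not at hall
    obtain ⟨d, hd, hd'⟩ := hall
    exact hRne (Subgroup.eq_of_le_of_card_ge hR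
      (hmin R ⟨hR.trans hP₀P, hRs, hRD, d, hd, x, hx, hd'⟩))
  have hP₀ : IsPGroup q P₀ := hP.to_le hP₀P
  have hsN := mem_normalizer_of_conj_le hP₀s
  have hDN : D ≤ Subgroup.normalizer (P₀ : Set (MulAut V)) := fun d hd =>
    mem_normalizer_of_conj_le (hP₀D d hd)
  have hDp : IsPGroup q' D := hQ.to_le hDQ
  have hcopD : (Nat.card D).Coprime (Nat.card P₀) :=
    IsPGroup.coprime_card_of_ne q' q hne.symm D P₀ hDp hP₀
  obtain ⟨heq, hcentral⟩ := minimal_moved hP₀.isNilpotent hDN hcopD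
    (fun h => by
      obtain ⟨d, hd, x, hx, hne'⟩ := hP₀mov
      exact hne' (Subgroup.mem_centralizer_iff.1 (h hx) d hd))
    (fun hne' => hproper _ (CfsgLib.Coprime.commutator_le_of_le_normalizer hDN) hne'
      (conj_mem_commutator hP₀s hDs)
      (fun d hd => conj_mem_commutator (hP₀D d hd) (fun x hx => D.mul_mem (D.mul_mem hd hx) (D.inv_mem hd))))
  haveI : Nontrivial P₀ := by
    rw [Subgroup.nontrivial_iff_ne_bot]
    intro h
    obtain ⟨d, -, x, hx, hne'⟩ := hP₀mov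
    rw [h, Subgroup.mem_bot] at hx
    exact hne' (by rw [hx, one_mul, mul_one])
  have hnab : Subgroup.center P₀ ≠ ⊤ := by
    intro htop
    -- an abelian group of operators is centralised by `τ`, hence by `D`
    have hPτ := le_centralizer_zpowers (abelian_centralised hexp hn s hs hsfix P₀ hsN
      (pGroup_coprime hqr hP₀) fun a ha b hb => by
        have h : (⟨a, ha⟩ : P₀) ∈ Subgroup.center P₀ := htop ▸ Subgroup.mem_top _
        exact (congrArg Subtype.val (Subgroup.mem_center_iff.1 h ⟨b, hb⟩)).symm)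
    have h1 : ⁅⁅T, P₀⁆, D⁆ = ⊥ := by
      rw [Subgroup.commutator_comm T, Subgroup.commutator_eq_bot_iff_le_centralizer.2 hPτ,
        Subgroup.commutator_bot_left]
    have h2 : ⁅⁅P₀, D⁆, T⁆ = ⊥ := by
      rw [heq]; exact Subgroup.commutator_eq_bot_iff_le_centralizer.2 hPτ
    have h3 := Subgroup.commutator_commutator_eq_bot_of_rotate h1 h2
    rw [hDD, Subgroup.commutator_eq_bot_iff_le_centralizer] at h3
    obtain ⟨d, hd, x, hx, hne'⟩ := hP₀mov
    exact hne' (Subgroup.mem_centralizer_iff.1 (h3 hd) x hx).symm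
  have hCne : (Subgroup.center P₀).map P₀.subtype ≠ P₀ := fun h => hnab
    (Subgroup.map_injective P₀.subtype_injective (by
      rw [← MonoidHom.range_eq_map, Subgroup.range_subtype]; exact h))
  have hCD := hproper _ (Subgroup.map_subtype_le _) hCne (conj_mem_char_map hsN _)
    (fun d hd => conj_mem_char_map (hDN hd) _)
  set Z := frattini P₀ with hZdef
  have hZmap : Z.map P₀.subtype ≠ P₀ := fun h => CfsgLib.PGroups.frattini_ne_top (G := P₀)
    (Subgroup.map_injective P₀.subtype_injective (by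
      rw [← MonoidHom.range_eq_map, Subgroup.range_subtype]; exact h))
  have hZD := hproper _ (Subgroup.map_subtype_le Z) hZmap (conj_mem_char_map hsN Z)
    (fun d hd => conj_mem_char_map (hDN hd) Z)
  have hZ : Z ≤ Subgroup.center P₀ := hcentral Z inferInstance hZD
  have hZP₀ : (Z.map P₀.subtype : Subgroup (MulAut V)) ≤ P₀ := Subgroup.map_subtype_le Z
  have hZτ : ∀ z ∈ Z.map P₀.subtype, τ * z = z * τ :=
    abelian_centralised hexp hn s hs hsfix _ (mem_normalizer_of_conj_le (conj_mem_char_map hsN Z))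
      (pGroup_coprime hqr (hP₀.to_le hZP₀))
      (by
        rintro _ ⟨a, ha, rfl⟩ _ ⟨b, hb, rfl⟩
        exact congrArg Subtype.val (Subgroup.mem_center_iff.1 (hZ hb) a))
  have hcZ : ∀ a b : P₀, ⁅a, b⁆ ∈ Z := fun a b =>
    CfsgLib.PGroups.commutator_le_frattini hP₀
      (Subgroup.commutator_mem_commutator (Subgroup.mem_top a) (Subgroup.mem_top b))
  obtain ⟨Ω, _, _, _, U, _, _, _, F, hF, hFfix⟩ := exists_linear r hexp
  set π := F.comp P₀.subtype with hπ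
  -- a character on which `D` acts nontrivially
  obtain ⟨μ, u₀, hu0, hu, hmove⟩ := exists_moving_char Z hcZ hZ π
    (fun a b h => Subtype.val_injective (hF h))
    (natCast_ne_zero ((pGroup_coprime hqr hP₀).coprime_dvd_left Z.card_subgroup_dvd_card)) D hP₀D
    (fun hle => hCne (le_antisymm (Subgroup.map_subtype_le _) (heq.symm.trans_le hle)))
  obtain ⟨l, hl, hlq⟩ := second_mersenne hn hq2 hq'2 hne s hs P₀ hP₀ hsN
    (fun x hx => hPfix x (hP₀P hx)) D hDp hDs hDN hDD heq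
  refine plane_step hq2 hne hl hlq hn s hs P₀ hsN (conjRes s P₀ hsN)
    (fun i x => conjRes_pow s P₀ hsN i x) Z μ hcZ hZ (CfsgLib.PGroups.pow_mem_frattini hP₀)
    (fun z => hZτ _ ⟨_, z.2, rfl⟩) D hDp hDs hDN hDD
    (fun z d hd => Subgroup.mem_centralizer_iff.1 (hZD ⟨_, z.2, rfl⟩) d hd)
    hmove ?_
  exact structure_of_char Z μ hcZ hZ hq2 hn hP₀ (CfsgLib.PGroups.pow_mem_frattini hP₀)
    (natCast_ne_zero (r := r) ((Nat.coprime_primes Nat.prime_two Fact.out).2 hr2.symm))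
    (natCast_ne_zero (r := r) ((Nat.coprime_primes Fact.out Fact.out).2 hqr))
    π (conjRes s P₀ hsN) (conjRes_pow_eq_one P₀ hsN hs)
    (fun z hz => by
      have h : z ∈ Z.comap (conjRes s P₀ hsN).toMonoidHom := by
        rw [Subgroup.Characteristic.fixed inferInstance (conjRes s P₀ hsN : P₀ ≃* P₀)]; exact hz
      exact h)
    (fun z hz => by
      simp only [hπ, MonoidHom.comp_apply, Subgroup.coe_subtype, conjRes_pow, ← hτ,
        hZτ (z : MulAut V) ⟨z, hz, rfl⟩, mul_inv_cancel_right])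
    (F s) (by rw [← map_pow, hs, map_one]) (hFfix s hsfix)
    (fun y => by
      have := conjRes_pow s P₀ hsN 1 y
      rw [pow_one, pow_one] at this
      simp only [hπ, MonoidHom.comp_apply, Subgroup.coe_subtype, this, ← map_mul,
        inv_mul_cancel_right])
    hu0 hu

end Double

end CfsgLib.GrossFpf
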