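import Mathlib

/-!
Eigenvectors of commuting operators over an algebraically closed field and orbit sums.
-/

set_option autoImplicit false
set_option linter.style.haveILetI false

namespace CfsgLib.GrossFpf

open Module

variable {Ω : Type*} [Field Ω] {U : Type*} [AddCommGroup U] [Module Ω U]

/-- A nonzero invariant subspace of commuting operators contains a common eigenvector. -/
theorem exists_common_eigen [IsAlgClosed Ω] [FiniteDimensional Ω U] {κ : Type*} (T : κ → End Ω U)
    (hc : ∀ i j, T i * T j = T j * T i) (X : Submodule Ω U) (hX : X ≠ ⊥)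
    (hinv : ∀ i, ∀ u ∈ X, T i u ∈ X) :
    ∃ u ∈ X, u ≠ 0 ∧ ∀ i, ∃ c : Ω, T i u = c • u := by
  induction h : finrank Ω X using Nat.strong_induction_on generalizing X with
  | _ d ih =>
  subst h
  obtain ⟨u, hu, hu0⟩ := Submodule.exists_mem_ne_zero_of_ne_bot hX
  by_cases hall : ∀ i, ∃ c : Ω, ∀ x ∈ X, T i x = c • x
  · exact ⟨u, hu, hu0, fun i => (hall i).imp fun c hc => hc u hu⟩
  push Not at hall
  obtain ⟨i, hi⟩ := hall
  haveI : Nontrivial X := (Submodule.nontrivial_iff_ne_bot).2 hX
  obtain ⟨c, hev⟩ := Module.End.exists_eigenvalue ((T i).restrict (hinv i))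
  obtain ⟨w, hw⟩ := hev.exists_hasEigenvector
  let Y : Submodule Ω U := X ⊓ LinearMap.ker (T i - c • 1)
  have hmem : ∀ y, y ∈ Y ↔ y ∈ X ∧ T i y = c • y := fun y => by
    simp [Y, sub_eq_zero]
  have hY : Y ≠ ⊥ := by
    intro hb
    have : (w : U) ∈ Y := (hmem _).2 ⟨w.2, congrArg Subtype.val hw.apply_eq_smul⟩
    rw [hb, Submodule.mem_bot] at this
    exact hw.2 (Subtype.ext this)
  have hlt : Y < X := by
    refine lt_of_le_of_ne inf_le_left fun he => ?_
    obtain ⟨x, hx, hne⟩ := hi c
    exact hne ((hmem x).1 (he.symm ▸ hx)).2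
  obtain ⟨v, hv, hv0, hve⟩ := ih _ (Submodule.finrank_lt_finrank_of_lt hlt) Y hY
    (fun j y hy => (hmem _).2 ⟨hinv j y ((hmem y).1 hy).1, by
      have := LinearMap.congr_fun (hc i j) y
      simp only [Module.End.mul_apply] at this
      rw [this, ((hmem y).1 hy).2, map_smul]⟩) rfl
  exact ⟨v, ((hmem v).1 hv).1, hv0, hve⟩

/-- Commuting operators of an irreducible family are scalars. -/
theorem exists_scalar [IsAlgClosed Ω] [FiniteDimensional Ω U] [Nontrivial U] {κ : Type*}
    (T : κ → End Ω U)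
    (hirr : ∀ X : Submodule Ω U, (∀ i, ∀ u ∈ X, T i u ∈ X) → X = ⊥ ∨ X = ⊤)
    (Y : End Ω U) (hY : ∀ i, Y * T i = T i * Y) : ∃ c : Ω, Y = c • 1 := by
  obtain ⟨c, hev⟩ := Module.End.exists_eigenvalue Y
  refine ⟨c, ?_⟩
  rcases hirr (LinearMap.ker (Y - c • 1)) (fun i u hu => by
      have h := LinearMap.congr_fun (hY i) u
      simp only [LinearMap.mem_ker, LinearMap.sub_apply, LinearMap.smul_apply,
        Module.End.one_apply, sub_eq_zero, Module.End.mul_apply] at hu h ⊢
      rw [h, hu, map_smul]) with h | h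
  · obtain ⟨w, hw⟩ := hev.exists_hasEigenvector
    have hw' : w ∈ LinearMap.ker (Y - c • 1) := by simp [hw.apply_eq_smul]
    rw [h, Submodule.mem_bot] at hw'
    exact absurd hw' hw.2
  · exact sub_eq_zero.1 (LinearMap.ker_eq_top.1 h)

/-- Vectors in common eigenspaces with distinct eigenvalues are independent. -/
theorem eq_zero_of_sum_eigen {κ ι : Type*} (T : κ → End Ω U) (c : ι → κ → Ω) (u : ι → U)
    (s : Finset ι) (he : ∀ i ∈ s, ∀ k, T k (u i) = c i k • u i)
    (hd : ∀ i ∈ s, ∀ j ∈ s, i ≠ j → ∃ k, c i k ≠ c j k) (hsum : ∑ i ∈ s, u i = 0) :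
    ∀ i ∈ s, u i = 0 := by
  classical
  induction s using Finset.induction_on generalizing u with
  | empty => simp
  | @insert a s ha ih =>
    rw [Finset.sum_insert ha] at hsum
    have hrest : ∀ i ∈ s, u i = 0 := by
      intro i hi
      obtain ⟨k, hk⟩ := hd i (Finset.mem_insert_of_mem hi) a (Finset.mem_insert_self a s)
        (fun e => ha (e ▸ hi))
      have h := ih (fun j => (c j k - c a k) • u j)
        (fun j hj l => by
          rw [map_smul, he j (Finset.mem_insert_of_mem hj) l, smul_comm])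
        (fun j hj l hl => hd j (Finset.mem_insert_of_mem hj) l (Finset.mem_insert_of_mem hl))
        (by
          have h1 := congrArg (fun x => T k x - c a k • x) hsum
          simp only [map_add, map_sum, map_zero, smul_zero, sub_zero] at h1
          rw [he a (Finset.mem_insert_self a s) k] at h1
          rw [← h1, smul_add, Finset.smul_sum, add_sub_add_left_eq_sub, ← Finset.sum_sub_distrib]
          refine Finset.sum_congr rfl fun j hj => ?_
          rw [he j (Finset.mem_insert_of_mem hj) k, sub_smul]) i hi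
      exact (smul_eq_zero.1 h).resolve_left (sub_ne_zero.2 hk)
    intro i hi
    rcases Finset.mem_insert.1 hi with rfl | hi
    · rwa [Finset.sum_eq_zero hrest, add_zero] at hsum
    · exact hrest i hi

/-- A fixed-point-free operator has no eigenvector whose translates lie in distinct eigenspaces. -/
theorem eq_zero_of_period (S : End Ω U) (X : Submodule Ω U) (hSX : ∀ u ∈ X, S u ∈ X)
    (hfix : ∀ u ∈ X, S u = u → u = 0) {κ : Type*}
    (T : κ → End Ω U) (M : ℕ) (hM : 0 < M) (u : U) (hu : u ∈ X) (hMu : (S ^ M) u = u) (c : ℕ → κ → Ω)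
    (he : ∀ i < M, ∀ k, T k ((S ^ i) u) = c i k • (S ^ i) u)
    (hd : ∀ i < M, ∀ j < M, i ≠ j → ∃ k, c i k ≠ c j k) : u = 0 := by
  have hsum : ∑ i ∈ Finset.range M, (S ^ i) u = 0 := by
    have hmem : ∀ i, (S ^ i) u ∈ X := by
      intro i
      induction i with
      | zero => simpa using hu
      | succ i ih => rw [pow_succ', Module.End.mul_apply]; exact hSX _ ih
    apply hfix _ (X.sum_mem fun i _ => hmem i)
    rw [map_sum]
    have h1 : ∀ i, S ((S ^ i) u) = (S ^ (i + 1)) u := fun i => by
      rw [pow_succ', Module.End.mul_apply]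
    simp only [h1]
    have h2 := Finset.sum_range_succ' (fun i => (S ^ i) u) M
    have h3 := Finset.sum_range_succ (fun i => (S ^ i) u) M
    simp only [pow_zero, Module.End.one_apply] at h2
    rw [h3, hMu] at h2
    exact (add_right_cancel h2).symm
  have := eq_zero_of_sum_eigen T c (fun i => (S ^ i) u) (Finset.range M)
    (fun i hi => he i (Finset.mem_range.1 hi))
    (fun i hi j hj => hd i (Finset.mem_range.1 hi) j (Finset.mem_range.1 hj)) hsum 0
    (Finset.mem_range.2 hM)
  simpa using this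

/-- A common eigenvector of a commutative image is an eigenvector for a character. -/
theorem exists_char [IsAlgClosed Ω] [FiniteDimensional Ω U] {G : Type*} [Group G]
    (π : G →* End Ω U) (X : Submodule Ω U) (hX : X ≠ ⊥) (hinv : ∀ a, ∀ u ∈ X, π a u ∈ X)
    (hcomm : ∀ a b, ∀ u ∈ X, π a (π b u) = π b (π a u)) :
    ∃ u ∈ X, u ≠ 0 ∧ ∃ χ : G →* Ω, ∀ a, π a u = χ a • u := by
  haveI : Nontrivial X := Submodule.nontrivial_iff_ne_bot.2 hX
  obtain ⟨x, -, hx0, hxe⟩ := exists_common_eigen (fun a => (π a).restrict (hinv a))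
    (fun a b => LinearMap.ext fun u => Subtype.ext (hcomm a b u u.2)) ⊤ top_ne_bot
    (fun _ _ _ => Submodule.mem_top)
  choose χ hχ using hxe
  have hχ' : ∀ a, π a (x : U) = χ a • (x : U) := fun a => congrArg Subtype.val (hχ a)
  have hx : (x : U) ≠ 0 := fun h => hx0 (Subtype.ext h)
  refine ⟨x, x.2, hx, ⟨⟨χ, ?_⟩, fun a b => ?_⟩, hχ'⟩
  · have h := hχ' 1
    rw [map_one, Module.End.one_apply] at h
    exact (smul_left_injective Ω hx (by simpa using h)).symm
  · refine smul_left_injective Ω hx ?_
    show χ (a * b) • (x : U) = (χ a * χ b) • (x : U)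
    rw [← hχ', map_mul, Module.End.mul_apply, hχ', map_smul, hχ', smul_smul, mul_comm]

/-- An element acting non-trivially has a common eigenvector on which it is not the identity. -/
theorem exists_eigen_ne_one [IsAlgClosed Ω] [FiniteDimensional Ω U] {G : Type*} [Group G] [Finite G]
    (π : G →* End Ω U) (hcomm : ∀ a b, π a * π b = π b * π a) (hG : (Nat.card G : Ω) ≠ 0)
    {g : G} (hg : π g ≠ 1) :
    ∃ u : U, u ≠ 0 ∧ ∃ χ : G →* Ω, (∀ a, π a u = χ a • u) ∧ χ g ≠ 1 := by
  obtain ⟨u, hu, hu0, hue⟩ := exists_common_eigen (fun a => π a) hcomm (LinearMap.range (π g - 1))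
    (fun h => hg (sub_eq_zero.1 (LinearMap.range_eq_bot.1 h)))
    (fun a x hx => by
      obtain ⟨y, rfl⟩ := hx
      refine ⟨π a y, ?_⟩
      have h := LinearMap.congr_fun (hcomm g a) y
      simp only [LinearMap.sub_apply, Module.End.one_apply, Module.End.mul_apply, map_sub] at h ⊢
      rw [h])
  choose χ hχ using hue
  have hone : χ 1 = 1 := by
    have h := hχ 1
    rw [map_one, Module.End.one_apply] at h
    exact (smul_left_injective Ω hu0 (by simpa using h)).symm
  have hmul : ∀ a b, χ (a * b) = χ a * χ b := fun a b => smul_left_injective Ω hu0 (by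
    show χ (a * b) • u = (χ a * χ b) • u
    rw [← hχ, map_mul, Module.End.mul_apply, hχ, map_smul, hχ, smul_smul, mul_comm])
  refine ⟨u, hu0, ⟨⟨χ, hone⟩, hmul⟩, hχ, fun h1 => hu0 ?_⟩
  have h1' : χ g = 1 := h1
  obtain ⟨y, hy⟩ := hu
  rw [LinearMap.sub_apply, Module.End.one_apply] at hy
  have hpow : ∀ i : ℕ, π (g ^ i) y = y + (i : Ω) • u := by
    intro i
    induction i with
    | zero => simp
    | succ i ih =>
      rw [pow_succ', map_mul, Module.End.mul_apply, ih, map_add, map_smul, hχ, h1', one_smul,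
        Nat.cast_succ, add_smul, one_smul, ← hy]
      abel
  have h := hpow (orderOf g)
  rw [pow_orderOf_eq_one, map_one, Module.End.one_apply, left_eq_add, smul_eq_zero] at h
  refine h.resolve_left fun h0 => hG ?_
  obtain ⟨k, hk⟩ := orderOf_dvd_natCard g
  rw [hk, Nat.cast_mul, h0, zero_mul]

end CfsgLib.GrossFpf
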