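import Cfsg.Agent.Lib.GrossFpf.Descent
import Cfsg.Agent.Lib.Base.MinimalNormal
import Cfsg.Agent.Lib.Base.FPFAut
import Cfsg.Agent.Lib.Coprime.Action2

/-!
The action on the Frattini quotients of the `O_r(G)` and the Fitting descent for a fixed-point-free
automorphism of 2-power order.
-/

set_option autoImplicit false
set_option linter.style.haveILetI false
set_option linter.unusedSectionVars false

namespace CfsgLib.GrossFpf

open Cfsg
open scoped commutatorElement

universe u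

section Elem

variable {G : Type u} [Group G] [Finite G]

theorem odd_card_of_fpf (σ : MulAut G) {n : ℕ} (hσ : σ ^ 2 ^ n = 1)
    (hfix : ∀ g, σ g = g → g = 1) : Odd (Nat.card G) := by
  haveI : Fact (Nat.Prime 2) := ⟨Nat.prime_two⟩
  have hp : IsPGroup 2 (Subgroup.zpowers σ) := by
    rintro ⟨g, hg⟩
    obtain ⟨i, rfl⟩ := Subgroup.mem_zpowers_iff.1 hg
    refine ⟨n, Subtype.ext ?_⟩
    rw [SubmonoidClass.coe_pow, ← zpow_natCast, ← zpow_mul, mul_comm, zpow_mul, zpow_natCast, hσ,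
      one_zpow, OneMemClass.coe_one]
  have h := hp.card_modEq_card_fixedPoints G
  have h1 : MulAction.fixedPoints (Subgroup.zpowers σ) G = {1} := by
    refine Set.eq_singleton_iff_unique_mem.2 ⟨fun m => ?_, fun g hg => hfix g ?_⟩
    · exact map_one (m : MulAut G)
    · exact hg ⟨σ, Subgroup.mem_zpowers σ⟩
  rw [h1, Nat.card_eq_fintype_card (α := ({1} : Set G)), Set.card_singleton] at h
  rw [Nat.odd_iff]
  exact h

theorem eq_bot_of_two_group (hodd : Odd (Nat.card G)) (P : Subgroup G) (hP : IsPGroup 2 P) :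
    P = ⊥ := by
  haveI : Fact (Nat.Prime 2) := ⟨Nat.prime_two⟩
  obtain ⟨j, hj⟩ := IsPGroup.iff_card.1 hP
  rw [← Subgroup.card_eq_one, hj]
  rcases Nat.eq_zero_or_pos j with rfl | hpos
  · simp
  · exfalso
    have : 2 ∣ Nat.card G := (hj ▸ dvd_pow_self 2 hpos.ne').trans P.card_subgroup_dvd_card
    rw [Nat.odd_iff] at hodd
    omega

theorem eq_one_of_sq (hodd : Odd (Nat.card G)) {c : G} (hc : c * c = 1) : c = 1 :=
  eq_one_of_mul_self hodd hc (pow_card_eq_one' (x := c))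

theorem mem_of_pow_mem_coprime {H : Subgroup G} {g : G} {a b : ℕ} (ha : g ^ a ∈ H) (hb : g ^ b ∈ H)
    (hab : a.Coprime b) : g ∈ H := by
  have h : g = g ^ ((Nat.gcd a b : ℕ) : ℤ) := by rw [hab.gcd_eq_one]; simp
  rw [h, Nat.gcd_eq_gcd_ab, zpow_add, zpow_mul, zpow_mul, zpow_natCast, zpow_natCast]
  exact H.mul_mem (H.zpow_mem ha _) (H.zpow_mem hb _)

theorem pCore_commute {p r : ℕ} [Fact p.Prime] [Fact r.Prime] (hne : p ≠ r) {x y : G}
    (hx : x ∈ pCore p G) (hy : y ∈ pCore r G) : Commute x y :=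
  Subgroup.commute_of_normal_of_disjoint _ _ inferInstance inferInstance
    (IsPGroup.disjoint_of_ne p r hne _ _ (CfsgLib.Base.isPGroup_pCore p G)
      (CfsgLib.Base.isPGroup_pCore r G)) x y hx hy

/-- A normal subgroup above `F(G)` by a `q`-group, whose `q`-elements centralise the `O_r(G)` for
`r ≠ q`, lies in `F(G)`. -/
theorem le_fitting_of_centralizes (q : ℕ) [Fact q.Prime] (H : Subgroup G) [hHn : H.Normal]
    (hpow : ∀ h ∈ H, ∃ i, h ^ q ^ i ∈ fittingSubgroup G)
    (hcen : ∀ h ∈ H, (∃ a, h ^ q ^ a = 1) → ∀ r : ℕ, r.Prime → r ≠ q → ∀ x ∈ pCore r G,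
      h * x = x * h) :
    H ≤ fittingSubgroup G := by
  haveI := CfsgLib.Base.fittingSubgroup_normal' G
  let C : Subgroup G :=
    ⨅ r : {r : Nat.Primes // (r : ℕ) ≠ q}, Subgroup.centralizer (pCore (r.1 : ℕ) G : Set G)
  haveI : C.Normal := Subgroup.normal_iInf_normal fun _ => inferInstance
  let R : Subgroup G := ⨆ r : {r : Nat.Primes // (r : ℕ) ≠ q}, pCore (r.1 : ℕ) G
  haveI : R.Normal := by
    simp only [R]
    rw [← sSup_range]
    refine Subgroup.sSup_normal _ ?_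
    rintro _ ⟨r, rfl⟩
    exact inferInstance
  haveI : (H ⊓ C).Normal := inferInstance
  have hF : fittingSubgroup G ≤ pCore q G ⊔ R := by
    rw [CfsgLib.Base.fittingSubgroup_eq_iSup_pCore]
    refine iSup_le fun p => ?_
    by_cases hp : (p : ℕ) = q
    · rw [hp]; exact le_sup_left
    · exact le_trans (le_iSup (fun r : {r : Nat.Primes // (r : ℕ) ≠ q} => pCore (r.1 : ℕ) G) ⟨p, hp⟩)
        le_sup_right
  have hCR : R ≤ Subgroup.centralizer (C : Set G) := iSup_le fun r =>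
    CfsgLib.Base.le_centralizer_comm.1 (iInf_le _ r)
  -- `H ⊓ C` is a central extension of a `q`-group
  let π : ↥(H ⊓ C) →* G ⧸ R := (QuotientGroup.mk' R).comp (H ⊓ C).subtype
  have hpi : IsPGroup q π.range := by
    rintro ⟨_, ⟨h, hh⟩, rfl⟩
    obtain ⟨i, hi⟩ := hpow h hh.1
    obtain ⟨j, hj⟩ := IsPGroup.iff_card.1 (CfsgLib.Base.isPGroup_pCore q G)
    obtain ⟨a, ha, b, hb, hab⟩ := Subgroup.mem_sup_of_normal_right.1 (hF hi)
    refine ⟨i + j, Subtype.ext ?_⟩
    show ((h : G) : G ⧸ R) ^ q ^ (i + j) = 1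
    rw [pow_add, pow_mul, ← QuotientGroup.mk_pow, ← hab, QuotientGroup.mk_mul,
      (QuotientGroup.eq_one_iff b).2 hb, mul_one, ← QuotientGroup.mk_pow,
      show a ^ q ^ j = 1 by
        have h1 := pow_card_eq_one' (x := (⟨a, ha⟩ : pCore q G))
        rw [hj] at h1
        exact congrArg Subtype.val h1, QuotientGroup.mk_one]
  haveI : Group.IsNilpotent π.range := hpi.isNilpotent
  have hnil : Group.IsNilpotent ↥(H ⊓ C) := by
    refine Subgroup.isNilpotent_of_ker_le_center π.rangeRestrict ?_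
    intro x hx
    rw [MonoidHom.ker_rangeRestrict, MonoidHom.mem_ker] at hx
    have hxR : (x : G) ∈ R := (QuotientGroup.eq_one_iff _).1 hx
    rw [Subgroup.mem_center_iff]
    exact fun y => Subtype.ext (Subgroup.mem_centralizer_iff.1 (hCR hxR) y y.2.2)
  have h1 : H ⊓ C ≤ fittingSubgroup G := CfsgLib.Base.le_fittingSubgroup hnil
  intro h hh
  obtain ⟨i, hi⟩ := hpow h hh
  obtain ⟨a, m, hm, ho⟩ :=
    Nat.exists_eq_pow_mul_and_not_dvd (orderOf_pos h).ne' q (Fact.out : q.Prime).ne_one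
  have hm' : h ^ m ∈ fittingSubgroup G := h1 ⟨H.pow_mem hh m, by
    have hq : ∃ a, (h ^ m) ^ q ^ a = 1 :=
      ⟨a, by rw [← pow_mul, mul_comm, ← ho, pow_orderOf_eq_one]⟩
    refine Subgroup.mem_iInf.2 fun r => ?_
    rw [Subgroup.mem_centralizer_iff]
    exact fun x hx => (hcen _ (H.pow_mem hh m) hq r.1 r.1.2 r.2 x hx).symm⟩
  exact mem_of_pow_mem_coprime hi hm'
    (((Fact.out : q.Prime).coprime_iff_not_dvd.2 hm).pow_left i)

end Elem

section FrattiniAut

variable {N : Type u} [Group N]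

/-- Automorphisms act on the Frattini quotient. -/
noncomputable def frattiniAut : MulAut N →* MulAut (N ⧸ frattini N) :=
  MonoidHom.mk' (fun a => QuotientGroup.congr (frattini N) (frattini N) a
      ((Subgroup.characteristic_iff_map_eq.1 inferInstance) a))
    fun a b => MulEquiv.ext fun e => by
      obtain ⟨x, rfl⟩ := QuotientGroup.mk_surjective e
      rfl

theorem frattiniAut_mk (a : MulAut N) (x : N) :
    frattiniAut a (x : N ⧸ frattini N) = ((a x : N) : N ⧸ frattini N) := rfl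

end FrattiniAut

section CoreAct

variable {G : Type u} [Group G] [Finite G] (r : ℕ)

/-- `G` acts on the Frattini quotient of `O_r(G)`. -/
noncomputable def coreAct : G →* MulAut (↥(pCore r G) ⧸ frattini ↥(pCore r G)) :=
  frattiniAut.comp MulAut.conjNormal

theorem mem_ker_coreAct {g : G} :
    g ∈ (coreAct r : G →* _).ker ↔
      ∀ k ∈ pCore r G, g * k * g⁻¹ * k⁻¹ ∈ (frattini ↥(pCore r G)).map (pCore r G).subtype := by
  rw [MonoidHom.mem_ker]
  constructor
  · intro h k hk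
    have h1 := congrArg (fun a : MulAut (↥(pCore r G) ⧸ frattini ↥(pCore r G)) =>
      a ((⟨k, hk⟩ : pCore r G) : ↥(pCore r G) ⧸ frattini ↥(pCore r G))) h
    simp only [coreAct, MonoidHom.comp_apply, frattiniAut_mk, MulAut.one_apply] at h1
    rw [QuotientGroup.eq_iff_div_mem, div_eq_mul_inv] at h1
    exact ⟨_, h1, rfl⟩
  · intro h
    refine MulEquiv.ext fun e => ?_
    obtain ⟨⟨k, hk⟩, rfl⟩ := QuotientGroup.mk_surjective e
    rw [coreAct, MonoidHom.comp_apply, frattiniAut_mk, MulAut.one_apply,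
      QuotientGroup.eq_iff_div_mem, div_eq_mul_inv]
    obtain ⟨y, hy, hyv⟩ := h k hk
    have he : MulAut.conjNormal g (⟨k, hk⟩ : pCore r G) * (⟨k, hk⟩ : pCore r G)⁻¹ = y :=
      Subtype.ext (by rw [Subgroup.coe_subtype] at hyv; simp [hyv])
    rw [he]; exact hy

theorem fitting_le_ker_coreAct [Fact r.Prime] :
    fittingSubgroup G ≤ (coreAct r : G →* _).ker := by
  rw [CfsgLib.Base.fittingSubgroup_eq_iSup_pCore]
  refine iSup_le fun p => ?_
  intro g hg
  rw [mem_ker_coreAct]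
  intro k hk
  by_cases hp : (p : ℕ) = r
  · rw [hp] at hg
    refine ⟨⁅(⟨g, hg⟩ : pCore r G), ⟨k, hk⟩⁆, ?_, by simp [commutatorElement_def]⟩
    exact CfsgLib.PGroups.commutator_le_frattini (CfsgLib.Base.isPGroup_pCore r G)
      (Subgroup.commutator_mem_commutator (Subgroup.mem_top _) (Subgroup.mem_top _))
  · haveI := Fact.mk p.2
    rw [(pCore_commute hp hg hk).eq, mul_inv_cancel_right, mul_inv_cancel]
    exact one_mem _

theorem coreAct_equivariant (σ : MulAut G) (hσ : (pCore r G).map σ.toMonoidHom = pCore r G)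
    (k : ℕ) (g : G) :
    frattiniAut (CfsgLib.Base.FPFAut.restrict σ hσ) ^ k * coreAct r g =
      coreAct r ((σ ^ k) g) * frattiniAut (CfsgLib.Base.FPFAut.restrict σ hσ) ^ k := by
  rw [coreAct, MonoidHom.comp_apply, MonoidHom.comp_apply, ← map_pow, ← map_mul, ← map_mul]
  refine congrArg frattiniAut (MulEquiv.ext fun x => Subtype.ext ?_)
  simp only [MulAut.mul_apply, CfsgLib.Base.FPFAut.coe_restrict_pow, MulAut.conjNormal_apply,
    map_mul, map_inv]

end CoreAct

section DoubleMove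

variable {G : Type u} [Group G] [Finite G] (σ : MulAut G) {n q q' : ℕ}

/-- The involution of `σ` cannot move two successive layers. -/
theorem commutator_mem_fitting (hn : 1 ≤ n) (hσ : σ ^ 2 ^ n = 1)
    (hfix : ∀ g, σ g = g → g = 1) [Fact q.Prime] [Fact q'.Prime] (hq2 : q ≠ 2) (hq'2 : q' ≠ 2)
    (hne : q ≠ q') (M : Subgroup G) [hMn : M.Normal] (hMσ : ∀ m ∈ M, σ m ∈ M)
    (hMq : ∀ m ∈ M, ∃ i, m ^ q ^ i ∈ fittingSubgroup G) (Q : Subgroup G) (hQ : IsPGroup q' Q)
    (hQσ : ∀ x ∈ Q, σ x ∈ Q) :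
    ∀ x ∈ Q, ∀ m ∈ M, ⁅x⁻¹ * (σ ^ 2 ^ (n - 1)) x, m⁆ ∈ fittingSubgroup G := by
  have hodd := odd_card_of_fpf σ hσ hfix
  intro x hx m hm
  let H : Subgroup G := M ⊓ ⨅ r : {r : Nat.Primes // (r : ℕ) ≠ q}, (coreAct (r.1 : ℕ) : G →* _).ker
  haveI : (⨅ r : {r : Nat.Primes // (r : ℕ) ≠ q}, (coreAct (r.1 : ℕ) : G →* _).ker).Normal :=
    Subgroup.normal_iInf_normal fun _ => inferInstance
  haveI : H.Normal := inferInstance
  have hH : H ≤ fittingSubgroup G := by
    refine le_fitting_of_centralizes q H (fun h hh => hMq h hh.1) ?_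
    rintro h hh ⟨a, ha⟩ r hr hrq y hy
    haveI := Fact.mk hr
    have hker : h ∈ (coreAct r : G →* _).ker :=
      Subgroup.mem_iInf.1 hh.2 ⟨⟨r, hr⟩, hrq⟩
    have hAK : Subgroup.zpowers h ≤ Subgroup.normalizer (pCore r G : Set G) :=
      le_top.trans Subgroup.le_normalizer_of_normal
    have hcop : (Nat.card (Subgroup.zpowers h)).Coprime (Nat.card (frattini ↥(pCore r G))) := by
      obtain ⟨j, hj⟩ := IsPGroup.iff_card.1
        ((CfsgLib.Base.isPGroup_pCore r G).to_subgroup (frattini ↥(pCore r G)))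
      rw [hj, Nat.card_zpowers]
      exact Nat.Coprime.coprime_dvd_left (orderOf_dvd_of_pow_eq_one ha)
        (Nat.coprime_pow_primes a j Fact.out hr (Ne.symm hrq))
    have h1 := CfsgLib.Coprime.le_centralizer_of_trivial_mod_frattini hAK hcop
      (fun z hz k hk => (mem_ker_coreAct r).1 (Subgroup.zpowers_le.2 hker hz) k hk)
      (Subgroup.mem_zpowers h)
    exact (Subgroup.mem_centralizer_iff.1 h1 y hy).symm
  refine hH ⟨?_, ?_⟩
  · rw [commutatorElement_def]
    exact M.mul_mem (hMn.conj_mem m hm _) (M.inv_mem hm)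
  refine Subgroup.mem_iInf.2 ?_
  rintro ⟨⟨r, hr⟩, hrq⟩
  haveI := Fact.mk hr
  show _ ∈ (coreAct r : G →* _).ker
  have hNr : IsPGroup r ↥(pCore r G) := CfsgLib.Base.isPGroup_pCore r G
  by_cases hr2 : r = 2
  · subst hr2
    rw [mem_ker_coreAct]
    intro k hk
    rw [eq_bot_of_two_group hodd _ hNr, Subgroup.mem_bot] at hk
    subst hk
    rw [mul_one, mul_inv_cancel, inv_one, one_mul]
    exact one_mem _
  letI : CommGroup (↥(pCore r G) ⧸ frattini ↥(pCore r G)) :=
    commQuot _ fun a b => CfsgLib.PGroups.commutator_le_frattini hNr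
      (Subgroup.commutator_mem_commutator (Subgroup.mem_top a) (Subgroup.mem_top b))
  have hσr : (pCore r G).map σ.toMonoidHom = pCore r G :=
    (Subgroup.characteristic_iff_map_eq.1 inferInstance) σ
  set φ : G →* MulAut (↥(pCore r G) ⧸ frattini ↥(pCore r G)) := coreAct r
  set s := frattiniAut (CfsgLib.Base.FPFAut.restrict σ hσr) with hs
  have heqv : ∀ k g, s ^ k * φ g * (s ^ k)⁻¹ = φ ((σ ^ k) g) := fun k g =>
    mul_inv_eq_iff_eq_mul.2 (coreAct_equivariant r σ hσr k g)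
  have heqv1 : ∀ g, s * φ g * s⁻¹ = φ (σ g) := fun g => by simpa using heqv 1 g
  have hsn : s ^ 2 ^ n = 1 := by
    rw [hs, ← map_pow, CfsgLib.Base.FPFAut.restrict_pow_eq_one hσr hσ, map_one]
  have hsfix : ∀ v, s v = v → v = 1 :=
    CfsgLib.FpfFour.quotient_fixedPointFree (σ := CfsgLib.Base.FPFAut.restrict σ hσr)
      (fun y hy => Subtype.ext (hfix y (congrArg Subtype.val hy))) (frattini ↥(pCore r G))
      ((Subgroup.characteristic_iff_map_eq.1 inferInstance) _)
  have hexp : ∀ v : ↥(pCore r G) ⧸ frattini ↥(pCore r G), v ^ r = 1 := fun v => by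
    obtain ⟨y, rfl⟩ := QuotientGroup.mk_surjective v
    rw [← QuotientGroup.mk_pow, QuotientGroup.eq_one_iff]
    exact CfsgLib.PGroups.pow_mem_frattini hNr y
  have hkσ : φ.ker.map σ.toMonoidHom = φ.ker := CfsgLib.FpfFour.map_eq_of_le σ fun g hg => by
    rw [MonoidHom.mem_ker] at hg ⊢
    rw [← heqv1, hg, mul_one, mul_inv_cancel]
  have hPfix : ∀ y ∈ M.map φ, s * y * s⁻¹ = y → y = 1 := by
    rintro _ ⟨g, -, rfl⟩ hg
    have h1 := CfsgLib.FpfFour.quotient_fixedPointFree hfix φ.ker hkσ (g : G ⧸ φ.ker) (by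
      show ((σ g : G) : G ⧸ φ.ker) = g
      rw [QuotientGroup.eq_iff_div_mem, MonoidHom.mem_ker, map_div, ← heqv1, hg, div_self'])
    exact (QuotientGroup.eq_one_iff g).1 h1
  have hP : IsPGroup q (M.map φ) := by
    rintro ⟨_, g, hg, rfl⟩
    obtain ⟨i, hi⟩ := hMq g hg
    exact ⟨i, Subtype.ext (by
      rw [SubmonoidClass.coe_pow, OneMemClass.coe_one, ← map_pow]
      exact fitting_le_ker_coreAct r hi)⟩
  have hd : φ (x⁻¹ * (σ ^ 2 ^ (n - 1)) x) ∈
      ⁅Q.map φ, Subgroup.zpowers (s ^ 2 ^ (n - 1))⁆ := by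
    have h1 := Subgroup.commutator_mem_commutator (H₁ := Q.map φ)
      (Subgroup.mem_map_of_mem φ (Q.inv_mem hx)) (Subgroup.mem_zpowers (s ^ 2 ^ (n - 1)))
    convert h1 using 1
    rw [map_mul, ← heqv, map_inv, commutatorElement_def, inv_inv]
    group
  have hcom := no_double_move hexp hr2 hn s hsn hsfix hq2 hq'2 (Ne.symm hrq) hne (M.map φ) (Q.map φ)
    hP (hQ.map φ) (by rintro _ ⟨g, hg, rfl⟩; exact ⟨σ g, hMσ g hg, (heqv1 g).symm⟩)
    (by rintro _ ⟨g, hg, rfl⟩; exact ⟨σ g, hQσ g hg, (heqv1 g).symm⟩)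
    (by
      rintro _ ⟨g, -, rfl⟩ _ ⟨y, hy, rfl⟩
      exact ⟨g * y * g⁻¹, hMn.conj_mem y hy g, by simp⟩)
    hPfix _ hd _ ⟨m, hm, rfl⟩
  rw [MonoidHom.mem_ker, map_commutatorElement, commutatorElement_eq_one_iff_mul_comm]
  exact hcom

end DoubleMove

end CfsgLib.GrossFpf
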