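import Cfsg.Agent.Lib.GrossFpf.Twisted
import Cfsg.Agent.S3784

/-!
A `q`-group of class at most two on a space with a fixed-point-free operator `S` of order `2 ^ n`:
on each central character the involution induced by `S` is trivial modulo the radical of the
commutator form, or `q + 1` is a power of two and it inverts a section of order `q ^ 2`.
-/

set_option autoImplicit false
set_option linter.style.haveILetI false
set_option linter.unusedSectionVars false

namespace CfsgLib.GrossFpf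

open Module
open scoped commutatorElement

variable {Ω : Type*} [Field Ω] {U : Type*} [AddCommGroup U] [Module Ω U]
variable {P : Type*} [Group P]

/-- The exponent `k` of the least power of two fixing a character. -/
theorem exists_period {n : ℕ} (γ : MulAut P) (hγ : γ ^ 2 ^ n = 1) (χ : P →* Ω) :
    ∃ a, a ≤ n ∧ (∀ x, χ ((γ ^ 2 ^ a) x) = χ x) ∧
      ∀ i < 2 ^ a, ∀ j < 2 ^ a, i ≠ j → ∃ x, χ ((γ ^ i) x) ≠ χ ((γ ^ j) x) := by
  classical
  let H : AddSubgroup ℤ :=
    { carrier := {k | ∀ x, χ ((γ ^ k) x) = χ x}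
      zero_mem' := fun x => by simp
      add_mem' := fun {k l} hk hl x => by rw [zpow_add, MulAut.mul_apply, hk, hl]
      neg_mem' := fun {k} hk x => by
        conv_rhs => rw [show x = (γ ^ k) ((γ ^ (-k)) x) by
          rw [← MulAut.mul_apply, ← zpow_add, add_neg_cancel, zpow_zero]; rfl]
        rw [hk] }
  have hn : ((2 ^ n : ℕ) : ℤ) ∈ H := fun x => by rw [zpow_natCast, hγ]; rfl
  have hex : ∃ a, ((2 ^ a : ℕ) : ℤ) ∈ H := ⟨n, hn⟩
  refine ⟨Nat.find hex, Nat.find_min' hex hn, fun x => by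
    have h := Nat.find_spec hex
    have h' := h x
    rw [zpow_natCast] at h'
    exact h', ?_⟩
  have key : ∀ i j, i < j → j < 2 ^ Nat.find hex → ∃ x, χ ((γ ^ i) x) ≠ χ ((γ ^ j) x) := by
    intro i j hij hj
    by_contra hall
    push Not at hall
    have hd : ((j - i : ℕ) : ℤ) ∈ H := fun x => by
      have h := hall ((γ ^ (-(i : ℤ))) x)
      rw [← zpow_natCast, ← MulAut.mul_apply, ← zpow_natCast, ← MulAut.mul_apply, ← zpow_add,
        ← zpow_add, add_neg_cancel, zpow_zero] at h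
      rw [Nat.cast_sub hij.le, sub_eq_add_neg]
      exact h.symm
    obtain ⟨b, hb, hb'⟩ := (Nat.dvd_prime_pow Nat.prime_two).1 (Nat.gcd_dvd_right (j - i) (2 ^ n))
    have hg : ((2 ^ b : ℕ) : ℤ) ∈ H := by
      rw [← hb', Nat.gcd_eq_gcd_ab, mul_comm _ (Nat.gcdA _ _), mul_comm _ (Nat.gcdB _ _)]
      exact H.add_mem (by simpa using H.zsmul_mem hd (Nat.gcdA (j - i) (2 ^ n)))
        (by simpa using H.zsmul_mem hn (Nat.gcdB (j - i) (2 ^ n)))
    have h1 := Nat.find_min' hex hg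
    have h2 : 2 ^ b ≤ j - i := hb' ▸ Nat.le_of_dvd (by omega) (Nat.gcd_dvd_left _ _)
    have h3 : 2 ^ Nat.find hex ≤ 2 ^ b := Nat.pow_le_pow_right two_pos h1
    omega
  intro i hi j hj hne
  rcases lt_or_gt_of_ne hne with h | h
  · exact key i j h hj
  · exact (key j i h hi).imp fun x hx => hx.symm

/-- On an eigenspace the power of `S` fixing the character has no fixed vector. -/
theorem fpf_on_eigen {n : ℕ} (π : P →* End Ω U) (γ : MulAut P) (hγ : γ ^ 2 ^ n = 1)
    (S : End Ω U) (X : Submodule Ω U) (hSX : ∀ u ∈ X, S u ∈ X)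
    (hfix : ∀ u ∈ X, S u = u → u = 0) (hc : ∀ x, π x * S = S * π (γ x)) (χ : P →* Ω) :
    ∃ a, a ≤ n ∧ (∀ x, χ ((γ ^ 2 ^ a) x) = χ x) ∧
      ∀ u ∈ X, (∀ x, π x u = χ x • u) → (S ^ 2 ^ a) u = u → u = 0 := by
  obtain ⟨a, han, hper, hdist⟩ := exists_period γ hγ χ
  refine ⟨a, han, hper, fun u hu hue hSu => ?_⟩
  have hci : ∀ i x, π x * S ^ i = S ^ i * π ((γ ^ i) x) := by
    intro i
    induction i with
    | zero => intro x; simp
    | succ i ih =>
      intro x
      rw [pow_succ, ← mul_assoc, ih, mul_assoc, hc, ← mul_assoc, pow_succ' γ, MulAut.mul_apply]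
  refine eq_zero_of_period S X hSX hfix (fun x => π x) (2 ^ a) (Nat.two_pow_pos a) u hu hSu
    (fun i x => χ ((γ ^ i) x)) (fun i _ x => ?_) hdist
  rw [← Module.End.mul_apply, hci, Module.End.mul_apply, hue, map_smul]

theorem pow_top_ne {n a : ℕ} {γ : MulAut P} {χ : P →* Ω} (ha : a ≤ n)
    (hper : ∀ x, χ ((γ ^ 2 ^ a) x) = χ x) (hne : ∃ x, χ ((γ ^ 2 ^ (n - 1)) x) ≠ χ x) : a = n := by
  by_contra hlt
  obtain ⟨x, hx⟩ := hne
  refine hx ?_
  rw [show 2 ^ (n - 1) = 2 ^ a * 2 ^ (n - 1 - a) by rw [← pow_add]; congr 1; omega, pow_mul]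
  have : ∀ k x, χ (((γ ^ 2 ^ a) ^ k) x) = χ x := by
    intro k
    induction k with
    | zero => intro x; simp
    | succ k ih => intro x; rw [pow_succ, MulAut.mul_apply, ih, hper]
  exact this _ x

theorem inv_pow_top {n : ℕ} (hn : 1 ≤ n) {α : MulAut P} (hα : α ^ 2 ^ n = 1) :
    (α⁻¹) ^ 2 ^ (n - 1) = α ^ 2 ^ (n - 1) := by
  rw [inv_pow, inv_eq_iff_mul_eq_one, ← pow_add, ← two_mul, ← pow_succ', Nat.sub_add_cancel hn, hα]

theorem compat_inv {α : MulAut P} {π : P →* End Ω U} {S : End Ω U}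
    (hc : ∀ x, S * π x = π (α x) * S) (x : P) : π x * S = S * π (α⁻¹ x) := by
  rw [hc, ← MulAut.mul_apply, mul_inv_cancel]; rfl

/-- A commutative image is centralised by the top power of the operator. -/
theorem comm_top_trivial [IsAlgClosed Ω] [FiniteDimensional Ω U] [Finite P] {n : ℕ} (hn : 1 ≤ n)
    (π : P →* End Ω U) (hcomm : ∀ a b, π a * π b = π b * π a) (hP : (Nat.card P : Ω) ≠ 0)
    (α : MulAut P) (hα : α ^ 2 ^ n = 1) (S : End Ω U) (hS : S ^ 2 ^ n = 1)
    (hfix : ∀ u, S u = u → u = 0) (hc : ∀ x, S * π x = π (α x) * S) :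
    ∀ x, π ((α ^ 2 ^ (n - 1)) x) = π x := by
  intro x
  by_contra hne
  set β := α ^ 2 ^ (n - 1) with hβ
  obtain ⟨u, hu0, χ, hu, hχ⟩ := exists_eigen_ne_one π hcomm hP (g := β x * x⁻¹) (fun h => hne (by
    have h1 := congrArg (· * π x) h
    simpa only [one_mul, ← map_mul, inv_mul_cancel_right] using h1))
  obtain ⟨a, han, hper, hzero⟩ := fpf_on_eigen π α⁻¹ (by rw [inv_pow, hα, inv_one]) S ⊤
    (fun _ _ => Submodule.mem_top) (fun v _ => hfix v) (compat_inv hc) χ
  have ha := pow_top_ne han hper ⟨x, fun h => hχ (by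
    rw [inv_pow_top hn hα] at h
    rw [map_mul, h, ← map_mul, mul_inv_cancel, map_one])⟩
  exact hu0 (hzero u Submodule.mem_top hu (by rw [ha, hS, Module.End.one_apply]))

section Structure

variable (Z : Subgroup P) (μ : Z →* Ω) (hcZ : ∀ a b : P, ⁅a, b⁆ ∈ Z)

/-- The commutator form of a central character. -/
def form (a b : P) : Ω := μ ⟨⁅a, b⁆, hcZ a b⟩

theorem comm_mul_left (hZ : Z ≤ Subgroup.center P) (hc : ∀ a b : P, ⁅a, b⁆ ∈ Z) (a b y : P) :
    ⁅a * b, y⁆ = ⁅a, y⁆ * ⁅b, y⁆ := by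
  have h1 := Subgroup.mem_center_iff.1 (hZ (hc b y)) a
  have h2 : ⁅a * b, y⁆ = a * ⁅b, y⁆ * a⁻¹ * ⁅a, y⁆ := by
    simp only [commutatorElement_def]; group
  rw [h2, h1, mul_inv_cancel_right]
  exact (Subgroup.mem_center_iff.1 (hZ (hc b y)) _).symm

theorem form_one_left (y : P) : form Z μ hcZ 1 y = 1 := by
  rw [form, show (⟨⁅(1 : P), y⁆, hcZ 1 y⟩ : Z) = 1 from Subtype.ext (commutatorElement_one_left y),
    map_one]

variable (hZ : Z ≤ Subgroup.center P)
include hZ

theorem form_mul (a b y : P) : form Z μ hcZ (a * b) y = form Z μ hcZ a y * form Z μ hcZ b y := by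
  rw [form, form, form, ← map_mul]
  exact congrArg μ (Subtype.ext (comm_mul_left Z hZ hcZ a b y))

theorem form_inv (a y : P) : form Z μ hcZ a⁻¹ y = (form Z μ hcZ a y)⁻¹ := by
  refine eq_inv_of_mul_eq_one_left ?_
  rw [← form_mul Z μ hcZ hZ, inv_mul_cancel, form_one_left]

/-- The radical of the commutator form. -/
def rad : Subgroup P where
  carrier := {a | ∀ y, form Z μ hcZ a y = 1}
  one_mem' := form_one_left Z μ hcZ
  mul_mem' := fun {a b} ha hb y => by rw [form_mul Z μ hcZ hZ, ha, hb, one_mul]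
  inv_mem' := fun {a} ha y => by rw [form_inv Z μ hcZ hZ, ha, inv_one]

theorem le_rad : Z ≤ rad Z μ hcZ hZ := fun z hz y => by
  rw [form, show (⟨⁅z, y⁆, hcZ z y⟩ : Z) = 1 from Subtype.ext
    (commutatorElement_eq_one_iff_mul_comm.2 (Subgroup.mem_center_iff.1 (hZ hz) y).symm), map_one]

theorem rad_normal : (rad Z μ hcZ hZ).Normal := ⟨fun a ha g => by
  rw [show g * a * g⁻¹ = ⁅g, a⁆ * a by simp [commutatorElement_def]]
  exact mul_mem (le_rad Z μ hcZ hZ (hcZ g a)) ha⟩

/-- The elements inverted by `β` modulo the radical. -/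
def inverted (β : MulAut P) : Subgroup P where
  carrier := {a | β a * a ∈ rad Z μ hcZ hZ}
  one_mem' := by simp only [Set.mem_setOf_eq, map_one, one_mul]; exact one_mem _
  mul_mem' := fun {a b} ha hb => by
    haveI := rad_normal Z μ hcZ hZ
    simp only [Set.mem_setOf_eq, map_mul] at ha hb ⊢
    have : β a * β b * (a * b) = β a * a * (⁅a⁻¹, β b⁆ * (β b * b)) := by
      simp only [commutatorElement_def]; group
    rw [this]
    exact mul_mem ha (mul_mem (le_rad Z μ hcZ hZ (hcZ _ _)) hb)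
  inv_mem' := fun {a} ha => by
    haveI := rad_normal Z μ hcZ hZ
    simp only [Set.mem_setOf_eq, map_inv] at ha ⊢
    have h2 : (β a)⁻¹ * a⁻¹ = (a * β a)⁻¹ := (mul_inv_rev _ _).symm
    rw [h2]
    refine inv_mem ?_
    rw [show a * β a = a * (β a * a) * a⁻¹ by group]
    exact (inferInstance : (rad Z μ hcZ hZ).Normal).conj_mem _ ha a

theorem mem_inverted {β : MulAut P} {a : P} :
    a ∈ inverted Z μ hcZ hZ β ↔ β a * a ∈ rad Z μ hcZ hZ := Iff.rfl

theorem structure_of_char [IsAlgClosed Ω] [FiniteDimensional Ω U] [Finite P] {q n : ℕ}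
    [Fact q.Prime] (hq2 : q ≠ 2) (hn : 1 ≤ n) (hP : IsPGroup q P) (hexp : ∀ a : P, a ^ q ∈ Z)
    (h2 : (2 : Ω) ≠ 0) (hqΩ : (q : Ω) ≠ 0) (π : P →* End Ω U) (α : MulAut P) (hα : α ^ 2 ^ n = 1)
    (hαZ : ∀ z ∈ Z, α z ∈ Z) (hβZ : ∀ z ∈ Z, π ((α ^ 2 ^ (n - 1)) z) = π z)
    (S : End Ω U) (hS : S ^ 2 ^ n = 1) (hfix : ∀ u, S u = u → u = 0)
    (hc : ∀ x, S * π x = π (α x) * S) {u₀ : U} (hu0 : u₀ ≠ 0)
    (hu : ∀ z : Z, π z u₀ = μ z • u₀) :
    (∀ x, (α ^ 2 ^ (n - 1)) x * x⁻¹ ∈ rad Z μ hcZ hZ) ∨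
      ∃ k, q + 1 = 2 ^ k ∧
        Nat.card (inverted Z μ hcZ hZ (α ^ 2 ^ (n - 1)) ⧸
          (rad Z μ hcZ hZ).subgroupOf (inverted Z μ hcZ hZ (α ^ 2 ^ (n - 1)))) = q ^ 2 ∧
        ∃ a, a + k ≤ n ∧
          ∀ z : Z, ∀ hz : (α ^ 2 ^ a) (z : P) ∈ Z, μ ⟨(α ^ 2 ^ a) (z : P), hz⟩ = μ z := by
  classical
  set β := α ^ 2 ^ (n - 1) with hβ
  set R := rad Z μ hcZ hZ with hR
  haveI : R.Normal := rad_normal Z μ hcZ hZ
  have hpinv : ∀ (Q : Subgroup P), (∀ x ∈ Q, α x ∈ Q) → ∀ x ∈ Q, α⁻¹ x ∈ Q := by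
    intro Q hQ x hx
    have hk : ∀ k, (α ^ k) x ∈ Q := by
      intro k
      induction k with
      | zero => exact hx
      | succ k ih => rw [pow_succ', MulAut.mul_apply]; exact hQ _ ih
    rw [show α⁻¹ = α ^ (2 ^ n - 1) from inv_eq_of_mul_eq_one_right (by
      rw [← pow_succ', Nat.sub_add_cancel Nat.one_le_two_pow, hα])]
    exact hk _
  -- first eigenspace
  let γZ : MulAut Z :=
    { toFun := fun z => ⟨α⁻¹ (z : P), hpinv Z hαZ z z.2⟩
      invFun := fun z => ⟨α (z : P), hαZ z z.2⟩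
      left_inv := fun z => Subtype.ext (by simp)
      right_inv := fun z => Subtype.ext (by simp)
      map_mul' := fun z w => Subtype.ext (by simp) }
  have hγZ : ∀ (i : ℕ) (z : Z), (((γZ ^ i) z : Z) : P) = ((α⁻¹) ^ i) (z : P) := by
    intro i
    induction i with
    | zero => intro z; rfl
    | succ i ih =>
      intro z
      rw [pow_succ', MulAut.mul_apply, pow_succ', MulAut.mul_apply, ← ih]
      rfl
  obtain ⟨a, han, hper, hzero⟩ := fpf_on_eigen (π.comp Z.subtype) γZ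
    (MulEquiv.ext fun z => Subtype.ext (by rw [hγZ, inv_pow, hα, inv_one]; rfl)) S ⊤
    (fun _ _ => Submodule.mem_top) (fun v _ => hfix v)
    (fun z => compat_inv hc (z : P)) μ
  have han1 : a ≤ n - 1 := by
    by_contra hgt
    have : a = n := by omega
    subst this
    exact hu0 (hzero u₀ Submodule.mem_top hu (by rw [hS, Module.End.one_apply]))
  -- the stabiliser of the character
  set α₁ := α ^ 2 ^ a with hα₁
  set n₁ := n - a with hn₁
  have hα₁n : α₁ ^ 2 ^ n₁ = 1 := by rw [hα₁, ← pow_mul, ← pow_add, hn₁, Nat.add_sub_cancel' han, hα]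
  have hβ₁ : β = α₁ ^ 2 ^ (n₁ - 1) := by
    rw [hα₁, ← pow_mul, ← pow_add, hβ]; congr 2; omega
  have hα₁Z : ∀ z ∈ Z, α₁ z ∈ Z := by
    have : ∀ k, ∀ z ∈ Z, (α ^ k) z ∈ Z := by
      intro k
      induction k with
      | zero => intro z hz; exact hz
      | succ k ih => intro z hz; rw [pow_succ', MulAut.mul_apply]; exact hαZ _ (ih z hz)
    exact this _
  have hμ₁ : ∀ (z : P) (hz : z ∈ Z), μ ⟨α₁ z, hα₁Z z hz⟩ = μ ⟨z, hz⟩ := by
    intro z hz
    have h := hper ⟨α₁ z, hα₁Z z hz⟩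
    rw [← h]
    refine congrArg μ (Subtype.ext ?_)
    rw [hγZ, inv_pow, ← hα₁, ← MulAut.mul_apply, inv_mul_cancel]; rfl
  have hform₁ : ∀ x y, form Z μ hcZ (α₁ x) (α₁ y) = form Z μ hcZ x y := fun x y => by
    rw [form, form, ← hμ₁ ⁅x, y⁆ (hcZ x y)]
    exact congrArg μ (Subtype.ext (map_commutatorElement α₁.toMonoidHom x y).symm)
  have hR₁ : ∀ x ∈ R, α₁ x ∈ R := fun x hx y => by
    rw [← MulEquiv.apply_symm_apply α₁ y, hform₁]; exact hx _
  have hformpow : ∀ (k : ℕ) x y, form Z μ hcZ ((α₁ ^ k) x) ((α₁ ^ k) y) = form Z μ hcZ x y := by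
    intro k
    induction k with
    | zero => intro x y; rfl
    | succ k ih => intro x y; rw [pow_succ', MulAut.mul_apply, MulAut.mul_apply, hform₁, ih]
  have hRpow : ∀ (k : ℕ), ∀ x ∈ R, (α₁ ^ k) x ∈ R := by
    intro k
    induction k with
    | zero => intro x hx; exact hx
    | succ k ih => intro x hx; rw [pow_succ', MulAut.mul_apply]; exact hR₁ _ (ih x hx)
  have hβform : ∀ x y, form Z μ hcZ (β x) (β y) = form Z μ hcZ x y := by rw [hβ₁]; exact hformpow _
  have hββ : ∀ x, β (β x) = x := fun x => by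
    rw [← MulAut.mul_apply, hβ, ← pow_add, ← two_mul, ← pow_succ', Nat.sub_add_cancel hn, hα]; rfl
  by_cases hWR : inverted Z μ hcZ hZ β ≤ R
  · left
    intro x
    have h1 : x⁻¹ * β x ∈ R := hWR (by
      rw [mem_inverted, map_mul, map_inv, hββ]
      rw [show (β x)⁻¹ * x * (x⁻¹ * β x) = 1 by group]
      exact one_mem _)
    have h2 := (inferInstance : R.Normal).conj_mem _ h1 x
    rwa [show x * (x⁻¹ * β x) * x⁻¹ = β x * x⁻¹ by group] at h2
  right
  set W := inverted Z μ hcZ hZ β with hW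
  -- the eigenspace
  let Uμ : Submodule Ω U :=
    { carrier := {u | ∀ z : Z, π z u = μ z • u}
      add_mem' := fun {u v} hu hv z => by rw [map_add, hu, hv, smul_add]
      zero_mem' := fun z => by simp
      smul_mem' := fun c u hu z => by rw [map_smul, hu, smul_comm] }
  have hUne : Uμ ≠ ⊥ := fun h => hu0 (by
    have : u₀ ∈ Uμ := hu
    rwa [h, Submodule.mem_bot] at this)
  have hUP : ∀ x, ∀ u ∈ Uμ, π x u ∈ Uμ := fun x u hu z => by
    rw [← Module.End.mul_apply, ← map_mul,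
      ← Subgroup.mem_center_iff.1 (hZ z.2) x, map_mul, Module.End.mul_apply, hu, map_smul]
  have hswap : ∀ f e, ∀ u ∈ Uμ, π f (π e u) = form Z μ hcZ f e • π e (π f u) := by
    intro f e u hu
    rw [← Module.End.mul_apply (π f), ← map_mul, show f * e = e * f * ⁅f, e⁆ by
      rw [Subgroup.mem_center_iff.1 (hZ (hcZ f e)) (e * f)]
      simp [commutatorElement_def, mul_assoc], map_mul, map_mul, Module.End.mul_apply,
      Module.End.mul_apply, hu ⟨_, hcZ f e⟩, map_smul, map_smul]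
    rfl
  set S₁ := S ^ 2 ^ a with hS₁
  have hcpow : ∀ k x, S ^ k * π x = π ((α ^ k) x) * S ^ k := by
    intro k
    induction k with
    | zero => intro x; simp
    | succ k ih =>
      intro x
      rw [pow_succ', mul_assoc, ih, ← mul_assoc, hc, mul_assoc, pow_succ', MulAut.mul_apply]
  have hS₁U : ∀ u ∈ Uμ, S₁ u ∈ Uμ := by
    intro u hu z
    obtain ⟨z', hz'⟩ : ∃ z' : Z, (z : P) = α₁ z' := ⟨(γZ ^ 2 ^ a) z, by
      rw [hγZ, hα₁, ← MulAut.mul_apply, inv_pow, mul_inv_cancel]; rfl⟩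
    rw [hz', ← Module.End.mul_apply, hα₁, ← hcpow, Module.End.mul_apply, hu, map_smul]
    congr 1
    rw [← hμ₁ z' z'.2]
    exact congrArg μ (Subtype.ext hz'.symm)
  -- a character of the radical
  obtain ⟨v, hv, hv0, ν, hν⟩ := exists_char (π.comp R.subtype) Uμ hUne (fun r => hUP r)
    (fun r s u hu => by
      show π r (π s u) = π s (π r u)
      rw [hswap r s u hu, r.2 s, one_smul])
  let γR : MulAut R :=
    { toFun := fun x => ⟨α₁⁻¹ (x : P), by
        rw [show α₁⁻¹ = α₁ ^ (2 ^ n₁ - 1) from inv_eq_of_mul_eq_one_right (by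
          rw [← pow_succ', Nat.sub_add_cancel Nat.one_le_two_pow, hα₁n])]
        exact hRpow _ x x.2⟩
      invFun := fun x => ⟨α₁ (x : P), hR₁ x x.2⟩
      left_inv := fun x => Subtype.ext (by simp)
      right_inv := fun x => Subtype.ext (by simp)
      map_mul' := fun z w => Subtype.ext (by simp) }
  have hγR : ∀ (i : ℕ) (x : R), (((γR ^ i) x : R) : P) = ((α₁⁻¹) ^ i) (x : P) := by
    intro i
    induction i with
    | zero => intro z; rfl
    | succ i ih =>
      intro z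
      rw [pow_succ', MulAut.mul_apply, pow_succ', MulAut.mul_apply, ← ih]
      rfl
  have hc₁ : ∀ x, S₁ * π x = π (α₁ x) * S₁ := hcpow _
  have hfix₁ : ∀ u ∈ Uμ, S₁ u = u → u = 0 := fun u hu => hzero u Submodule.mem_top hu
  obtain ⟨b, hbn, hperν, hzeroν⟩ := fpf_on_eigen (π.comp R.subtype) γR
    (MulEquiv.ext fun z => Subtype.ext (by rw [hγR, inv_pow, hα₁n, inv_one]; rfl))
    S₁ Uμ hS₁U hfix₁ (fun x => compat_inv hc₁ (x : P)) ν
  have hbn1 : b < n₁ := by
    refine lt_of_le_of_ne hbn fun h => hv0 (hzeroν v hv hν ?_)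
    rw [h, hS₁, ← pow_mul, ← pow_add, hn₁, Nat.add_sub_cancel' han, hS, Module.End.one_apply]
  set ρ₀ := α₁ ^ 2 ^ b with hρ₀
  set k := n₁ - b with hk
  have hρν : ∀ (x : P) (hx : x ∈ R), ν ⟨ρ₀ x, hRpow _ x hx⟩ = ν ⟨x, hx⟩ := by
    intro x hx
    rw [← hperν ⟨ρ₀ x, hRpow _ x hx⟩]
    refine congrArg ν (Subtype.ext ?_)
    rw [hγR, inv_pow, ← hρ₀, ← MulAut.mul_apply, inv_mul_cancel]; rfl
  let Uν : Submodule Ω U :=
    { carrier := {u | u ∈ Uμ ∧ ∀ r : R, π r u = ν r • u}
      add_mem' := fun {u w} hu hw => ⟨Uμ.add_mem hu.1 hw.1,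
        fun r => by rw [map_add, hu.2, hw.2, smul_add]⟩
      zero_mem' := ⟨Uμ.zero_mem, fun r => by simp⟩
      smul_mem' := fun c u hu => ⟨Uμ.smul_mem c hu.1, fun r => by rw [map_smul, hu.2, smul_comm]⟩ }
  haveI : Nontrivial Uν :=
    ⟨⟨⟨v, hv, hν⟩, 0, fun h => hv0 (congrArg Subtype.val h)⟩⟩
  have hUνP : ∀ x, ∀ u ∈ Uν, π x u ∈ Uν := fun x u hu => ⟨hUP x u hu.1, fun r => by
    rw [hswap r x u hu.1, r.2 x, one_smul, hu.2, map_smul]⟩
  have hS₂U : ∀ u ∈ Uν, (S₁ ^ 2 ^ b) u ∈ Uν := by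
    intro u hu
    have hcb : ∀ x, S₁ ^ 2 ^ b * π x = π (ρ₀ x) * S₁ ^ 2 ^ b := fun x => by
      rw [hS₁, ← pow_mul, hcpow, hρ₀, hα₁, ← pow_mul]
    refine ⟨?_, fun r => ?_⟩
    · have : ∀ i, (S₁ ^ i) u ∈ Uμ := by
        intro i
        induction i with
        | zero => exact hu.1
        | succ i ih => rw [pow_succ', Module.End.mul_apply]; exact hS₁U _ ih
      exact this _
    · obtain ⟨r', hr'⟩ : ∃ r' : R, (r : P) = ρ₀ r' := ⟨(γR ^ 2 ^ b) r, by
        rw [hγR, hρ₀, ← MulAut.mul_apply, inv_pow, mul_inv_cancel]; rfl⟩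
      rw [hr', ← Module.End.mul_apply, ← hcb, Module.End.mul_apply, hu.2, map_smul]
      congr 1
      rw [← hρν r' r'.2]
      exact congrArg ν (Subtype.ext hr'.symm)
  -- the quotient
  have hRW : R ≤ W := fun x hx => by
    rw [mem_inverted]
    exact mul_mem (by rw [hβ₁]; exact hRpow _ x hx) hx
  set R' := R.subgroupOf W with hR'
  haveI : R'.Normal := inferInstance
  let E := W ⧸ R'
  letI : CommGroup E :=
    { (inferInstance : Group E) with
      mul_comm := fun e f => by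
        obtain ⟨e, rfl⟩ := QuotientGroup.mk_surjective e
        obtain ⟨f, rfl⟩ := QuotientGroup.mk_surjective f
        rw [← QuotientGroup.mk_mul, ← QuotientGroup.mk_mul, QuotientGroup.eq,
          Subgroup.mem_subgroupOf]
        have : ((e * f)⁻¹ * (f * e) : W).1 = ⁅(f : P)⁻¹, (e : P)⁻¹⁆ := by
          simp [commutatorElement_def, mul_assoc]
        rw [this]
        exact le_rad Z μ hcZ hZ (hcZ _ _) }
  haveI : Fintype E := Fintype.ofFinite E
  have hρW : ∀ x ∈ W, ρ₀ x ∈ W := by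
    intro x hx
    rw [mem_inverted] at hx ⊢
    have hcom : β (ρ₀ x) = ρ₀ (β x) := by
      rw [hβ₁, hρ₀, ← MulAut.mul_apply, ← MulAut.mul_apply, ← pow_add, ← pow_add, add_comm]
    rw [hcom, ← map_mul]
    exact hRpow _ _ hx
  let ρW : MulAut W :=
    { toFun := fun x => ⟨ρ₀ (x : P), hρW x x.2⟩
      invFun := fun x => ⟨(ρ₀ ^ (2 ^ k - 1)) (x : P), by
        have : ∀ i, (ρ₀ ^ i) (x : P) ∈ W := by
          intro i
          induction i with
          | zero => exact x.2
          | succ i ih => rw [pow_succ', MulAut.mul_apply]; exact hρW _ ih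
        exact this _⟩
      left_inv := fun x => Subtype.ext (by
        show (ρ₀ ^ (2 ^ k - 1)) (ρ₀ (x : P)) = x
        rw [← MulAut.mul_apply, ← pow_succ, Nat.sub_add_cancel Nat.one_le_two_pow, hρ₀, ← pow_mul,
          ← pow_add, hk, Nat.add_sub_cancel' hbn, hα₁n]; rfl)
      right_inv := fun x => Subtype.ext (by
        show ρ₀ ((ρ₀ ^ (2 ^ k - 1)) (x : P)) = x
        rw [← MulAut.mul_apply, ← pow_succ', Nat.sub_add_cancel Nat.one_le_two_pow, hρ₀, ← pow_mul,
          ← pow_add, hk, Nat.add_sub_cancel' hbn, hα₁n]; rfl)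
      map_mul' := fun x y => Subtype.ext (by simp) }
  have hρR' : R'.map ρW.toMonoidHom = R' := by
    refine Subgroup.eq_of_le_of_card_ge ?_ (Subgroup.card_map_of_injective ρW.injective).ge
    rintro _ ⟨x, hx, rfl⟩
    exact hRpow _ _ hx
  let ρ : MulAut E := QuotientGroup.congr R' R' ρW hρR'
  have hρpow : ∀ (i : ℕ) (x : W), ∃ y : W, (ρ ^ i) (x : E) = (y : E) ∧ (y : P) = (ρ₀ ^ i) (x : P) := by
    intro i
    induction i with
    | zero => intro x; exact ⟨x, rfl, rfl⟩
    | succ i ih =>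
      intro x
      obtain ⟨y, hy1, hy2⟩ := ih x
      refine ⟨ρW y, ?_, ?_⟩
      · rw [pow_succ', MulAut.mul_apply, hy1]; rfl
      · rw [pow_succ', MulAut.mul_apply, ← hy2]; rfl
  let rep : E → W := fun e => if e = 1 then 1 else e.out
  have hrep : ∀ e, ((rep e : W) : E) = e := fun e => by
    by_cases he : e = 1
    · simp [rep, he]
    · simp [rep, he]
  let T : E → End Ω Uν := fun e => (π (rep e : P)).restrict (hUνP _)
  let ω : E → E → Ω := fun f e => form Z μ hcZ (rep f : P) (rep e : P)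
  have hcoset : ∀ x y : W, (x : E) = (y : E) → ∃ c : Ω, c ≠ 0 ∧
      ∀ u ∈ Uν, π (x : P) u = c • π (y : P) u := by
    intro x y hxy
    have hr : (y : P)⁻¹ * (x : P) ∈ R := by
      have := (QuotientGroup.eq).1 hxy.symm
      exact this
    refine ⟨ν ⟨_, hr⟩, fun h0 => ?_, fun u hu => ?_⟩
    · have h1 : ν ⟨_, hr⟩ * ν ⟨_, hr⟩⁻¹ = 1 := by rw [← map_mul, mul_inv_cancel, map_one]
      rw [h0, zero_mul] at h1
      exact zero_ne_one h1
    · conv_lhs => rw [show (x : P) = (y : P) * ((y : P)⁻¹ * x) by group, map_mul, Module.End.mul_apply]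
      rw [hu.2 ⟨_, hr⟩, map_smul]
  have D : ProjRep T ω :=
    { one := LinearMap.ext fun u => Subtype.ext (by simp [T, rep])
      mul := fun e f => by
        obtain ⟨c, hc0, hcu⟩ := hcoset (rep e * rep f) (rep (e * f))
          (by rw [QuotientGroup.mk_mul, hrep, hrep, hrep])
        refine ⟨c, hc0, LinearMap.ext fun u => Subtype.ext ?_⟩
        have := hcu u u.2
        rw [Subgroup.coe_mul, map_mul, Module.End.mul_apply] at this
        exact this
      swap := fun f e => LinearMap.ext fun u => Subtype.ext (hswap _ _ _ u.2.1)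
      nondeg := fun e he => by
        by_contra hall
        push Not at hall
        refine he ?_
        have hflip : ∀ x y : P, form Z μ hcZ x y = (form Z μ hcZ y x)⁻¹ := fun x y => by
          rw [form, form, show (⟨⁅x, y⁆, hcZ x y⟩ : Z) = (⟨⁅y, x⁆, hcZ y x⟩ : Z)⁻¹ from
            Subtype.ext (commutatorElement_inv y x).symm, map_inv]
        have hall' : ∀ y : W, form Z μ hcZ (rep e : P) (y : P) = 1 := by
          intro y
          have hyR : (rep (y : E) : P)⁻¹ * (y : P) ∈ R := by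
            have := (QuotientGroup.eq).1 (hrep (y : E))
            exact this
          rw [hflip, inv_eq_one, show (y : P) = (rep (y : E) : P) * ((rep (y : E) : P)⁻¹ * y) by group,
            form_mul Z μ hcZ hZ, hyR, mul_one]
          exact hall _
        have hxR : (rep e : P) ∈ R := by
          intro y
          set x := (rep e : P)
          have hzW : y⁻¹ * β y ∈ W := by
            rw [mem_inverted, map_mul, map_inv, hββ,
              show (β y)⁻¹ * y * (y⁻¹ * β y) = 1 by group]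
            exact one_mem _
          have h1 := hall' ⟨_, hzW⟩
          rw [show ((⟨_, hzW⟩ : W) : P) = y⁻¹ * β y from rfl, hflip, inv_eq_one,
            form_mul Z μ hcZ hZ, form_inv Z μ hcZ hZ] at h1
          have h2 : form Z μ hcZ (β y) x = (form Z μ hcZ y x)⁻¹ := by
            rw [← hβform, hββ, hflip, hflip y x, inv_inv]
            have hx : β x * x ∈ R := (rep e).2
            have h3 := hx y
            rw [form_mul Z μ hcZ hZ] at h3
            rw [inv_eq_of_mul_eq_one_right h3]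
          rw [h2, ← mul_inv] at h1
          have hsq : form Z μ hcZ y x * form Z μ hcZ y x = 1 := inv_eq_one.1 h1
          have hqp : form Z μ hcZ y x ^ q = 1 := by
            have h4 : ∀ i : ℕ, form Z μ hcZ (y ^ i) x = form Z μ hcZ y x ^ i := by
              intro i
              induction i with
              | zero => rw [pow_zero, pow_zero, form_one_left]
              | succ i ih => rw [pow_succ, pow_succ, form_mul Z μ hcZ hZ, ih]
            rw [← h4]
            exact le_rad Z μ hcZ hZ (hexp y) x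
          obtain ⟨m, hm⟩ := (Fact.out : q.Prime).odd_of_ne_two hq2
          rw [hm, pow_succ, pow_mul, pow_two, hsq, one_pow, one_mul] at hqp
          rw [hflip, hqp, inv_one]
        rw [← hrep e, QuotientGroup.eq_one_iff]
        exact hxR }
  have hEq : ∃ j, Fintype.card E = q ^ j := by
    have := ((hP.to_subgroup W).to_quotient R')
    obtain ⟨j, hj⟩ := IsPGroup.iff_card.1 this
    exact ⟨j, by rw [← Nat.card_eq_fintype_card]; exact hj⟩
  obtain ⟨j, hj⟩ := hEq
  have hk0 : 1 ≤ k := by omega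
  have htwo : ((2 ^ k : ℕ) : Ω) ≠ 0 := by rw [Nat.cast_pow]; exact pow_ne_zero _ (by exact_mod_cast h2)
  have hS₂k : (S₁ ^ 2 ^ b) ^ 2 ^ k = 1 := by
    rw [hS₁, ← pow_mul, ← pow_mul, ← pow_add, ← pow_add, show a + (b + k) = n by omega, hS]
  set S₂ : End Ω Uν := (S₁ ^ 2 ^ b).restrict hS₂U with hS₂
  have hS₂pow : ∀ (i : ℕ) (u : Uν), ((S₂ ^ i) u : U) = ((S₁ ^ 2 ^ b) ^ i) (u : U) := by
    intro i
    induction i with
    | zero => intro u; rfl
    | succ i ih =>
      intro u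
      rw [pow_succ', Module.End.mul_apply, pow_succ', Module.End.mul_apply, ← ih]
      rfl
  have hρ₀n : ρ₀ ^ 2 ^ k = 1 := by
    rw [hρ₀, ← pow_mul, ← pow_add, hk, Nat.add_sub_cancel' hbn, hα₁n]
  rcases card_eq D (by rw [hj, Nat.cast_pow]; exact pow_ne_zero _ hqΩ) (N := 2 ^ k)
    (Nat.one_lt_two_pow (by omega)) htwo S₂
    (LinearMap.ext fun u => Subtype.ext (by rw [hS₂pow, hS₂k]; rfl))
    (fun u hu => Subtype.ext (hzeroν u u.2.1 u.2.2 (congrArg Subtype.val hu)))
    ρ (fun e => by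
      obtain ⟨c, hc0, hcu⟩ := hcoset (ρW (rep e)) (rep (ρ e)) (by
        rw [hrep]; conv_rhs => rw [← hrep e]
        rfl)
      refine ⟨c, hc0, LinearMap.ext fun u => Subtype.ext ?_⟩
      have := hcu _ (hS₂U _ u.2)
      show (S₁ ^ 2 ^ b) (π (rep e : P) (u : U)) = c • π (rep (ρ e) : P) ((S₁ ^ 2 ^ b) (u : U))
      rw [← this, ← Module.End.mul_apply, hS₁, ← pow_mul, hcpow, Module.End.mul_apply]
      congr 2
      rw [show ((ρW (rep e) : W) : P) = ρ₀ (rep e : P) from rfl, hρ₀, hα₁, ← pow_mul])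
    (MulEquiv.ext fun e => by
      obtain ⟨x, rfl⟩ := QuotientGroup.mk_surjective e
      obtain ⟨y, hy1, hy2⟩ := hρpow (2 ^ k) x
      rw [hy1, show y = x from Subtype.ext (by rw [hy2, hρ₀n]; rfl)]
      rfl)
    (fun i hi0 hik e he => by
      have hper : ∀ m, (ρ ^ (i * m)) e = e := by
        intro m
        induction m with
        | zero => rfl
        | succ m ih => rw [Nat.mul_succ, pow_add, MulAut.mul_apply, he, ih]
      obtain ⟨d, hd, hd'⟩ := (Nat.dvd_prime_pow Nat.prime_two).1 (Nat.gcd_dvd_right i (2 ^ k))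
      have hdk : d < k := by
        refine lt_of_le_of_ne hd fun h => ?_
        have := Nat.le_of_dvd hi0 (Nat.gcd_dvd_left i (2 ^ k))
        rw [hd', h] at this; omega
      obtain ⟨m, hm⟩ : ∃ m, i * m ≡ 2 ^ d [MOD 2 ^ k] := by
        obtain ⟨m, hm⟩ := Nat.exists_mul_mod_eq_gcd (n := i) (k := 2 ^ k) (by
          rw [hd']; exact Nat.pow_lt_pow_right one_lt_two hdk)
        exact ⟨m, by rw [Nat.ModEq, hm.2, hd', Nat.mod_eq_of_lt (Nat.pow_lt_pow_right one_lt_two hdk)]⟩
      obtain ⟨x, rfl⟩ := QuotientGroup.mk_surjective e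
      obtain ⟨y, hy1, hy2⟩ := hρpow (i * m * 2 ^ (k - 1 - d)) x
      have hfe : (ρ ^ (i * m * 2 ^ (k - 1 - d))) (x : E) = (x : E) := by
        rw [mul_assoc]; exact hper _
      have hyβ : (y : P) = β x := by
        rw [hy2, hβ₁, pow_mul, pow_eq_pow_mod _ hρ₀n, hm, ← pow_eq_pow_mod _ hρ₀n, ← pow_mul,
          hρ₀, ← pow_mul, ← pow_add, ← pow_add]
        congr 3; omega
      rw [hy1, QuotientGroup.eq] at hfe
      have hxR : (x : P) * (x : P) ∈ R := by
        have h1 : β (x : P) * x ∈ R := x.2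
        have h2 : (y : P)⁻¹ * x ∈ R := hfe
        rw [hyβ] at h2
        have h3 := mul_mem h1 ((inferInstance : R.Normal).conj_mem _ h2 (x : P)⁻¹)
        rw [show β (x : P) * x * ((x : P)⁻¹ * ((β (x : P))⁻¹ * x) * (x : P)⁻¹⁻¹) = x * x by group] at h3
        exact h3
      rw [QuotientGroup.eq_one_iff, Subgroup.mem_subgroupOf]
      obtain ⟨m', hm'⟩ := (Fact.out : q.Prime).odd_of_ne_two hq2
      have h4 := mul_mem (le_rad Z μ hcZ hZ (hexp (x : P))) (inv_mem (pow_mem hxR m'))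
      rw [← pow_two, ← pow_mul, hm', pow_succ', mul_inv_cancel_right] at h4
      exact h4) with h | h
  · exfalso
    refine hWR fun x hx => ?_
    have hsub : Subsingleton E := Fintype.card_le_one_iff_subsingleton.1 h.le
    have : ((⟨x, hx⟩ : W) : E) = 1 := Subsingleton.elim _ _
    rwa [QuotientGroup.eq_one_iff, Subgroup.mem_subgroupOf] at this
  · have hqp : q.Prime := Fact.out
    have hd : 2 ^ k - 1 ∣ q ^ j := ⟨2 ^ k - 1, by rw [← hj, h, pow_two]⟩
    obtain ⟨m, -, hm⟩ := (Nat.dvd_prime_pow hqp).1 hd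
    have hm1 : 1 ≤ m := by
      by_contra h0
      rw [show m = 0 by omega, pow_zero] at hm
      refine hWR fun x hx => ?_
      rw [hm, one_pow] at h
      have hsub : Subsingleton E := Fintype.card_le_one_iff_subsingleton.1 h.le
      have : ((⟨x, hx⟩ : W) : E) = 1 := Subsingleton.elim _ _
      rwa [QuotientGroup.eq_one_iff, Subgroup.mem_subgroupOf] at this
    have hsum : 2 ^ k = q ^ m + 1 := by
      have := Nat.one_le_two_pow (n := k)
      omega
    rcases Cfsg.Agent.S3784.result 2 q k m Nat.prime_two hqp hk0 hm1 hsum with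
      ⟨-, hmk, -, -⟩ | ⟨hq, -⟩ | ⟨h9, -⟩
    · subst hmk
      refine ⟨k, by rw [hsum, pow_one], ?_, a, by omega, fun z hz => hμ₁ z z.2⟩
      show Nat.card E = q ^ 2
      rw [Nat.card_eq_fintype_card, h, hm, pow_one]
    · exact absurd hq hq2
    · exfalso
      have : 2 ∣ 9 := h9 ▸ dvd_pow_self 2 (by omega)
      omega

end Structure

end CfsgLib.GrossFpf
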