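import Cfsg.Agent.Lib.Coprime.Basic

/-!
Lines in a section of order `q ^ 2`, and powers of automorphisms of cyclic groups of order `q`, for
`q + 1` a power of two.
-/

set_option autoImplicit false
set_option linter.style.haveILetI false
set_option linter.unusedSectionVars false

namespace CfsgLib.GrossFpf

/-- If `p + 1 = 2 ^ k` then two-power roots of unity modulo `p` square to `1`. -/
theorem sq_eq_one_of_two_pow {p k : ℕ} [Fact p.Prime] (hp : p + 1 = 2 ^ k) (hk : 2 ≤ k)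
    (t : ZMod p) (i : ℕ) (h : t ^ 2 ^ i = 1) : t ^ 2 = 1 := by
  have h4 : p % 4 = 3 := by
    obtain ⟨j, rfl⟩ := Nat.exists_eq_add_of_le hk
    rw [pow_add] at hp
    omega
  induction i with
  | zero => simp at h; simp [h]
  | succ i ih =>
    rcases i with _ | i
    · simpa using h
    · refine ih ?_
      have h1 : (t ^ 2 ^ (i + 1)) * (t ^ 2 ^ (i + 1)) = 1 := by
        rw [← pow_add, ← two_mul, ← pow_succ', h]
      rcases mul_self_eq_one_iff.1 h1 with h2 | h2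
      · exact h2
      · exfalso
        have hsq : IsSquare (-1 : ZMod p) := ⟨t ^ 2 ^ i, by rw [← h2, pow_succ, pow_mul, pow_two]⟩
        exact (ZMod.exists_sq_eq_neg_one_iff.1 hsq) h4

variable {G : Type*} [Group G]

theorem zpow_eq_of_cast {p : ℕ} {w : G} (hw : w ^ p = 1) {i j : ℤ}
    (h : (i : ZMod p) = (j : ZMod p)) : w ^ i = w ^ j := by
  obtain ⟨r, hr⟩ := (ZMod.intCast_eq_intCast_iff_dvd_sub i j p).1 h
  rw [show j = i + (p : ℤ) * r by omega, zpow_add, zpow_mul, zpow_natCast, hw, one_zpow, mul_one]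

theorem cast_eq_of_zpow {p : ℕ} [Fact p.Prime] {w : G} (hw : w ^ p = 1) (hw1 : w ≠ 1) {i j : ℤ}
    (h : w ^ i = w ^ j) : (i : ZMod p) = (j : ZMod p) := by
  rw [ZMod.intCast_eq_intCast_iff_dvd_sub, ← orderOf_eq_prime hw hw1, orderOf_dvd_iff_zpow_eq_one,
    zpow_sub, h, mul_inv_cancel]

/-- An automorphism of two-power order has order at most two on a line it fixes. -/
theorem apply_apply_of_mem_zpowers {p k : ℕ} [Fact p.Prime] (hp : p + 1 = 2 ^ k) (hk : 2 ≤ k)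
    (δ : MulAut G) {i : ℕ} (hδ : δ ^ 2 ^ i = 1) {w : G} (hw : w ^ p = 1)
    (hmem : δ w ∈ Subgroup.zpowers w) : δ (δ w) = w := by
  by_cases hw1 : w = 1
  · simp [hw1]
  obtain ⟨t, ht⟩ := Subgroup.mem_zpowers_iff.1 hmem
  have hpow : ∀ j : ℕ, (δ ^ j) w = w ^ (t ^ j) := by
    intro j
    induction j with
    | zero => simp
    | succ j ih => rw [pow_succ', MulAut.mul_apply, ih, map_zpow, ← ht, ← zpow_mul, pow_succ, mul_comm]
  have h1 : ((t : ZMod p)) ^ 2 ^ i = 1 := by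
    have h2 := hpow (2 ^ i)
    rw [hδ, MulAut.one_apply] at h2
    have := cast_eq_of_zpow hw hw1 (i := t ^ 2 ^ i) (j := 1) (by rw [← h2, zpow_one])
    push_cast at this
    exact this
  have h3 := sq_eq_one_of_two_pow hp hk _ i h1
  rw [show δ (δ w) = (δ ^ 2) w by rw [pow_two, MulAut.mul_apply], hpow 2]
  conv_rhs => rw [← zpow_one w]
  exact zpow_eq_of_cast hw (by push_cast; exact h3)

variable {E : Type*} [CommGroup E] [Finite E] {q : ℕ} [Fact q.Prime] (W : Subgroup E)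

/-- The lines of `W`. -/
abbrev Line (q : ℕ) (W : Subgroup E) : Type _ := {L : Subgroup E // L ≤ W ∧ Nat.card L = q}

theorem zpowers_line (hexp : ∀ e ∈ W, e ^ q = 1) {w : E} (hw : w ∈ W) (hw1 : w ≠ 1) :
    Subgroup.zpowers w ≤ W ∧ Nat.card (Subgroup.zpowers w) = q :=
  ⟨Subgroup.zpowers_le.2 hw, by rw [Nat.card_zpowers, orderOf_eq_prime (hexp w hw) hw1]⟩

theorem line_eq_zpowers {L : Subgroup E} (hL : Nat.card L = q) {w : E} (hw : w ∈ L) (hw1 : w ≠ 1) :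
    Subgroup.zpowers w = L := by
  refine Subgroup.eq_of_le_of_card_ge (Subgroup.zpowers_le.2 hw) ?_
  have hd : orderOf w ∣ q := by
    rw [← hL]
    exact (Nat.card_zpowers w) ▸ Subgroup.card_dvd_of_le (Subgroup.zpowers_le.2 hw)
  rcases (Nat.dvd_prime (Fact.out : q.Prime)).1 hd with h | h
  · exact absurd (orderOf_eq_one_iff.1 h) hw1
  · rw [hL, Nat.card_zpowers, h]

theorem exists_generator {L : Subgroup E} (hL : Nat.card L = q) :
    ∃ w ∈ L, w ≠ 1 ∧ Subgroup.zpowers w = L := by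
  have : L ≠ ⊥ := fun h => by
    rw [h, Subgroup.card_bot] at hL
    exact (Fact.out : q.Prime).one_lt.ne hL
  obtain ⟨w, hw, hw1⟩ := (L.bot_or_exists_ne_one).resolve_left this
  exact ⟨w, hw, hw1, line_eq_zpowers hL hw hw1⟩

theorem card_lines (hexp : ∀ e ∈ W, e ^ q = 1) (hW : Nat.card W = q ^ 2) :
    Nat.card (Line q W) = q + 1 := by
  classical
  haveI := Fintype.ofFinite E
  haveI := Fintype.ofFinite (Line q W)
  let s : Finset E := Finset.univ.filter fun w => w ∈ W ∧ w ≠ 1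
  have hs : s.card = q ^ 2 - 1 := by
    rw [← hW, Nat.card_eq_fintype_card, Fintype.card_subtype, ← Finset.card_erase_of_mem (a := (1 : E))
      (by simp [one_mem])]
    congr 1
    ext w
    simp [s, and_comm]
  let f : E → Line q W := fun w =>
    if h : Subgroup.zpowers w ≤ W ∧ Nat.card (Subgroup.zpowers w) = q then ⟨_, h⟩
    else Classical.choice (by
      obtain ⟨v, hv, hv1⟩ := W.bot_or_exists_ne_one.resolve_left (fun h => by
        rw [h, Subgroup.card_bot] at hW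
        exact absurd hW (Nat.one_lt_pow (by omega) (Fact.out : q.Prime).one_lt).ne)
      exact ⟨⟨_, zpowers_line W hexp hv hv1⟩⟩)
  have hfib : ∀ L : Line q W, (s.filter fun w => f w = L).card = q - 1 := by
    intro L
    have he : (s.filter fun w => f w = L) = (Finset.univ.filter (· ∈ L.1)).erase 1 := by
      ext w
      simp only [Finset.mem_filter, s, Finset.mem_univ, true_and, Finset.mem_erase]
      constructor
      · rintro ⟨⟨hw, hw1⟩, hf⟩
        refine ⟨hw1, ?_⟩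
        rw [← hf]
        simp only [f, dif_pos (zpowers_line W hexp hw hw1)]
        exact Subgroup.mem_zpowers w
      · rintro ⟨hw1, hw⟩
        refine ⟨⟨L.2.1 hw, hw1⟩, Subtype.ext ?_⟩
        simp only [f, dif_pos (zpowers_line W hexp (L.2.1 hw) hw1)]
        exact line_eq_zpowers L.2.2 hw hw1
    rw [he, Finset.card_erase_of_mem (by simp [one_mem]), ← Fintype.card_subtype,
      ← Nat.card_eq_fintype_card, L.2.2]
  have h := Finset.card_eq_sum_card_fiberwise (f := f) (s := s) (t := Finset.univ)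
    (fun _ _ => Finset.mem_univ _)
  rw [hs, Finset.sum_congr rfl fun L _ => hfib L, Finset.sum_const, Finset.card_univ, smul_eq_mul,
    ← Nat.card_eq_fintype_card] at h
  have hq : 0 < q - 1 := by have := (Fact.out : q.Prime).two_le; omega
  refine Nat.eq_of_mul_eq_mul_right hq ?_
  rw [← h, ← Nat.sq_sub_sq, one_pow]

/-- An endomorphism fixing three lines of `W` is a scalar on `W`. -/
theorem scalar_of_three_lines (hexp : ∀ e ∈ W, e ^ q = 1) (hW : Nat.card W = q ^ 2) (F : E →* E)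
    (L₁ L₂ L₃ : Line q W) (h12 : L₁ ≠ L₂) (h13 : L₁ ≠ L₃) (h23 : L₂ ≠ L₃)
    (h1 : ∀ x ∈ L₁.1, F x ∈ L₁.1) (h2 : ∀ x ∈ L₂.1, F x ∈ L₂.1) (h3 : ∀ x ∈ L₃.1, F x ∈ L₃.1) :
    ∃ a : ℤ, ∀ x ∈ W, F x = x ^ a := by
  obtain ⟨w₁, hw₁, hw₁1, hz₁⟩ := exists_generator L₁.2.2
  obtain ⟨w₂, hw₂, hw₂1, hz₂⟩ := exists_generator L₂.2.2
  obtain ⟨w₃, hw₃, hw₃1, hz₃⟩ := exists_generator L₃.2.2
  have hinf : L₁.1 ⊓ L₂.1 = ⊥ := by
    by_contra h
    obtain ⟨x, hx, hx1⟩ := (Subgroup.bot_or_exists_ne_one _).resolve_left h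
    exact h12 (Subtype.ext ((line_eq_zpowers L₁.2.2 hx.1 hx1).symm.trans
      (line_eq_zpowers L₂.2.2 hx.2 hx1)))
  have hind : ∀ {i j : ℤ}, w₁ ^ i = w₂ ^ j → w₁ ^ i = 1 ∧ w₂ ^ j = 1 := by
    intro i j h
    have : w₁ ^ i ∈ L₁.1 ⊓ L₂.1 := ⟨zpow_mem hw₁ i, h ▸ zpow_mem hw₂ j⟩
    rw [hinf, Subgroup.mem_bot] at this
    exact ⟨this, h ▸ this⟩
  have hsup : L₁.1 ⊔ L₂.1 = W := by
    refine Subgroup.eq_of_le_of_card_ge (sup_le L₁.2.1 L₂.2.1) ?_
    rw [CfsgLib.Coprime.card_sup_of_inf_eq_bot Subgroup.le_normalizer_of_normal hinf, L₁.2.2, L₂.2.2,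
      hW, pow_two]
  have hdec : ∀ x ∈ W, ∃ i j : ℤ, x = w₁ ^ i * w₂ ^ j := by
    intro x hx
    rw [← hsup, Subgroup.mem_sup] at hx
    obtain ⟨y, hy, z, hz, rfl⟩ := hx
    rw [← hz₁] at hy; rw [← hz₂] at hz
    obtain ⟨i, rfl⟩ := Subgroup.mem_zpowers_iff.1 hy
    obtain ⟨j, rfl⟩ := Subgroup.mem_zpowers_iff.1 hz
    exact ⟨i, j, rfl⟩
  obtain ⟨a, ha⟩ := Subgroup.mem_zpowers_iff.1 (hz₁.symm ▸ h1 w₁ hw₁)
  obtain ⟨b, hb⟩ := Subgroup.mem_zpowers_iff.1 (hz₂.symm ▸ h2 w₂ hw₂)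
  obtain ⟨c, hc⟩ := Subgroup.mem_zpowers_iff.1 (hz₃.symm ▸ h3 w₃ hw₃)
  obtain ⟨i, j, hij⟩ := hdec w₃ (L₃.2.1 hw₃)
  have hq1 := hexp w₁ (L₁.2.1 hw₁)
  have hq2 := hexp w₂ (L₂.2.1 hw₂)
  have hi : (i : ZMod q) ≠ 0 := by
    intro h
    rw [zpow_eq_of_cast hq1 (i := i) (j := 0) (by simpa using h), zpow_zero, one_mul] at hij
    exact h23 (Subtype.ext ((line_eq_zpowers L₂.2.2 (hij ▸ zpow_mem hw₂ j) hw₃1).symm.trans hz₃))
  have hj : (j : ZMod q) ≠ 0 := by
    intro h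
    rw [zpow_eq_of_cast hq2 (i := j) (j := 0) (by simpa using h), zpow_zero, mul_one] at hij
    exact h13 (Subtype.ext ((line_eq_zpowers L₁.2.2 (hij ▸ zpow_mem hw₁ i) hw₃1).symm.trans hz₃))
  have hF : F w₃ = w₁ ^ (a * i) * w₂ ^ (b * j) := by
    rw [hij, map_mul, map_zpow, map_zpow, ← ha, ← hb, ← zpow_mul, ← zpow_mul]
  rw [← hc, hij, mul_zpow, ← zpow_mul, ← zpow_mul] at hF
  have hsplit : w₁ ^ (i * c - a * i) = w₂ ^ (b * j - j * c) := by
    rw [zpow_sub, zpow_sub, ← div_eq_mul_inv, ← div_eq_mul_inv, div_eq_div_iff_mul_eq_mul, hF,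
      mul_comm]
  obtain ⟨e1, e2⟩ := hind hsplit
  have c1 := cast_eq_of_zpow hq1 hw₁1 (e1.trans (zpow_zero w₁).symm)
  have c2 := cast_eq_of_zpow hq2 hw₂1 (e2.trans (zpow_zero w₂).symm)
  push_cast at c1 c2
  have hca : (a : ZMod q) = c := mul_left_cancel₀ hi (by linear_combination -c1)
  have hcb : (b : ZMod q) = c := mul_left_cancel₀ hj (by linear_combination c2)
  refine ⟨c, fun x hx => ?_⟩
  obtain ⟨s, t, rfl⟩ := hdec x hx
  rw [map_mul, map_zpow, map_zpow, ← ha, ← hb, mul_zpow, ← zpow_mul, ← zpow_mul, ← zpow_mul,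
    ← zpow_mul, zpow_eq_of_cast hq1 (i := a * s) (j := s * c) (by push_cast; rw [hca]; ring),
    zpow_eq_of_cast hq2 (i := b * t) (j := t * c) (by push_cast; rw [hcb]; ring)]

end CfsgLib.GrossFpf
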