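import Cfsg.Agent.Lib.GrossFpf.Kernel

/-!
Gross: the Fitting height of a solvable group with a fixed-point-free automorphism of order `2 ^ n`.
-/

set_option autoImplicit false
set_option linter.style.haveILetI false
set_option linter.unusedSectionVars false

namespace CfsgLib.GrossFpf

open Cfsg
open scoped commutatorElement

universe u

theorem quot_congr_pow_mk {X : Type u} [Group X] (σ : MulAut X) (N : Subgroup X) [N.Normal]
    (h : N.map σ.toMonoidHom = N) (k : ℕ) (x : X) :
    ((QuotientGroup.congr N N σ h : MulAut (X ⧸ N)) ^ k) (x : X ⧸ N) =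
      (((σ ^ k) x : X) : X ⧸ N) := by
  induction k with
  | zero => rfl
  | succ k ih =>
    rw [pow_succ', pow_succ', MulAut.mul_apply, MulAut.mul_apply, ih]
    rfl

/-- The second term of the Fitting series. -/
noncomputable def fitting2 (G : Type u) [Group G] [Finite G] : Subgroup G :=
  (fittingSubgroup (G ⧸ fittingSubgroup G)).comap (QuotientGroup.mk' (fittingSubgroup G))

instance fitting2_normal (G : Type u) [Group G] [Finite G] : (fitting2 G).Normal :=
  Subgroup.Normal.comap inferInstance _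

theorem mem_fitting2 {G : Type u} [Group G] [Finite G] {g : G} :
    g ∈ fitting2 G ↔ (g : G ⧸ fittingSubgroup G) ∈ fittingSubgroup (G ⧸ fittingSubgroup G) :=
  Iff.rfl

theorem fitting_le_fitting2 (G : Type u) [Group G] [Finite G] :
    fittingSubgroup G ≤ fitting2 G := fun g hg => by
  rw [mem_fitting2, (QuotientGroup.eq_one_iff g).2 hg]
  exact one_mem _

theorem fitting2_invariant {G : Type u} [Group G] [Finite G] (σ : MulAut G) :
    (fitting2 G).map σ.toMonoidHom = fitting2 G := by
  refine CfsgLib.FpfFour.map_eq_of_le σ fun g hg => ?_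
  rw [mem_fitting2] at hg ⊢
  have hF : (fittingSubgroup G).map σ.toMonoidHom = fittingSubgroup G :=
    CfsgLib.Base.map_fittingSubgroup_mulEquiv σ
  exact (CfsgLib.Base.map_fittingSubgroup_mulEquiv
    (QuotientGroup.congr (fittingSubgroup G) (fittingSubgroup G) σ hF)).le ⟨_, hg, rfl⟩

theorem lcs_map {G H : Type*} [Group G] [Group H] (f : G →* H) (K : Subgroup G) (k : ℕ) :
    (K.lowerCentralSeries k).map f = (K.map f).lowerCentralSeries k := by
  induction k with
  | zero => rw [Subgroup.lowerCentralSeries_zero, Subgroup.lowerCentralSeries_zero]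
  | succ k ih =>
    rw [Subgroup.lowerCentralSeries_succ, Subgroup.lowerCentralSeries_succ, Subgroup.map_commutator,
      ih]

theorem lcs_le_comap {G H : Type*} [Group G] [Group H] (f : G →* H) {K : Subgroup G}
    {A B : Subgroup H} {k : ℕ} (hf : Function.Surjective f) (hK : K = A.comap f)
    (h : A.lowerCentralSeries k ≤ B) : K.lowerCentralSeries k ≤ B.comap f := by
  rw [← Subgroup.map_le_iff_le_comap, lcs_map, hK, Subgroup.map_comap_eq_self_of_surjective hf]
  exact h

theorem lcs_nilpotent {G : Type*} [Group G] {K : Subgroup G} (h : Group.IsNilpotent K)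
    (B : Subgroup G) : ∃ k, K.lowerCentralSeries k ≤ B := by
  obtain ⟨k, hk⟩ := (Subgroup.isNilpotent_iff_lowerCentralSeries K).1 h
  exact ⟨k, hk.le.trans bot_le⟩

/-- The involution is trivial modulo the second term of the Fitting series. -/
theorem top_trivial_mod_fitting2 {G : Type u} [Group G] [Finite G] (hG : Group.IsSolvable G)
    (σ : MulAut G) {n : ℕ} (hn : 1 ≤ n) (hσ : σ ^ 2 ^ n = 1) (hfix : ∀ g, σ g = g → g = 1)
    (g : G) : g⁻¹ * (σ ^ 2 ^ (n - 1)) g ∈ fitting2 G := by
  classical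
  haveI := hG
  have hodd := odd_card_of_fpf σ hσ hfix
  have hF : (fittingSubgroup G).map σ.toMonoidHom = fittingSubgroup G :=
    CfsgLib.Base.map_fittingSubgroup_mulEquiv σ
  set σX : MulAut (G ⧸ fittingSubgroup G) :=
    QuotientGroup.congr (fittingSubgroup G) (fittingSubgroup G) σ hF with hσX
  set σY : MulAut (G ⧸ fitting2 G) :=
    QuotientGroup.congr (fitting2 G) (fitting2 G) σ (fitting2_invariant σ) with hσY
  set τY := σY ^ 2 ^ (n - 1) with hτY
  have hτmk : ∀ x : G, τY (x : G ⧸ fitting2 G) =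
      (((σ ^ 2 ^ (n - 1)) x : G) : G ⧸ fitting2 G) := fun x =>
    quot_congr_pow_mk σ _ (fitting2_invariant σ) _ x
  have hoddX : Odd (Nat.card (G ⧸ fittingSubgroup G)) := hodd.of_dvd_nat
    ((fittingSubgroup G).card_quotient_dvd_card)
  have hoddY : Odd (Nat.card (G ⧸ fitting2 G)) := hodd.of_dvd_nat
    ((fitting2 G).card_quotient_dvd_card)
  -- every `O_q'` of `G ⧸ F₂` is fixed pointwise
  have hcore : ∀ q' : ℕ, q'.Prime → ∀ y ∈ pCore q' (G ⧸ fitting2 G), τY y = y := by
    intro q' hq' y hy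
    haveI := Fact.mk hq'
    by_cases hq'2 : q' = 2
    · subst hq'2
      rw [eq_bot_of_two_group hoddY _ (CfsgLib.Base.isPGroup_pCore 2 _), Subgroup.mem_bot] at hy
      rw [hy, map_one]
    set K : Subgroup G :=
      (pCore q' (G ⧸ fitting2 G)).comap (QuotientGroup.mk' (fitting2 G)) with hKdef
    haveI : K.Normal := Subgroup.Normal.comap inferInstance _
    have hKσ : K.map σ.toMonoidHom = K := CfsgLib.FpfFour.map_eq_of_le σ fun x hx => by
      exact ((Subgroup.characteristic_iff_map_eq.1 inferInstance) σY).le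
        (⟨_, hx, rfl⟩ : σY.toMonoidHom _ ∈ (pCore q' (G ⧸ fitting2 G)).map σY.toMonoidHom)
    obtain ⟨Q, hQ⟩ := CfsgLib.Base.FPFAut.exists_invariant_sylow
      (CfsgLib.Base.FPFAut.restrict_fixedPointFree hKσ (φ := σ) hfix) q'
    -- the image of `Q` is everything
    let f : K →* pCore q' (G ⧸ fitting2 G) :=
      ((QuotientGroup.mk' (fitting2 G)).comp K.subtype).codRestrict _ fun x => x.2
    have hf : Function.Surjective f := by
      rintro ⟨z, hz⟩
      obtain ⟨x, rfl⟩ := QuotientGroup.mk_surjective z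
      exact ⟨⟨x, hz⟩, rfl⟩
    have hQtop : (Q : Subgroup K).map f = ⊤ :=
      ((Q.mapSurjective (f := f) hf).is_maximal'
        ((CfsgLib.Base.isPGroup_pCore q' (G ⧸ fitting2 G)).to_subgroup ⊤) le_top).symm
    obtain ⟨x, hxQ, hxy⟩ := hQtop.ge (Subgroup.mem_top (⟨y, hy⟩ : pCore q' (G ⧸ fitting2 G)))
    have hxy' : ((x : G) : G ⧸ fitting2 G) = y := congrArg Subtype.val hxy
    set Q' : Subgroup G := (Q : Subgroup K).map K.subtype with hQ'
    have hQ'p : IsPGroup q' Q' := Q.isPGroup'.map _
    have hQ'σ : ∀ z ∈ Q', σ z ∈ Q' := by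
      rintro _ ⟨z, hz, rfl⟩
      exact ⟨_, hQ.le ⟨z, hz, rfl⟩, rfl⟩
    set d : G := (x : G)⁻¹ * (σ ^ 2 ^ (n - 1)) x with hd
    -- `d` lies in `F₂`
    have hd2 : d ∈ fitting2 G := by
      set KX := K.map (QuotientGroup.mk' (fittingSubgroup G)) with hKX
      haveI : KX.Normal := Subgroup.Normal.map inferInstance _ (QuotientGroup.mk'_surjective _)
      let C : Subgroup (G ⧸ fittingSubgroup G) := ⨅ r : {r : Nat.Primes // (r : ℕ) ≠ q'},
        Subgroup.centralizer (pCore (r.1 : ℕ) (G ⧸ fittingSubgroup G) : Set _)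
      haveI : C.Normal := Subgroup.normal_iInf_normal fun _ => inferInstance
      haveI : (KX ⊓ C).Normal := inferInstance
      have hH : KX ⊓ C ≤ fittingSubgroup (G ⧸ fittingSubgroup G) := by
        refine le_fitting_of_centralizes q' _ ?_ ?_
        · rintro _ ⟨⟨k, hk, rfl⟩, -⟩
          obtain ⟨j, hj⟩ := (CfsgLib.Base.isPGroup_pCore q' (G ⧸ fitting2 G)) ⟨_, hk⟩
          refine ⟨j, ?_⟩
          rw [QuotientGroup.mk'_apply, ← QuotientGroup.mk_pow, ← mem_fitting2,
            ← QuotientGroup.eq_one_iff, QuotientGroup.mk_pow]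
          exact congrArg Subtype.val hj
        · rintro h hh - r hr hrq z hz
          exact (Subgroup.mem_centralizer_iff.1
            (Subgroup.mem_iInf.1 hh.2 ⟨⟨r, hr⟩, hrq⟩) z hz).symm
      rw [mem_fitting2]
      have hxQ' : (x : G) ∈ Q' := ⟨x, hxQ, rfl⟩
      have hτx : (σ ^ 2 ^ (n - 1)) (x : G) ∈ K :=
        CfsgLib.Base.FPFAut.map_pow_eq_self hKσ x.2 _
      refine hH ⟨⟨d, K.mul_mem (K.inv_mem x.2) hτx, rfl⟩, Subgroup.mem_iInf.2 ?_⟩
      rintro ⟨⟨q, hq⟩, hqq'⟩
      haveI := Fact.mk hq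
      rw [Subgroup.mem_centralizer_iff]
      intro z hz
      obtain ⟨m, rfl⟩ := QuotientGroup.mk_surjective z
      by_cases hq2 : q = 2
      · subst hq2
        have hz' : (m : G ⧸ fittingSubgroup G) ∈ pCore 2 (G ⧸ fittingSubgroup G) := hz
        rw [eq_bot_of_two_group hoddX _ (CfsgLib.Base.isPGroup_pCore 2 _), Subgroup.mem_bot] at hz'
        rw [hz', one_mul, mul_one]
      set M : Subgroup G :=
        (pCore q (G ⧸ fittingSubgroup G)).comap (QuotientGroup.mk' (fittingSubgroup G)) with hM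
      haveI : M.Normal := Subgroup.Normal.comap inferInstance _
      have hMσ : ∀ k ∈ M, σ k ∈ M := fun k hk =>
        ((Subgroup.characteristic_iff_map_eq.1 inferInstance) σX).le
          (⟨_, hk, rfl⟩ : σX.toMonoidHom _ ∈
            (pCore q (G ⧸ fittingSubgroup G)).map σX.toMonoidHom)
      have hMq : ∀ k ∈ M, ∃ i, k ^ q ^ i ∈ fittingSubgroup G := by
        intro k hk
        obtain ⟨i, hi⟩ := (CfsgLib.Base.isPGroup_pCore q (G ⧸ fittingSubgroup G)) ⟨_, hk⟩
        refine ⟨i, ?_⟩
        rw [← QuotientGroup.eq_one_iff, QuotientGroup.mk_pow]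
        exact congrArg Subtype.val hi
      have h := commutator_mem_fitting σ hn hσ hfix hq2 hq'2 hqq' M hMσ hMq Q' hQ'p hQ'σ
        (x : G) hxQ' m hz
      rw [← QuotientGroup.eq_one_iff] at h
      exact (commutatorElement_eq_one_iff_mul_comm.1
        ((map_commutatorElement (QuotientGroup.mk' (fittingSubgroup G)) d m).symm.trans h)).symm
    rw [← hxy', hτmk]
    refine (QuotientGroup.eq.2 ?_).symm
    exact hd2
  -- hence so is `F(G ⧸ F₂)`, hence everything
  have hFfix : ∀ y ∈ fittingSubgroup (G ⧸ fitting2 G), τY y = y := by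
    have h : fittingSubgroup (G ⧸ fitting2 G) ≤
        MonoidHom.eqLocus τY.toMonoidHom (MonoidHom.id _) := by
      rw [CfsgLib.Base.fittingSubgroup_eq_iSup_pCore]
      exact iSup_le fun p y hy => hcore p p.2 y hy
    exact fun y hy => h hy
  set z : G ⧸ fitting2 G := (g : G ⧸ fitting2 G) with hz
  set c := z⁻¹ * τY z with hc
  have hc1 : c ∈ Subgroup.centralizer (fittingSubgroup (G ⧸ fitting2 G) : Set _) := by
    rw [Subgroup.mem_centralizer_iff]
    intro f hf
    have h := hFfix (z * f * z⁻¹)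
      ((inferInstance : (fittingSubgroup (G ⧸ fitting2 G)).Normal).conj_mem f hf z)
    rw [map_mul, map_mul, map_inv, hFfix f hf, mul_inv_eq_iff_eq_mul] at h
    rw [hc]
    calc f * (z⁻¹ * τY z) = z⁻¹ * (z * f * z⁻¹ * τY z) := by group
      _ = z⁻¹ * (τY z * f) := by rw [← h]
      _ = z⁻¹ * τY z * f := by group
  have hc2 : τY c = c := hFfix c (CfsgLib.Base.centralizer_fittingSubgroup_le hc1)
  have hττ : τY (τY z) = z := by
    rw [← MulAut.mul_apply, hτY, ← pow_add, ← two_mul, ← pow_succ', Nat.sub_add_cancel hn, hz,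
      quot_congr_pow_mk σ _ (fitting2_invariant σ), hσ]
    rfl
  have hzc : τY z = z * c := by rw [hc, mul_inv_cancel_left]
  have h2 : c * c = 1 := by
    have h3 : τY (τY z) = z * c * c := by rw [hzc, map_mul, hc2, hzc]
    rw [hττ, mul_assoc] at h3
    exact (mul_eq_left.1 h3.symm)
  have h4 := eq_one_of_sq hoddY h2
  rw [hc, hz, hτmk, ← QuotientGroup.mk_inv, ← QuotientGroup.mk_mul, QuotientGroup.eq_one_iff] at h4
  exact h4

theorem exists_series (m : ℕ) : ∀ (G : Type u) [Group G] [Finite G], Group.IsSolvable G →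
    ∀ σ : MulAut G, σ ^ 2 ^ (m + 2) = 1 → (∀ g, σ g = g → g = 1) →
    ∃ f : ℕ → Subgroup G, f 0 = ⊥ ∧ f (2 * m + 2) = ⊤ ∧ Monotone f ∧ (∀ i, (f i).Normal) ∧
      ∀ i < 2 * m + 2, ∃ k, (f (i + 1)).lowerCentralSeries k ≤ f i := by
  induction m with
  | zero =>
    intro G _ _ hG σ hσ hfix
    refine ⟨fun | 0 => ⊥ | 1 => fittingSubgroup G | _ => ⊤, rfl, rfl,
      monotone_nat_of_le_succ fun | 0 => bot_le | 1 => le_top | _ + 2 => le_rfl, ?_, ?_⟩
    · intro i
      match i with
      | 0 => exact (inferInstance : (⊥ : Subgroup G).Normal)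
      | 1 => exact CfsgLib.Base.fittingSubgroup_normal' G
      | _ + 2 => exact (inferInstance : (⊤ : Subgroup G).Normal)
    · intro i hi
      match i, hi with
      | 0, _ => exact lcs_nilpotent (CfsgLib.Base.isNilpotent_fittingSubgroup G) _
      | 1, _ =>
        refine ⟨1, ?_⟩
        rw [Subgroup.lowerCentralSeries_succ, Subgroup.lowerCentralSeries_zero]
        exact CfsgLib.Base.le_fittingSubgroup (N := commutator G)
          (CfsgLib.FpfFour.isNilpotent_commutator _ G rfl hG σ hσ hfix)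
  | succ m ih =>
    intro G _ _ hG σ hσ hfix
    haveI := hG
    have hσY : (QuotientGroup.congr (fitting2 G) (fitting2 G) σ (fitting2_invariant σ) :
        MulAut (G ⧸ fitting2 G)) ^ 2 ^ (m + 2) = 1 := MulEquiv.ext fun y => by
      obtain ⟨x, rfl⟩ := QuotientGroup.mk_surjective y
      rw [quot_congr_pow_mk, MulAut.one_apply]
      exact (QuotientGroup.eq.2 (top_trivial_mod_fitting2 hG σ (by omega) hσ hfix x)).symm
    obtain ⟨f, h0, htop, hmono, hnor, hstep⟩ := ih (G ⧸ fitting2 G) inferInstance _ hσY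
      (CfsgLib.FpfFour.quotient_fixedPointFree hfix _ (fitting2_invariant σ))
    let π := QuotientGroup.mk' (fitting2 G)
    have hf2 : (f 0).comap π = fitting2 G := by
      rw [h0, MonoidHom.comap_bot, QuotientGroup.ker_mk']
    refine ⟨fun | 0 => ⊥ | 1 => fittingSubgroup G | i + 2 => (f i).comap π, rfl, ?_,
      monotone_nat_of_le_succ fun
        | 0 => bot_le
        | 1 => (fitting_le_fitting2 G).trans hf2.ge
        | i + 2 => Subgroup.comap_mono (hmono i.le_succ), ?_, ?_⟩
    · show (f (2 * (m + 1))).comap π = ⊤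
      rw [show 2 * (m + 1) = 2 * m + 2 by omega, htop, Subgroup.comap_top]
    · intro i
      match i with
      | 0 => exact (inferInstance : (⊥ : Subgroup G).Normal)
      | 1 => exact CfsgLib.Base.fittingSubgroup_normal' G
      | i + 2 => exact (hnor i).comap π
    · intro i hi
      match i, hi with
      | 0, _ => exact lcs_nilpotent (CfsgLib.Base.isNilpotent_fittingSubgroup G) _
      | 1, _ =>
        obtain ⟨k, hk⟩ := lcs_nilpotent
          (CfsgLib.Base.isNilpotent_fittingSubgroup (G ⧸ fittingSubgroup G)) ⊥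
        refine ⟨k, ?_⟩
        show ((f 0).comap π).lowerCentralSeries k ≤ fittingSubgroup G
        refine (lcs_le_comap (QuotientGroup.mk' (fittingSubgroup G))
          (QuotientGroup.mk'_surjective _) hf2 hk).trans ?_
        rw [MonoidHom.comap_bot, QuotientGroup.ker_mk']
      | i + 2, hi =>
        obtain ⟨k, hk⟩ := hstep i (by omega)
        exact ⟨k, lcs_le_comap π (QuotientGroup.mk'_surjective _) rfl hk⟩

end CfsgLib.GrossFpf
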