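import Cfsg.Agent.Lib.GrossFpf.Eigen

/-!
Projective representations of an abelian group with nondegenerate commutator form, normalised by
an operator `S` of order `N` inducing a fixed-point-free automorphism: either `S` has a non-zero fixed
vector, or the group has order `1` or `(N - 1) ^ 2`.
-/

set_option autoImplicit false
set_option linter.style.haveILetI false
set_option linter.unusedSectionVars false

namespace CfsgLib.GrossFpf

open Module

variable {Ω : Type*} [Field Ω]

/-- The combinatorial core: almost constant autocorrelation and a missing value. -/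
theorem count_autocorrelation {N : ℕ} [NeZero N] (m : ZMod N → ℕ) (a : ℕ)
    (hG : ∀ j, ∑ k, m (k + j) * m k = a + if j = 0 then 1 else 0) {k₀ : ZMod N} (h0 : m k₀ = 0) :
    ∑ k, m k = 1 ∨ ∑ k, m k + 1 = N := by
  have hle : ∀ k, m k ≤ 1 := by
    intro k
    by_cases hk : k = k₀
    · subst hk; omega
    set j := k - k₀ with hj
    have hj0 : j ≠ 0 := sub_ne_zero.2 hk
    have h1 := hG 0
    have h2 := hG j
    simp only [add_zero, if_true] at h1
    simp only [if_neg hj0, add_zero] at h2
    have hz1 : ∑ l, ((m l : ℤ) * m l) = a + 1 := by exact_mod_cast h1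
    have hz2 : ∑ l, ((m (l + j) : ℤ) * m l) = a := by exact_mod_cast h2
    have hz3 : ∑ l, ((m (l + j) : ℤ) * m (l + j)) = a + 1 := by
      rw [Fintype.sum_equiv (Equiv.addRight j) (fun l => (m (l + j) : ℤ) * m (l + j))
        (fun l => (m l : ℤ) * m l) fun l => rfl, hz1]
    have hsq : ∑ l, ((m (l + j) : ℤ) - m l) ^ 2 = 2 := by
      rw [Finset.sum_congr rfl fun l _ => show ((m (l + j) : ℤ) - m l) ^ 2 =
          (m (l + j) : ℤ) * m (l + j) + (m l : ℤ) * m l - 2 * ((m (l + j) : ℤ) * m l) by ring,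
        Finset.sum_sub_distrib, Finset.sum_add_distrib, ← Finset.mul_sum, hz1, hz2, hz3]
      ring
    have hk2 := Finset.single_le_sum (f := fun l => ((m (l + j) : ℤ) - m l) ^ 2)
      (fun l _ => sq_nonneg _) (Finset.mem_univ k₀)
    simp only [hsq, h0, show k₀ + j = k by rw [hj]; abel, Nat.cast_zero, sub_zero] at hk2
    by_contra hgt
    have : (2 : ℤ) ≤ m k := by omega
    nlinarith
  set d := ∑ k, m k with hd
  have hd0 : d = a + 1 := by
    have h1 := hG 0
    simp only [add_zero, if_true] at h1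
    rw [hd, ← h1]
    refine Finset.sum_congr rfl fun k _ => ?_
    have := hle k
    interval_cases (m k) <;> rfl
  have hdd : d * d = N * a + 1 := by
    have h1 : ∑ j, ∑ k, m (k + j) * m k = d * d := by
      rw [Finset.sum_comm, hd, Finset.sum_mul]
      refine Finset.sum_congr rfl fun k _ => ?_
      rw [← Finset.sum_mul, Fintype.sum_equiv (Equiv.addLeft k) (fun j => m (k + j)) m fun _ => rfl,
        mul_comm]
    rw [← h1, Finset.sum_congr rfl fun j _ => hG j, Finset.sum_add_distrib, Finset.sum_const,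
      Finset.card_univ, ZMod.card, smul_eq_mul, Finset.sum_ite_eq' Finset.univ (0 : ZMod N)
        (fun _ => (1 : ℕ)), if_pos (Finset.mem_univ _)]
  rcases Nat.eq_zero_or_pos a with ha | ha
  · left; omega
  · right
    have : a * (a + 2) = a * N := by rw [hd0] at hdd; linarith
    have := Nat.eq_of_mul_eq_mul_left ha this
    omega

variable {U : Type*} [AddCommGroup U] [Module Ω U] {E : Type*} [CommGroup E]

/-- A projective representation with commutator form `ω`. -/
structure ProjRep (T : E → End Ω U) (ω : E → E → Ω) : Prop where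
  one : T 1 = 1
  mul : ∀ e f, ∃ c : Ω, c ≠ 0 ∧ T e * T f = c • T (e * f)
  swap : ∀ f e, T f * T e = ω f e • (T e * T f)
  nondeg : ∀ e, e ≠ 1 → ∃ f, ω f e ≠ 1

namespace ProjRep

variable {T : E → End Ω U} {ω : E → E → Ω} (D : ProjRep T ω)
include D

theorem exists_inv (e : E) : ∃ R : End Ω U, T e * R = 1 ∧ R * T e = 1 ∧ ∃ c : Ω, R = c • T e⁻¹ := by
  obtain ⟨c, hc, h1⟩ := D.mul e e⁻¹
  obtain ⟨c', hc', h2⟩ := D.mul e⁻¹ e
  rw [mul_inv_cancel, D.one] at h1
  rw [inv_mul_cancel, D.one] at h2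
  have h3 : T e * (c⁻¹ • T e⁻¹) = 1 := by rw [mul_smul_comm, h1, smul_smul, inv_mul_cancel₀ hc, one_smul]
  have h4 : (c'⁻¹ • T e⁻¹) * T e = 1 := by rw [smul_mul_assoc, h2, smul_smul, inv_mul_cancel₀ hc', one_smul]
  have h5 : c'⁻¹ • T e⁻¹ = c⁻¹ • T e⁻¹ := left_inv_eq_right_inv h4 h3
  exact ⟨c⁻¹ • T e⁻¹, h3, h5 ▸ h4, _, rfl⟩

/-- The inverse of `T e`. -/
noncomputable def inv (e : E) : End Ω U := (D.exists_inv e).choose

theorem mul_inv_self (e : E) : T e * D.inv e = 1 := (D.exists_inv e).choose_spec.1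
theorem inv_mul_self (e : E) : D.inv e * T e = 1 := (D.exists_inv e).choose_spec.2.1
theorem inv_eq (e : E) : ∃ c : Ω, D.inv e = c • T e⁻¹ := (D.exists_inv e).choose_spec.2.2

theorem inv_one : D.inv 1 = 1 := by simpa [D.one] using D.mul_inv_self 1

theorem inv_mul (e f : E) : ∃ c : Ω, c ≠ 0 ∧ T e * T f = c • T (e * f) ∧
    D.inv f * D.inv e = c⁻¹ • D.inv (e * f) := by
  obtain ⟨c, hc, h⟩ := D.mul e f
  refine ⟨c, hc, h, left_inv_eq_right_inv (a := T e * T f) ?_ ?_⟩
  · rw [mul_assoc, ← mul_assoc (D.inv e), D.inv_mul_self, one_mul, D.inv_mul_self]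
  · rw [h, smul_mul_smul_comm, D.mul_inv_self, mul_inv_cancel₀ hc, one_smul]

/-- Conjugation by `T e`. -/
noncomputable def conj (e : E) (X : End Ω U) : End Ω U := T e * X * D.inv e

theorem conj_conj (e f : E) (X : End Ω U) : D.conj e (D.conj f X) = D.conj (e * f) X := by
  obtain ⟨c, hc, h1, h2⟩ := D.inv_mul e f
  simp only [conj]
  rw [show T e * (T f * X * D.inv f) * D.inv e = (T e * T f) * X * (D.inv f * D.inv e) by
    simp only [mul_assoc], h1, h2, smul_mul_assoc, smul_mul_assoc, mul_smul_comm, smul_smul,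
    mul_inv_cancel₀ hc, one_smul]

theorem conj_T (f e : E) : D.conj f (T e) = ω f e • T e := by
  rw [conj, D.swap, smul_mul_assoc, mul_assoc, D.mul_inv_self, mul_one]

theorem conj_mul (f : E) (X Y : End Ω U) : D.conj f (X * Y) = D.conj f X * D.conj f Y := by
  simp only [conj, mul_assoc]
  rw [← mul_assoc (D.inv f) (T f), D.inv_mul_self, one_mul]

theorem conj_smul (f : E) (c : Ω) (X : End Ω U) : D.conj f (c • X) = c • D.conj f X := by
  simp [conj, mul_smul_comm, smul_mul_assoc]

theorem T_ne_zero [Nontrivial U] (e : E) : T e ≠ 0 := fun h => by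
  simpa [h] using D.mul_inv_self e

theorem form_ne_zero [Nontrivial U] (f e : E) : ω f e ≠ 0 := fun h => by
  have h1 := D.conj_T f e
  rw [h, zero_smul, conj] at h1
  have h2 : D.inv f * (T f * T e * D.inv f) * T f = 0 := by rw [h1]; simp
  rw [mul_assoc, mul_assoc (T f * T e), D.inv_mul_self, mul_one, ← mul_assoc, D.inv_mul_self,
    one_mul] at h2
  exact D.T_ne_zero e h2

theorem form_mul_right [Nontrivial U] (f e e' : E) : ω f (e * e') = ω f e * ω f e' := by
  obtain ⟨c, hc, h⟩ := D.mul e e'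
  have h1 := D.conj_mul f (T e) (T e')
  rw [h, D.conj_smul, D.conj_T, D.conj_T, D.conj_T, smul_mul_smul_comm, h, smul_smul, smul_smul,
    mul_comm c] at h1
  exact mul_right_cancel₀ hc (smul_left_injective Ω (D.T_ne_zero _) h1)

theorem form_mul_left [Nontrivial U] (f g e : E) : ω (f * g) e = ω f e * ω g e := by
  have h1 := D.conj_conj f g (T e)
  rw [D.conj_T, D.conj_smul, D.conj_T, D.conj_T, smul_smul, mul_comm] at h1
  exact (smul_left_injective Ω (D.T_ne_zero _) h1).symm

theorem nondeg_left [Nontrivial U] (f : E) (hf : f ≠ 1) : ∃ e, ω f e ≠ 1 := by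
  obtain ⟨e, he⟩ := D.nondeg f hf
  refine ⟨e, fun h => he ?_⟩
  have h1 := D.swap f e
  rw [h, one_smul] at h1
  have h2 := D.swap e f
  rw [← h1] at h2
  have h3 : (1 : Ω) • (T f * T e) = ω e f • (T f * T e) := by rw [one_smul, ← h2]
  refine (smul_left_injective Ω (fun h0 => ?_) h3).symm
  have : D.inv f * (T f * T e) = 0 := by rw [h0, mul_zero]
  rw [← mul_assoc, D.inv_mul_self, one_mul] at this
  exact D.T_ne_zero e this

theorem independent [Nontrivial U] [Fintype E] (a : E → Ω) (h : ∑ e, a e • T e = 0) : a = 0 := by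
  have h1 := eq_zero_of_sum_eigen
    (T := fun f : E => (LinearMap.mulRight Ω (D.inv f)) ∘ₗ (LinearMap.mulLeft Ω (T f)))
    (fun e f => ω f e) (fun e => a e • T e) Finset.univ
    (fun e _ f => by
      show T f * (a e • T e) * D.inv f = ω f e • a e • T e
      rw [show T f * (a e • T e) * D.inv f = D.conj f (a e • T e) from rfl, D.conj_smul, D.conj_T,
        smul_comm])
    (fun e _ e' _ hne => by
      obtain ⟨f, hf⟩ := D.nondeg (e * e'⁻¹) (mul_inv_eq_one.not.2 hne)
      refine ⟨f, fun heq => hf ?_⟩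
      have h2 := D.form_mul_right f (e * e'⁻¹) e'
      rw [inv_mul_cancel_right] at h2
      change ω f e = ω f e' at heq
      rw [heq] at h2
      exact (mul_eq_right₀ (D.form_ne_zero f e')).1 h2.symm) h
  funext e
  exact (smul_eq_zero.1 (h1 e (Finset.mem_univ e))).resolve_right (D.T_ne_zero e)

/-- Restriction to an invariant subspace. -/
theorem restrict (W : Submodule Ω U) (hW : ∀ e, ∀ u ∈ W, T e u ∈ W) :
    ProjRep (fun e => (T e).restrict (hW e)) ω where
  one := by ext x; simp [D.one]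
  mul e f := by
    obtain ⟨c, hc, h⟩ := D.mul e f
    refine ⟨c, hc, LinearMap.ext fun x => Subtype.ext ?_⟩
    exact LinearMap.congr_fun h x.1
  swap f e := LinearMap.ext fun x => Subtype.ext (LinearMap.congr_fun (D.swap f e) x.1)
  nondeg := D.nondeg

theorem span_eq_top [Fintype E] [IsAlgClosed Ω] [FiniteDimensional Ω U] [Nontrivial U]
    (hE : (Fintype.card E : Ω) ≠ 0)
    (hirr : ∀ X : Submodule Ω U, (∀ e, ∀ u ∈ X, T e u ∈ X) → X = ⊥ ∨ X = ⊤) (X : End Ω U) :
    ∃ a : E → Ω, ∑ e, a e • T e = X := by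
  classical
  set P := fun e => ∑ f, (ω f e)⁻¹ • D.conj f X with hP
  have hPc : ∀ g e, D.conj g (P e) = ω g e • P e := by
    intro g e
    have hlin : D.conj g (P e) = ∑ f, (ω f e)⁻¹ • D.conj (g * f) X := by
      simp only [hP, conj, Finset.mul_sum, Finset.sum_mul]
      refine Finset.sum_congr rfl fun f _ => ?_
      rw [mul_smul_comm, smul_mul_assoc]
      congr 1
      exact D.conj_conj g f X
    rw [hlin, hP, Finset.smul_sum]
    refine Fintype.sum_equiv (Equiv.mulLeft g) _ _ fun f => ?_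
    show _ = ω g e • (ω (g * f) e)⁻¹ • D.conj (g * f) X
    rw [smul_smul, D.form_mul_left, mul_inv, ← mul_assoc, mul_inv_cancel₀ (D.form_ne_zero g e), one_mul]
  have hscal : ∀ e, ∃ c : Ω, P e = c • T e := by
    intro e
    obtain ⟨c, hc⟩ := exists_scalar T hirr (P e * D.inv e) (fun g => by
      have h1 : D.conj g (D.inv e) = (ω g e)⁻¹ • D.inv e := by
        have h2 : D.conj g (T e * D.inv e) = 1 := by
          rw [D.mul_inv_self, conj, mul_one, D.mul_inv_self]
        rw [D.conj_mul, D.conj_T, smul_mul_assoc] at h2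
        have h3 := congrArg (fun Z => (ω g e)⁻¹ • (D.inv e * Z)) h2
        simp only [mul_smul_comm, smul_smul, inv_mul_cancel₀ (D.form_ne_zero g e), one_smul,
          mul_one] at h3
        rw [← mul_assoc, D.inv_mul_self, one_mul] at h3
        exact h3
      have h4 : D.conj g (P e * D.inv e) = P e * D.inv e := by
        rw [D.conj_mul, hPc, h1, smul_mul_smul_comm, mul_inv_cancel₀ (D.form_ne_zero g e), one_smul]
      conv_lhs => rw [← h4]
      rw [conj, mul_assoc, D.inv_mul_self, mul_one])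
    refine ⟨c, ?_⟩
    have := congrArg (· * T e) hc
    simpa [mul_assoc, D.inv_mul_self] using this
  choose c hc using hscal
  refine ⟨fun e => (Fintype.card E : Ω)⁻¹ * c e, ?_⟩
  have hsum : ∑ e, P e = (Fintype.card E : Ω) • X := by
    rw [hP, Finset.sum_comm, Finset.sum_eq_single (1 : E)]
    · have h1 : ∀ e, ω 1 e = 1 := fun e => by
        have := D.form_mul_left 1 1 e
        rw [mul_one] at this
        exact (mul_eq_left₀ (D.form_ne_zero 1 e)).1 this.symm
      simp only [h1, Finset.sum_const, Finset.card_univ, Nat.cast_smul_eq_nsmul]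
      simp [conj, D.one, D.inv_one]
    · intro f _ hf
      rw [← Finset.sum_smul]
      obtain ⟨e₀, he₀⟩ := D.nondeg_left f hf
      suffices h : ∑ e, (ω f e)⁻¹ = 0 by rw [h, zero_smul]
      have h2 : ∑ e, (ω f e)⁻¹ = (ω f e₀)⁻¹ * ∑ e, (ω f e)⁻¹ := by
        rw [Finset.mul_sum]
        refine (Fintype.sum_equiv (Equiv.mulLeft e₀) (fun e => (ω f e₀)⁻¹ * (ω f e)⁻¹)
          (fun e => (ω f e)⁻¹) fun e => ?_).symm
        show _ = (ω f (e₀ * e))⁻¹
        rw [D.form_mul_right, mul_inv]
      rcases eq_or_ne (∑ e, (ω f e)⁻¹) 0 with h | h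
      · exact h
      · exact absurd (inv_eq_one.1 ((mul_eq_right₀ h).1 h2.symm)) he₀
    · simp
  rw [← inv_smul_smul₀ hE X, ← hsum, Finset.smul_sum]
  refine Finset.sum_congr rfl fun e _ => ?_
  rw [hc, smul_smul]

end ProjRep

end CfsgLib.GrossFpf
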