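import Cfsg.Agent.Lib.GrossFpf.Projective

/-!
An operator of order `N` without fixed vectors normalising a nondegenerate projective representation
of `E` and inducing a fixed-point-free automorphism forces `|E| = 1` or `|E| = (N - 1) ^ 2`.
-/

set_option autoImplicit false
set_option linter.style.haveILetI false
set_option linter.unusedSectionVars false

namespace CfsgLib.GrossFpf

open Module

variable {Ω : Type*} [Field Ω] {E : Type*} [CommGroup E] [Fintype E]

/-- Eigenvectors of an operator of order `N` span. -/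
theorem span_eigen_eq_top {W : Type*} [AddCommGroup W] [Module Ω W] {N : ℕ} [NeZero N]
    (hN : (N : Ω) ≠ 0) {ξ : Ω} (hξ : IsPrimitiveRoot ξ N) (Y : End Ω W) (hY : Y ^ N = 1) :
    Submodule.span Ω {w : W | ∃ k : ℕ, Y w = ξ ^ k • w} = ⊤ := by
  classical
  have hN0 : 0 < N := Nat.pos_of_ne_zero (NeZero.ne N)
  refine eq_top_iff.2 fun w _ => ?_
  -- the projections
  set f := fun k : ℕ => ∑ i ∈ Finset.range N, (ξ ^ k)⁻¹ ^ i • (Y ^ i) w with hf
  have hξ0 : ξ ≠ 0 := hξ.ne_zero (NeZero.ne N)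
  have hfe : ∀ k, Y (f k) = ξ ^ k • f k := by
    intro k
    have hc : (ξ ^ k)⁻¹ ^ N = 1 := by
      rw [inv_pow, ← pow_mul, mul_comm, pow_mul, hξ.pow_eq_one, one_pow, inv_one]
    have h2 := Finset.sum_range_succ' (fun i => (ξ ^ k)⁻¹ ^ i • (Y ^ i) w) N
    have h3 := Finset.sum_range_succ (fun i => (ξ ^ k)⁻¹ ^ i • (Y ^ i) w) N
    rw [hc, hY, Module.End.one_apply, one_smul] at h3
    simp only [pow_zero, Module.End.one_apply, one_smul] at h2
    rw [h3] at h2
    have h4 := add_right_cancel h2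
    simp only [hf, map_sum, map_smul, Finset.smul_sum]
    conv_rhs => rw [← Finset.smul_sum, h4, Finset.smul_sum]
    refine Finset.sum_congr rfl fun i _ => ?_
    rw [smul_smul, pow_succ (ξ ^ k)⁻¹ i, mul_left_comm, mul_inv_cancel₀ (pow_ne_zero k hξ0),
      mul_one, pow_succ' Y i, Module.End.mul_apply]
  have hmem : ∑ k ∈ Finset.range N, f k ∈ Submodule.span Ω {w : W | ∃ k : ℕ, Y w = ξ ^ k • w} :=
    Submodule.sum_mem _ fun k _ => Submodule.subset_span ⟨k, hfe k⟩
  have hsum : ∑ k ∈ Finset.range N, f k = (N : Ω) • w := by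
    simp only [hf]
    rw [Finset.sum_comm, Finset.sum_eq_single 0]
    · simp [Nat.cast_smul_eq_nsmul]
    · intro i hi hi0
      rw [← Finset.sum_smul]
      suffices h : ∑ k ∈ Finset.range N, (ξ ^ k)⁻¹ ^ i = 0 by rw [h, zero_smul]
      have hne : ξ⁻¹ ^ i ≠ 1 := hξ.inv.pow_ne_one_of_pos_of_lt hi0 (Finset.mem_range.1 hi)
      rw [Finset.sum_congr rfl fun k _ => show (ξ ^ k)⁻¹ ^ i = (ξ⁻¹ ^ i) ^ k by
        rw [← inv_pow, ← pow_mul, ← pow_mul, mul_comm], geom_sum_eq hne, ← pow_mul, mul_comm,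
        pow_mul, inv_pow, hξ.pow_eq_one, inv_one, one_pow, sub_self, zero_div]
    · intro h; exact absurd (Finset.mem_range.2 hN0) h
  rw [hsum] at hmem
  have := Submodule.smul_mem _ (N : Ω)⁻¹ hmem
  rwa [inv_smul_smul₀ hN] at this

/-- A cyclic free action has an equivariant map to `ZMod N` away from `1`. -/
theorem exists_orbit_index {N : ℕ} [NeZero N] (ρ : MulAut E) (hρN : ρ ^ N = 1)
    (hfree : ∀ i, 0 < i → i < N → ∀ e, (ρ ^ i) e = e → e = 1) :
    ∃ h : E → ZMod N, ∀ e, e ≠ 1 → h (ρ e) = h e + 1 := by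
  classical
  let O := fun e : E => {x : E | ∃ i : ℤ, (ρ ^ i) e = x}
  have hOmem : ∀ e, e ∈ O e := fun e => ⟨0, by simp⟩
  let rep : Set E → E := fun S => if h : S.Nonempty then h.some else 1
  have hex : ∀ e, ∃ i : ℤ, (ρ ^ i) (rep (O e)) = e := by
    intro e
    have hne : (O e).Nonempty := ⟨e, hOmem e⟩
    simp only [rep, dif_pos hne]
    obtain ⟨i, hi⟩ := hne.some_mem
    exact ⟨-i, by rw [← hi, ← MulAut.mul_apply, ← zpow_add, neg_add_cancel, zpow_zero]; rfl⟩
  choose idx hidx using hex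
  refine ⟨fun e => (idx e : ZMod N), fun e he => ?_⟩
  have hO : O (ρ e) = O e := by
    ext x
    constructor
    · rintro ⟨i, hi⟩
      exact ⟨i + 1, by rw [← hi, zpow_add, zpow_one, MulAut.mul_apply]⟩
    · rintro ⟨i, hi⟩
      exact ⟨i - 1, by
        rw [← hi, ← MulAut.mul_apply, ← zpow_add_one, sub_add_cancel]⟩
  set r := rep (O e) with hr
  have h1 : (ρ ^ idx e) r = e := hidx e
  have h2 : (ρ ^ idx (ρ e)) r = ρ e := by
    have := hidx (ρ e)
    rwa [hO] at this
  have h3 : (ρ ^ (idx (ρ e) - idx e - 1)) (ρ e) = ρ e := by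
    have h8 : ρ e = (ρ ^ (1 + idx e)) r := by rw [zpow_one_add, MulAut.mul_apply, h1]
    refine (congrArg _ h8).trans ?_
    rw [← MulAut.mul_apply, ← zpow_add]
    exact (congrArg (fun j : ℤ => (ρ ^ j) r) (by ring)).trans h2
  set i := idx (ρ e) - idx e - 1 with hi
  have hN0 : (N : ℤ) ≠ 0 := by exact_mod_cast NeZero.ne N
  have h4 : (ρ ^ (i % (N : ℤ)).toNat) (ρ e) = ρ e := by
    rw [← zpow_natCast, Int.toNat_of_nonneg (Int.emod_nonneg _ hN0)]
    conv_rhs => rw [← h3]
    rw [show i = i % (N : ℤ) + (N : ℤ) * (i / N) from (Int.emod_add_mul_ediv i N).symm, zpow_add,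
      zpow_mul, zpow_natCast, hρN, one_zpow, mul_one]
    simp
  have h5 : (i % (N : ℤ)).toNat = 0 := by
    by_contra hne
    refine he (ρ.injective ?_)
    rw [map_one]
    exact hfree _ (Nat.pos_of_ne_zero hne)
      ((Int.toNat_lt (Int.emod_nonneg _ hN0)).2 (Int.emod_lt_of_pos _ (by omega))) _ h4
  have h6 : i % (N : ℤ) = 0 := by
    have := Int.emod_nonneg i hN0
    omega
  have h7 : (i : ZMod N) = 0 := (ZMod.intCast_zmod_eq_zero_iff_dvd i N).2 (Int.dvd_of_emod_eq_zero h6)
  rw [hi, Int.cast_sub, Int.cast_sub, Int.cast_one] at h7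
  linear_combination h7

variable {U : Type*} [AddCommGroup U] [Module Ω U] {T : E → End Ω U} {ω : E → E → Ω}

theorem card_eq [IsAlgClosed Ω] [FiniteDimensional Ω U] [Nontrivial U] (D : ProjRep T ω)
    (hE : (Fintype.card E : Ω) ≠ 0) {N : ℕ} (hN : 2 ≤ N) (hNΩ : (N : Ω) ≠ 0)
    (S : End Ω U) (hS : S ^ N = 1) (hfix : ∀ u, S u = u → u = 0) (ρ : MulAut E)
    (hST : ∀ e, ∃ c : Ω, c ≠ 0 ∧ S * T e = c • (T (ρ e) * S)) (hρN : ρ ^ N = 1)
    (hfree : ∀ i, 0 < i → i < N → ∀ e, (ρ ^ i) e = e → e = 1) :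
    Fintype.card E = 1 ∨ Fintype.card E = (N - 1) ^ 2 := by
  classical
  haveI : NeZero N := ⟨by omega⟩
  choose c hc0 hc using hST
  set S' := S ^ (N - 1) with hS'
  have hSS' : S * S' = 1 := by rw [hS', ← pow_succ', Nat.sub_add_cancel (by omega), hS]
  have hS'S : S' * S = 1 := by rw [hS', ← pow_succ, Nat.sub_add_cancel (by omega), hS]
  set θ := fun X : End Ω U => S * X * S' with hθ
  have hθmul : ∀ X Z, θ (X * Z) = θ X * θ Z := fun X Z => by
    simp only [hθ, mul_assoc]
    rw [← mul_assoc S' S, hS'S, one_mul]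
  have hθsmul : ∀ (a : Ω) X, θ (a • X) = a • θ X := fun a X => by
    simp only [hθ, mul_smul_comm, smul_mul_assoc]
  have hθT : ∀ e, θ (T e) = c e • T (ρ e) := fun e => by
    show S * T e * S' = _
    rw [hc, smul_mul_assoc, mul_assoc, hSS', mul_one]
  have hc1 : c 1 = 1 := by
    have h := hθT 1
    simp only [hθ, map_one, D.one, mul_one, hSS'] at h
    exact (smul_left_injective Ω (one_ne_zero (α := End Ω U)) (by simpa using h)).symm
  have hθinv : ∀ e, θ (D.inv e) = (c e)⁻¹ • D.inv (ρ e) := by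
    intro e
    refine left_inv_eq_right_inv (a := c e • T (ρ e)) ?_ ?_
    · rw [← hθT, ← hθmul, D.inv_mul_self]
      simp [hθ, hSS']
    · rw [smul_mul_smul_comm, D.mul_inv_self, mul_inv_cancel₀ (hc0 e), one_smul]
  -- the intertwiner
  set Y := ∑ e, θ (T e) * D.inv e with hY
  have hYT : ∀ f, θ (T f) * Y = Y * T f := by
    intro f
    rw [hY, Finset.mul_sum, Finset.sum_mul]
    refine Fintype.sum_equiv (Equiv.mulLeft f) _ _ fun e => ?_
    show θ (T f) * (θ (T e) * D.inv e) = θ (T (f * e)) * D.inv (f * e) * T f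
    obtain ⟨d, hd, h1, h2⟩ := D.inv_mul f e
    rw [← mul_assoc, ← hθmul, h1, hθsmul,
      show D.inv e = (D.inv e * D.inv f) * T f by rw [mul_assoc, D.inv_mul_self, mul_one], h2]
    simp only [smul_mul_assoc, mul_smul_comm, mul_assoc, smul_smul, inv_mul_cancel₀ hd, one_smul]
  have hYfix : θ Y = Y := by
    have hθsum : θ Y = ∑ e, θ (θ (T e) * D.inv e) := by
      simp only [hθ, hY, Finset.mul_sum, Finset.sum_mul]
    rw [hθsum]
    refine Fintype.sum_equiv ρ.toEquiv _ _ fun e => ?_
    show θ (θ (T e) * D.inv e) = θ (T (ρ e)) * D.inv (ρ e)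
    rw [hθmul, hθinv]
    conv_lhs => rw [hθT, hθsmul]
    rw [smul_mul_smul_comm, mul_inv_cancel₀ (hc0 e), one_smul]
  have hYS : S * Y = Y * S := by
    conv_rhs => rw [← hYfix]
    simp only [hθ, mul_assoc, hS'S, mul_one]
  -- the algebra spanned by the `T e`
  let Φ : (E → Ω) →ₗ[Ω] End Ω U :=
    { toFun := fun a => ∑ e, a e • T e
      map_add' := fun a b => by simp [add_smul, Finset.sum_add_distrib]
      map_smul' := fun r a => by simp [Finset.smul_sum, smul_smul] }
  have hΦ : ∀ a, Φ a = ∑ e, a e • T e := fun _ => rfl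
  have hA1 : (1 : End Ω U) ∈ LinearMap.range Φ :=
    ⟨fun e => if e = 1 then 1 else 0, by simp [hΦ, D.one]⟩
  have hAT : ∀ e, T e ∈ LinearMap.range Φ := fun e =>
    ⟨fun x => if x = e then 1 else 0, by simp [hΦ]⟩
  have hAmul : ∀ X Z, X ∈ LinearMap.range Φ → Z ∈ LinearMap.range Φ →
      X * Z ∈ LinearMap.range Φ := by
    rintro _ _ ⟨a, rfl⟩ ⟨b, rfl⟩
    rw [hΦ, hΦ, Finset.sum_mul]
    refine Submodule.sum_mem _ fun e _ => ?_
    rw [Finset.mul_sum]
    refine Submodule.sum_mem _ fun f _ => ?_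
    obtain ⟨d, -, hd⟩ := D.mul e f
    rw [smul_mul_smul_comm, hd, smul_smul]
    exact Submodule.smul_mem _ _ (hAT _)
  -- `Y` is a combination with non-zero coefficient at `1`
  have hterm : ∀ e, ∃ a : Ω, a ≠ 0 ∧ θ (T e) * D.inv e = a • T (ρ e * e⁻¹) := by
    intro e
    obtain ⟨a, ha⟩ := D.inv_eq e
    have ha0 : a ≠ 0 := fun h => by
      have := D.mul_inv_self e
      rw [ha, h, zero_smul, mul_zero] at this
      exact zero_ne_one this
    obtain ⟨d, hd, hd'⟩ := D.mul (ρ e) e⁻¹
    exact ⟨c e * a * d, mul_ne_zero (mul_ne_zero (hc0 e) ha0) hd, by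
      rw [hθT, ha, smul_mul_smul_comm, hd', smul_smul]⟩
  choose a ha0 hat using hterm
  have hδ : Function.Bijective fun e : E => ρ e * e⁻¹ := by
    refine Finite.injective_iff_bijective.1 fun e f hef => ?_
    refine mul_inv_eq_one.1 (hfree 1 one_pos (by omega) (e * f⁻¹) ?_)
    rw [pow_one, map_mul, map_inv]
    replace hef : ρ e * e⁻¹ = ρ f * f⁻¹ := hef
    have h : ρ e = ρ f * f⁻¹ * e := by rw [← hef, inv_mul_cancel_right]
    rw [h, mul_right_comm (ρ f) f⁻¹ e, mul_comm (ρ f), mul_assoc, mul_assoc, mul_comm f⁻¹,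
      ← mul_assoc (ρ f), mul_inv_cancel, one_mul]
  let δ : E ≃ E := Equiv.ofBijective _ hδ
  have hYb : Y = Φ (fun x => a (δ.symm x)) := by
    rw [hY, hΦ]
    refine Fintype.sum_equiv δ _ _ fun e => ?_
    rw [hat, Equiv.symm_apply_apply]
    rfl
  have hYA : Y ∈ LinearMap.range Φ := ⟨_, hYb.symm⟩
  have hYpowA : ∀ i, Y ^ i ∈ LinearMap.range Φ := by
    intro i
    induction i with
    | zero => simpa using hA1
    | succ i ih => rw [pow_succ]; exact hAmul _ _ ih hYA
  -- an irreducible subspace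
  obtain ⟨W, ⟨hWne, hWinv⟩, hWmin⟩ : ∃ W : Submodule Ω U,
      (W ≠ ⊥ ∧ ∀ e, ∀ u ∈ W, T e u ∈ W) ∧
      ∀ X : Submodule Ω U, (X ≠ ⊥ ∧ ∀ e, ∀ u ∈ X, T e u ∈ X) → finrank Ω W ≤ finrank Ω X := by
    have hne : {X : Submodule Ω U | X ≠ ⊥ ∧ ∀ e, ∀ u ∈ X, T e u ∈ X}.Nonempty :=
      ⟨⊤, top_ne_bot, fun _ u _ => Submodule.mem_top⟩
    obtain ⟨W, hW, hmin⟩ := (InvImage.wf (fun X : Submodule Ω U => finrank Ω X) wellFounded_lt).has_min
      _ hne
    exact ⟨W, hW, fun X hX => not_lt.1 (hmin X hX)⟩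
  haveI : Nontrivial W := Submodule.nontrivial_iff_ne_bot.2 hWne
  let DW := D.restrict W hWinv
  have hirr : ∀ X : Submodule Ω W, (∀ e, ∀ u ∈ X, (T e).restrict (hWinv e) u ∈ X) → X = ⊥ ∨ X = ⊤ := by
    intro X hX
    by_cases hb : X = ⊥
    · exact Or.inl hb
    refine Or.inr (Submodule.eq_top_of_finrank_eq (le_antisymm (Submodule.finrank_le X) ?_))
    rw [← Submodule.finrank_map_subtype_eq W X]
    refine hWmin _ ⟨fun h => hb (eq_bot_iff.2 fun x hx => by
      have h1 := Submodule.mem_map_of_mem (f := W.subtype) hx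
      rw [h, Submodule.mem_bot] at h1
      exact (Submodule.mem_bot _).2 (Subtype.ext h1)),
      fun e u hu => ?_⟩
    obtain ⟨x, hx, rfl⟩ := Submodule.mem_map.1 hu
    exact Submodule.mem_map.2 ⟨_, hX e x hx, rfl⟩
  have hinvA : ∀ X : Submodule Ω U, (∀ e, ∀ u ∈ X, T e u ∈ X) → ∀ Z ∈ LinearMap.range Φ,
      ∀ u ∈ X, Z u ∈ X := by
    rintro X hX _ ⟨b, rfl⟩ u hu
    rw [hΦ, LinearMap.sum_apply]
    exact X.sum_mem fun e _ => X.smul_mem _ (hX e u hu)
  have hdet : ∀ X : Submodule Ω U, X ≠ ⊥ → (∀ e, ∀ u ∈ X, T e u ∈ X) → ∀ Z ∈ LinearMap.range Φ,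
      (∀ u ∈ X, Z u = 0) → Z = 0 := by
    rintro X hX hXinv _ ⟨b, rfl⟩ hz
    haveI : Nontrivial X := Submodule.nontrivial_iff_ne_bot.2 hX
    have := (D.restrict X hXinv).independent b (LinearMap.ext fun u => Subtype.ext (by
      have h := hz u u.2
      rw [hΦ, LinearMap.sum_apply] at h
      simpa [LinearMap.sum_apply] using h))
    rw [this, map_zero]
  have hY0 : Y ≠ 0 := fun h => by
    have h1 := D.independent (fun x => a (δ.symm x)) (by rw [← hΦ, ← hYb, h])
    exact ha0 _ (congrFun h1 1)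
  have hYinj : ∀ u ∈ W, Y u = 0 → u = 0 := by
    let K : Submodule Ω W := LinearMap.ker (Y.restrict (hinvA W hWinv Y hYA))
    have hK : ∀ u : W, u ∈ K ↔ Y (u : U) = 0 := fun u => by
      simp [K, Subtype.ext_iff]
    rcases hirr K (fun e u hu => by
        rw [hK] at hu ⊢
        have h := LinearMap.congr_fun (hYT e) (u : U)
        simp only [Module.End.mul_apply, hu, map_zero] at h
        exact h.symm) with h | h
    · intro u hu hu0
      have : (⟨u, hu⟩ : W) ∈ K := (hK _).2 hu0
      rw [h, Submodule.mem_bot] at this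
      exact congrArg Subtype.val this
    · exact absurd (hdet W hWne hWinv Y hYA fun u hu => (hK ⟨u, hu⟩).1 (h ▸ Submodule.mem_top)) hY0
  -- conjugation by powers
  have hSpowY : ∀ k, S ^ k * Y = Y * S ^ k := fun k => ((show Commute S Y from hYS).pow_left k).eq
  have hpow : ∀ (k : ℕ) f, Y ^ k * T f * S ^ k = S ^ k * T f * Y ^ k := by
    intro k
    induction k with
    | zero => simp
    | succ k ih =>
      intro f
      have h1 : Y * T f * S = S * T f * Y := by
        rw [← hYT f]; simp only [hθ, mul_assoc]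
        rw [← hYS, ← mul_assoc S' S, hS'S, one_mul]
      calc Y ^ (k + 1) * T f * S ^ (k + 1) = Y * (Y ^ k * T f * S ^ k) * S := by
            rw [pow_succ', pow_succ]; simp only [mul_assoc]
        _ = Y * (S ^ k * T f * Y ^ k) * S := by rw [ih]
        _ = S ^ k * (Y * T f * S) * Y ^ k := by
            have h2 : Y ^ k * S = S * Y ^ k := ((show Commute Y S from hYS.symm).pow_left k).eq
            simp only [mul_assoc, h2]
            rw [← mul_assoc Y (S ^ k), ← hSpowY]
            simp only [mul_assoc]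
        _ = S ^ (k + 1) * T f * Y ^ (k + 1) := by
            rw [h1, pow_succ, pow_succ']; simp only [mul_assoc]
  have hYNc : ∀ f, Y ^ N * T f = T f * Y ^ N := fun f => by simpa [hS] using hpow N f
  -- normalise
  obtain ⟨c₀, hc₀⟩ := exists_scalar (fun e => (T e).restrict (hWinv e)) hirr
    ((Y ^ N).restrict (hinvA W hWinv _ (hYpowA N))) (fun f => LinearMap.ext fun u => Subtype.ext
      (LinearMap.congr_fun (hYNc f) u.1))
  have hYN : Y ^ N = c₀ • 1 := by
    refine sub_eq_zero.1 (hdet W hWne hWinv _ (Submodule.sub_mem _ (hYpowA N)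
      (Submodule.smul_mem _ _ hA1)) fun u hu => ?_)
    rw [LinearMap.sub_apply, LinearMap.smul_apply, Module.End.one_apply, sub_eq_zero]
    exact congrArg Subtype.val (LinearMap.congr_fun hc₀ ⟨u, hu⟩)
  have hc₀0 : c₀ ≠ 0 := by
    intro h
    obtain ⟨u, hu, hu0⟩ := Submodule.exists_mem_ne_zero_of_ne_bot hWne
    have hkill : ∀ k, ∀ v ∈ W, (Y ^ k) v = 0 → v = 0 := by
      intro k
      induction k with
      | zero => intro v _ hv; simpa using hv
      | succ k ih =>
        intro v hv hk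
        rw [pow_succ, Module.End.mul_apply] at hk
        exact hYinj v hv (ih _ (hinvA W hWinv Y hYA v hv) hk)
    exact hu0 (hkill N u hu (by rw [hYN, h, zero_smul, LinearMap.zero_apply]))
  obtain ⟨z, hz⟩ := IsAlgClosed.exists_pow_nat_eq c₀ (n := N) (by omega)
  have hz0 : z ≠ 0 := fun h => hc₀0 (by rw [← hz, h, zero_pow (by omega)])
  set Y0 := z⁻¹ • Y with hY0def
  have hY0N : Y0 ^ N = 1 := by
    rw [hY0def, smul_pow, inv_pow, hz, hYN, smul_smul, inv_mul_cancel₀ hc₀0, one_smul]
  have hY0A : ∀ i, Y0 ^ i ∈ LinearMap.range Φ := fun i => by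
    rw [hY0def, smul_pow]; exact Submodule.smul_mem _ _ (hYpowA i)
  have hY0A' : Y0 ∈ LinearMap.range Φ := by simpa using hY0A 1
  have hY0S : Commute S Y0 := by
    show S * Y0 = Y0 * S
    rw [hY0def, mul_smul_comm, smul_mul_assoc, hYS]
  have hY0T : ∀ f, θ (T f) * Y0 = Y0 * T f := fun f => by
    rw [hY0def, mul_smul_comm, smul_mul_assoc, hYT]
  -- the commuting part
  set M := S * Y0 ^ (N - 1) with hM
  have hY0Y0 : Y0 ^ (N - 1) * Y0 = 1 := by rw [← pow_succ, Nat.sub_add_cancel (by omega), hY0N]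
  have hY0Y0' : Y0 * Y0 ^ (N - 1) = 1 := by rw [← pow_succ', Nat.sub_add_cancel (by omega), hY0N]
  have hMY : M * Y0 = S := by rw [hM, mul_assoc, hY0Y0, mul_one]
  have hMT : ∀ f, M * T f = T f * M := by
    intro f
    have h1 : Y0 ^ (N - 1) * θ (T f) = T f * Y0 ^ (N - 1) := by
      have h := congrArg (fun Z => Y0 ^ (N - 1) * Z * Y0 ^ (N - 1)) (hY0T f)
      simp only [mul_assoc] at h
      rw [hY0Y0', mul_one, ← mul_assoc, ← mul_assoc (Y0 ^ (N - 1)) Y0, hY0Y0, one_mul] at h
      exact h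
    have h2 : θ (T f) * S = S * T f := by simp only [hθ, mul_assoc, hS'S, mul_one]
    calc M * T f = Y0 ^ (N - 1) * (S * T f) := by
          rw [hM, (hY0S.pow_right (N - 1)).eq, mul_assoc]
      _ = Y0 ^ (N - 1) * θ (T f) * S := by rw [← h2]; exact (mul_assoc _ _ _).symm
      _ = T f * M := by rw [h1, mul_assoc, ← (hY0S.pow_right (N - 1)).eq]
  have hMY0 : Commute M Y0 := hY0S.mul_left (Commute.pow_self Y0 (N - 1))
  have hMN : M ^ N = 1 := by
    rw [hM, (hY0S.pow_right (N - 1)).mul_pow, hS, one_mul, ← pow_mul, mul_comm, pow_mul, hY0N,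
      one_pow]
  obtain ⟨μ, hμ⟩ := Module.End.exists_eigenvalue M
  obtain ⟨v, hv⟩ := hμ.exists_hasEigenvector
  have hμN : μ ^ N = 1 := by
    have h : (M ^ N) v = μ ^ N • v := hv.pow_apply N
    rw [hMN, Module.End.one_apply] at h
    exact (smul_left_injective Ω hv.2 (by simpa using h)).symm
  have hμ0 : μ ≠ 0 := fun h => by rw [h, zero_pow (by omega)] at hμN; exact zero_ne_one hμN
  set Uμ := LinearMap.ker (M - μ • 1) with hUμ
  have hUmem : ∀ u, u ∈ Uμ ↔ M u = μ • u := fun u => by simp [hUμ, sub_eq_zero]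
  have hUne : Uμ ≠ ⊥ := fun h => by
    have : v ∈ Uμ := (hUmem v).2 hv.apply_eq_smul
    rw [h, Submodule.mem_bot] at this
    exact hv.2 this
  have hUinv : ∀ e, ∀ u ∈ Uμ, T e u ∈ Uμ := fun e u hu => (hUmem _).2 (by
    have := LinearMap.congr_fun (hMT e) u
    simp only [Module.End.mul_apply] at this
    rw [this, (hUmem u).1 hu, map_smul])
  -- `μ⁻¹` is not an eigenvalue of `Y0` on `W`
  have hmiss : ∀ w ∈ W, Y0 w = μ⁻¹ • w → w = 0 := by
    intro w hw hwe
    by_contra hw0
    set f := ∑ i ∈ Finset.range N, μ ^ i • Y0 ^ i with hf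
    have hfA : f ∈ LinearMap.range Φ :=
      Submodule.sum_mem _ fun i _ => Submodule.smul_mem _ _ (hY0A i)
    have hfw : f w = (N : Ω) • w := by
      have hpw : ∀ i, (Y0 ^ i) w = μ⁻¹ ^ i • w := by
        intro i
        induction i with
        | zero => simp
        | succ i ih => rw [pow_succ', Module.End.mul_apply, ih, map_smul, hwe, smul_smul, ← pow_succ]
      simp only [hf, LinearMap.sum_apply, LinearMap.smul_apply, hpw, smul_smul]
      rw [Finset.sum_congr rfl fun i _ => show (μ ^ i * μ⁻¹ ^ i) • w = w by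
        rw [← mul_pow, mul_inv_cancel₀ hμ0, one_pow, one_smul]]
      simp [Nat.cast_smul_eq_nsmul]
    have hf0 : f ≠ 0 := fun h => by
      rw [h, LinearMap.zero_apply] at hfw
      exact hw0 ((smul_eq_zero.1 hfw.symm).resolve_left hNΩ)
    obtain ⟨x, hx, hfx⟩ : ∃ x ∈ Uμ, f x ≠ 0 := by
      by_contra hall
      push Not at hall
      exact hf0 (hdet Uμ hUne hUinv f hfA hall)
    refine hfx (hfix _ ?_)
    have hYf : μ • (Y0 * f) = f := by
      rw [hf, Finset.mul_sum, Finset.smul_sum]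
      have h2 := Finset.sum_range_succ' (fun i => μ ^ i • Y0 ^ i) N
      have h3 := Finset.sum_range_succ (fun i => μ ^ i • Y0 ^ i) N
      simp only [pow_zero, one_smul] at h2
      rw [hμN, hY0N, one_smul] at h3
      rw [h3] at h2
      conv_rhs => rw [add_right_cancel h2]
      refine Finset.sum_congr rfl fun i _ => ?_
      rw [mul_smul_comm, smul_smul, ← pow_succ', ← pow_succ']
    have hin : f x ∈ Uμ := hinvA Uμ hUinv f hfA x hx
    rw [← hMY, Module.End.mul_apply,
      show M (Y0 (f x)) = Y0 (M (f x)) from LinearMap.congr_fun hMY0.eq (f x),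
      (hUmem _).1 hin, map_smul]
    exact LinearMap.congr_fun hYf x
  -- eigenbasis on `W`
  haveI : NeZero ((N : ℕ) : Ω) := ⟨hNΩ⟩
  obtain ⟨ξ, hξ⟩ := HasEnoughRootsOfUnity.exists_primitiveRoot Ω N
  set Y1 : End Ω W := Y0.restrict (hinvA W hWinv Y0 hY0A') with hY1
  have hY1pow : ∀ (i : ℕ) (u : W), ((Y1 ^ i) u : U) = (Y0 ^ i) (u : U) := by
    intro i
    induction i with
    | zero => intro u; rfl
    | succ i ih =>
      intro u
      rw [pow_succ', Module.End.mul_apply, pow_succ', Module.End.mul_apply, ← ih]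
      rfl
  have hY1N : Y1 ^ N = 1 := LinearMap.ext fun u => Subtype.ext (by rw [hY1pow, hY0N]; rfl)
  obtain ⟨bs, hbsub, hbspan, hbind⟩ :=
    exists_linearIndependent Ω {w : W | ∃ k : ℕ, Y1 w = ξ ^ k • w}
  let b : Basis bs Ω W := Basis.mk hbind (by
    rw [Subtype.range_coe, hbspan, span_eigen_eq_top hNΩ hξ Y1 hY1N])
  haveI : Fintype bs := FiniteDimensional.fintypeBasisIndex b
  let χ := AddChar.zmodChar N hξ.pow_eq_one
  have hχ : ∀ k : ℕ, χ (k : ZMod N) = ξ ^ k := fun k => AddChar.zmodChar_apply' hξ.pow_eq_one k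
  have hχinj : ∀ x y, χ x = χ y → x = y := by
    intro x y h
    rw [AddChar.zmodChar_apply, AddChar.zmodChar_apply] at h
    exact ZMod.val_injective N (hξ.pow_inj (ZMod.val_lt x) (ZMod.val_lt y) h)
  have hbe : ∀ i : bs, ∃ k : ℕ, Y1 (b i) = ξ ^ k • b i := fun i => by
    rw [show b i = i.1 from Basis.mk_apply _ _ i]
    exact hbsub i.2
  choose kk hkk using hbe
  set κ := fun i : bs => (kk i : ZMod N) with hκ
  have hκb : ∀ i, Y1 (b i) = χ (κ i) • b i := fun i => by rw [hκ, hχ]; exact hkk i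
  set m := fun k : ZMod N => (Finset.univ.filter fun i => κ i = k).card with hm
  have hsum_m : ∑ k, m k = Fintype.card bs := by
    rw [hm, ← Finset.card_eq_sum_card_fiberwise (fun i _ => Finset.mem_univ _)]
    rfl
  have hm0 : ∃ k₀, m k₀ = 0 := by
    have hinv : (μ⁻¹) ^ N = 1 := by rw [inv_pow, hμN, inv_one]
    obtain ⟨j, -, hj⟩ := hξ.eq_pow_of_pow_eq_one hinv
    refine ⟨(j : ZMod N), Finset.card_eq_zero.2 (Finset.filter_eq_empty_iff.2 fun i _ hi => ?_)⟩
    refine b.ne_zero i (Subtype.ext (hmiss _ (b i).2 ?_))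
    have h := congrArg Subtype.val (hκb i)
    rw [hi, hχ, hj] at h
    exact h
  -- `End W` in the two coordinate systems
  have hE' : (Fintype.card E : Ω) ≠ 0 := hE
  have hLsurj : ∀ X : End Ω W, ∃ a : E → Ω, ∑ e, a e • (T e).restrict (hWinv e) = X :=
    fun X => DW.span_eq_top hE' hirr X
  let ΦW : (E → Ω) →ₗ[Ω] End Ω W :=
    { toFun := fun a => ∑ e, a e • (T e).restrict (hWinv e)
      map_add' := fun a b => by simp [add_smul, Finset.sum_add_distrib]
      map_smul' := fun r a => by simp [Finset.smul_sum, smul_smul] }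
  have hΦW : ∀ (a : E → Ω) (u : W), (ΦW a u : U) = Φ a u := fun a u => by
    simp [ΦW, hΦ, LinearMap.sum_apply]
  let ΦE : (E → Ω) ≃ₗ[Ω] End Ω W := LinearEquiv.ofBijective ΦW
    ⟨(injective_iff_map_eq_zero ΦW).2 fun a ha => DW.independent a ha, hLsurj⟩
  let L : (E → Ω) ≃ₗ[Ω] Matrix bs bs Ω := ΦE.trans (LinearMap.toMatrix b b)
  -- twisted eigenspaces
  let P : ZMod N → Submodule Ω (Matrix bs bs Ω) := fun k =>
    { carrier := {x | ∀ i j, κ i - κ j ≠ k → x i j = 0}
      add_mem' := fun {x y} hx hy i j h => by simp [hx i j h, hy i j h]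
      zero_mem' := fun _ _ _ => rfl
      smul_mem' := fun r x hx i j h => by simp [hx i j h] }
  let K : ZMod N → Submodule Ω (E → Ω) := fun k =>
    { carrier := {a | ∀ e, c e * a e = χ k * a (ρ e)}
      add_mem' := fun {x y} hx hy e => by
        simp only [Pi.add_apply, mul_add, hx e, hy e]
      zero_mem' := fun _ => by simp
      smul_mem' := fun r x hx e => by
        simp only [Pi.smul_apply, smul_eq_mul]
        linear_combination r * hx e }
  have hθΦ : ∀ a : E → Ω, θ (Φ a) = Φ (fun e => c (ρ.symm e) * a (ρ.symm e)) := by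
    intro a
    rw [hΦ, hΦ]
    simp only [hθ, Finset.mul_sum, Finset.sum_mul]
    refine Fintype.sum_equiv ρ.toEquiv _ _ fun e => ?_
    show θ (a e • T e) = _
    rw [hθsmul, hθT, smul_smul, mul_comm]
    simp
  have hθY : ∀ a : E → Ω, θ (Φ a) * Y0 = Y0 * Φ a := by
    intro a
    have hlin : θ (Φ a) = ∑ e, a e • θ (T e) := by
      simp only [hΦ, hθ, Finset.mul_sum, Finset.sum_mul, mul_smul_comm, smul_mul_assoc]
    rw [hlin, hΦ, Finset.sum_mul, Finset.mul_sum]
    exact Finset.sum_congr rfl fun e _ => by rw [smul_mul_assoc, hY0T, mul_smul_comm]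
  have hKP : ∀ k a, a ∈ K k ↔ L a ∈ P k := by
    intro k a
    have hK1 : a ∈ K k ↔ (fun e => c (ρ.symm e) * a (ρ.symm e)) = χ k • a := by
      constructor
      · intro h; funext e
        have := h (ρ.symm e)
        rwa [MulEquiv.apply_symm_apply] at this
      · intro h e
        have := congrFun h (ρ e)
        simpa using this
    have hK2 : a ∈ K k ↔ θ (Φ a) = χ k • Φ a := by
      rw [hK1, hθΦ, ← map_smul]
      exact ⟨fun h => by rw [h], fun h => by
        rw [← sub_eq_zero, ← map_sub] at h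
        exact sub_eq_zero.1 (D.independent _ h)⟩
    have hK3 : θ (Φ a) = χ k • Φ a ↔ Y1 * ΦW a = χ k • (ΦW a * Y1) := by
      constructor
      · intro h
        refine LinearMap.ext fun u => Subtype.ext ?_
        show Y0 (ΦW a u : U) = χ k • (ΦW a (Y1 u) : U)
        rw [hΦW, hΦW]
        have := LinearMap.congr_fun (hθY a) (u : U)
        rw [h] at this
        exact this.symm
      · intro h
        have hmem : θ (Φ a) - χ k • Φ a ∈ LinearMap.range Φ :=
          Submodule.sub_mem _ (hθΦ a ▸ LinearMap.mem_range_self _ _)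
            (Submodule.smul_mem _ _ (LinearMap.mem_range_self _ _))
        refine sub_eq_zero.1 (hdet W hWne hWinv _ hmem fun u hu => ?_)
        rw [LinearMap.sub_apply, sub_eq_zero]
        obtain ⟨w, hw⟩ : ∃ w : W, Y1 w = ⟨u, hu⟩ :=
          ⟨(Y1 ^ (N - 1)) ⟨u, hu⟩, by
            rw [← Module.End.mul_apply, ← pow_succ', Nat.sub_add_cancel (by omega), hY1N]; rfl⟩
        have h1 := congrArg Subtype.val (LinearMap.congr_fun h w)
        have h2 := LinearMap.congr_fun (hθY a) (w : U)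
        simp only [Module.End.mul_apply] at h1 h2
        rw [show Y0 (w : U) = u from congrArg Subtype.val hw] at h2
        rw [h2]
        have h3 : Y0 (Φ a (w : U)) = χ k • (ΦW a (Y1 w) : U) := by rw [← hΦW]; exact h1
        rw [h3, hΦW, hw]
        rfl
    rw [hK2, hK3]
    have hcoord : ∀ i j, b.repr ((Y1 * ΦW a) (b j)) i = χ (κ i) * L a i j := by
      intro i j
      rw [Module.End.mul_apply, show L a i j = b.repr (ΦW a (b j)) i from
        LinearMap.toMatrix_apply b b _ i j]
      have := congrArg (fun X : W →ₗ[Ω] Ω => X (ΦW a (b j))) (b.ext (f₁ := (b.coord i) ∘ₗ Y1)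
        (f₂ := χ (κ i) • b.coord i) fun l => by
          simp only [LinearMap.comp_apply, LinearMap.smul_apply, hκb, map_smul, Basis.coord_apply,
            Basis.repr_self, Finsupp.single_apply, smul_eq_mul]
          split_ifs with h <;> simp [h])
      simpa using this
    have hcoord' : ∀ i j, b.repr ((χ k • (ΦW a * Y1)) (b j)) i = χ (k + κ j) * L a i j := by
      intro i j
      rw [LinearMap.smul_apply, Module.End.mul_apply, hκb, map_smul, map_smul, map_smul,
        Finsupp.smul_apply, Finsupp.smul_apply, smul_eq_mul, smul_eq_mul, ← mul_assoc,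
        AddChar.map_add_eq_mul,
        show L a i j = b.repr (ΦW a (b j)) i from LinearMap.toMatrix_apply b b _ i j]
    constructor
    · intro h i j hne
      have h1 := hcoord i j
      rw [h, hcoord'] at h1
      by_contra hx
      exact hne (by linear_combination -hχinj _ _ (mul_right_cancel₀ hx h1))
    · intro h
      refine b.ext fun j => b.ext_elem fun i => ?_
      rw [hcoord, hcoord']
      by_cases hne : κ i - κ j = k
      · rw [← hne, sub_add_cancel]
      · rw [h i j hne, mul_zero, mul_zero]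
  have hdim : ∀ k, finrank Ω (K k) = ∑ l, m (l + k) * m l := by
    intro k
    have hmap : (K k).map (L : (E → Ω) →ₗ[Ω] Matrix bs bs Ω) = P k := by
      ext x
      constructor
      · rintro ⟨a, ha, rfl⟩; exact (hKP k a).1 ha
      · intro hx
        exact ⟨L.symm x, (hKP k _).2 (by simpa using hx), by simp⟩
    rw [← LinearEquiv.finrank_map_eq L (K k), hmap]
    let σk := {p : bs × bs // κ p.1 - κ p.2 = k}
    let eP : P k ≃ₗ[Ω] (σk → Ω) :=
      { toFun := fun x p => x.1 p.1.1 p.1.2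
        map_add' := fun _ _ => rfl
        map_smul' := fun _ _ => rfl
        invFun := fun g => ⟨Matrix.of fun i j => if h : κ i - κ j = k then g ⟨(i, j), h⟩ else 0,
          fun i j h => by simp [h]⟩
        left_inv := fun x => Subtype.ext (Matrix.ext fun i j => by
          by_cases h : κ i - κ j = k
          · simp [h]
          · simp [h, x.2 i j h])
        right_inv := fun g => funext fun p => by simp [p.2] }
    rw [eP.finrank_eq, finrank_pi, Fintype.card_subtype,
      Finset.card_eq_sum_card_fiberwise (f := fun p : bs × bs => κ p.2) (t := Finset.univ)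
        (fun _ _ => Finset.mem_univ _)]
    refine Finset.sum_congr rfl fun l _ => ?_
    rw [hm, ← Finset.card_product, Finset.filter_filter]
    congr 1
    ext p
    simp only [Finset.mem_filter, Finset.mem_univ, true_and, Finset.mem_product]
    constructor
    · rintro ⟨h1, h2⟩; exact ⟨by rw [← h1, ← h2]; ring, h2⟩
    · rintro ⟨h1, h2⟩; exact ⟨by rw [h1, h2]; ring, h2⟩
  -- the twist
  obtain ⟨h, hh⟩ := exists_orbit_index ρ hρN hfree
  have hρ1 : ∀ e, ρ e = 1 ↔ e = 1 := fun e => map_eq_one_iff ρ ρ.injective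
  let π1 : (E → Ω) →ₗ[Ω] Ω := LinearMap.proj 1
  let K0 : ZMod N → Submodule Ω (E → Ω) := fun k => K k ⊓ LinearMap.ker π1
  let tw : ZMod N → (E → Ω) →ₗ[Ω] (E → Ω) := fun j =>
    { toFun := fun a e => χ (j * h e) * a e
      map_add' := fun a b => funext fun e => by simp [mul_add]
      map_smul' := fun r a => funext fun e => by simp [mul_left_comm] }
  have hK0le : ∀ k j, finrank Ω (K0 k) ≤ finrank Ω (K0 (k - j)) := by
    intro k j
    have hmaps : ∀ a ∈ K0 k, tw j a ∈ K0 (k - j) := by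
      rintro a ⟨ha, ha1⟩
      have ha1' : a 1 = 0 := ha1
      refine ⟨fun e => ?_, show χ (j * h 1) * a 1 = 0 by rw [ha1', mul_zero]⟩
      by_cases he : e = 1
      · subst he; simp [tw, ha1']
      · show c e * (χ (j * h e) * a e) = χ (k - j) * (χ (j * h (ρ e)) * a (ρ e))
        rw [hh e he, ← mul_assoc (χ (k - j)), ← AddChar.map_add_eq_mul,
          show k - j + j * (h e + 1) = j * h e + k by ring, AddChar.map_add_eq_mul]
        linear_combination χ (j * h e) * ha e
    refine LinearMap.finrank_le_finrank_of_injective (f := (tw j).restrict hmaps)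
      fun x y hxy => Subtype.ext (funext fun e => ?_)
    have h1 := congrFun (congrArg Subtype.val hxy) e
    refine mul_left_cancel₀ (a := χ (j * h e)) ?_ h1
    rw [AddChar.zmodChar_apply]
    exact pow_ne_zero _ (hξ.ne_zero (NeZero.ne N))
  have hK0eq : ∀ k, finrank Ω (K0 k) = finrank Ω (K0 0) := fun k => le_antisymm
    (by have := hK0le k k; rwa [sub_self] at this)
    (by have := hK0le 0 (-k); rwa [zero_sub, neg_neg] at this)
  have hKdim : ∀ k, finrank Ω (K k) = finrank Ω (K0 0) + if k = 0 then 1 else 0 := by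
    intro k
    by_cases hk : k = 0
    · subst hk
      rw [if_pos rfl]
      have hsurj : Function.Surjective (π1.domRestrict (K 0)) := fun r =>
        ⟨⟨fun e => if e = 1 then r else 0, fun e => by
          by_cases he : e = 1
          · subst he; simp [hc1]
          · simp [he, mt (hρ1 e).1 he]⟩, by simp [π1]⟩
      have h1 := (π1.domRestrict (K 0)).finrank_range_add_finrank_ker
      rw [LinearMap.range_eq_top.2 hsurj, finrank_top, finrank_self,
        LinearMap.ker_domRestrict] at h1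
      rw [show finrank Ω (K0 0) = finrank Ω ↥(Submodule.comap (K 0).subtype (LinearMap.ker π1)) from ?_]
      · omega
      · rw [← Submodule.finrank_map_subtype_eq (K 0), Submodule.map_comap_subtype]
    · rw [if_neg hk, add_zero, ← hK0eq k]
      have hle : K k ≤ LinearMap.ker π1 := by
        intro a ha
        have h1 := ha 1
        rw [hc1, one_mul, map_one] at h1
        by_contra hne
        refine hk (hχinj _ _ ?_)
        rw [AddChar.map_zero_eq_one]
        exact ((mul_eq_right₀ (show a 1 ≠ 0 from hne)).1 h1.symm)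
      show _ = finrank Ω ↥(K k ⊓ LinearMap.ker π1)
      rw [inf_eq_left.2 hle]
  obtain ⟨k₀, hk₀⟩ := hm0
  have hcardE : Fintype.card E = Fintype.card bs * Fintype.card bs := by
    have h1 := L.finrank_eq
    rwa [finrank_pi, Module.finrank_matrix, finrank_self, mul_one] at h1
  rcases count_autocorrelation m (finrank Ω (K0 0)) (fun j => by rw [← hdim, hKdim]) hk₀ with h1 | h1
  · left; rw [hsum_m] at h1; rw [hcardE, h1]
  · right; rw [hsum_m] at h1
    rw [hcardE, ← h1, pow_two]; simp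

end CfsgLib.GrossFpf
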